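import Groth.Agent.CurveDeg.Euler
import Groth.Agent.CohFinite.AffinePush

/-! Cohomology and Euler characteristics of direct images along affine maps. -/

set_option autoImplicit false
set_option backward.isDefEq.respectTransparency false

noncomputable section

universe u

open CategoryTheory Limits AlgebraicGeometry Opposite TopologicalSpace Groth.Agent.QCohBase
open Groth.Agent.CohFinite

namespace Groth.Agent.CurveDeg

variable {X X' : Scheme.{u}} (π : X' ⟶ X) {A : Type u} [CommRing A] [X.Over (Spec (CommRingCat.of A))]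
  [X'.Over (Spec (CommRingCat.of A))]

/-- Acyclic direct images compute cohomology, linearly. -/
theorem nonempty_hhPush_of_isZero (hπ : π ≫ (X ↘ Spec (CommRingCat.of A)) = X' ↘ Spec (CommRingCat.of A))
    (M : X'.Modules) (hR : ∀ k, IsZero ((Coh.Rpush π (k + 1)).obj M)) (p : ℕ) :
    Nonempty (Coh.HH X' M p ≃ₗ[A] Coh.HH X ((Coh.push π).obj M) p) := by
  cases p with
  | zero => exact ⟨hhZero π A hπ M⟩
  | succ p =>
  have hepi : ∀ k, ((cosyzSeq M k).map (Coh.push π)).ShortExact := fun k => by
    obtain ⟨e⟩ := nonempty_Rpush_cosyz π M k 0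
    refine CompDerived.shortExact_map (Coh.push π) (cosyzSeq_shortExact M k) ((hR k).of_iso (e ≪≫ eqToIso ?_))
    rw [show 0 + k + 1 = k + 1 by omega]
  suffices key : ∀ r k,
      Nonempty (Coh.HH X' (cosyz M k) (r + 1) ≃ₗ[A] Coh.HH X ((Coh.push π).obj (cosyz M k)) (r + 1)) from
    key p 0
  intro r
  induction r with
  | zero =>
    intro k
    let δ := hhDelta A (cosyzSeq_shortExact M k) 0
    let δ' := hhDelta A (hepi k) 0
    have hδ : Function.Surjective δ := hhDelta_surjective_of_subsingleton _ 0
      (subsingleton_HH_injective _ (CompDerived.pres_injective _) 0)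
    have hδ' : Function.Surjective δ' := hhDelta_surjective_of_subsingleton _ 0
      (subsingleton_HH_push_injective π _ (CompDerived.pres_injective _) 0)
    let z : Coh.HH X' (cosyzSeq M k).X₃ 0 ≃ₗ[A]
        Coh.HH X ((cosyzSeq M k).map (Coh.push π)).X₃ 0 := hhZero π A hπ (cosyzSeq M k).X₃
    have hker : (LinearMap.ker δ).map (z : _ →ₗ[A] _) = LinearMap.ker δ' := by
      rw [← hhDelta_ker_eq_range (cosyzSeq_shortExact M k) 0, ← hhDelta_ker_eq_range (hepi k) 0,
        ← LinearMap.range_comp]
      ext y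
      constructor
      · rintro ⟨j, rfl⟩
        exact ⟨hhZero π A hπ _ j, hhZero_naturality π hπ _ j⟩
      · rintro ⟨w, rfl⟩
        obtain ⟨j, rfl⟩ := (hhZero π A hπ (cosyzSeq M k).X₂).surjective w
        exact ⟨j, (hhZero_naturality π hπ _ j).symm⟩
    exact ⟨((δ.quotKerEquivOfSurjective hδ).symm.trans (Submodule.Quotient.equiv _ _ z hker)).trans
      (δ'.quotKerEquivOfSurjective hδ')⟩
  | succ r ih =>
    intro k
    obtain ⟨e⟩ := ih (k + 1)
    have hbij : ∀ {Y : Scheme.{u}} [Y.Over (Spec (CommRingCat.of A))] {T : ShortComplex Y.Modules}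
        (hT : T.ShortExact), Subsingleton (Coh.HH Y T.X₂ (r + 1)) →
        Subsingleton (Coh.HH Y T.X₂ (r + 1 + 1)) →
        Function.Bijective (hhDelta A hT (r + 1)) := fun {Y} _ {T} hT h1 h2 => by
      refine ⟨?_, hhDelta_surjective_of_subsingleton hT _ h2⟩
      rw [← LinearMap.ker_eq_bot, ← hhDelta_ker_eq_range hT, LinearMap.range_eq_bot]
      exact LinearMap.ext fun x => (congrArg (hhMap A T.g (r + 1)) (h1.elim x 0)).trans (map_zero _)
    let d := LinearEquiv.ofBijective _ (hbij (cosyzSeq_shortExact M k)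
      (subsingleton_HH_injective _ (CompDerived.pres_injective _) r)
      (subsingleton_HH_injective _ (CompDerived.pres_injective _) (r + 1)))
    let d' := LinearEquiv.ofBijective _ (hbij (hepi k)
      (subsingleton_HH_push_injective π _ (CompDerived.pres_injective _) r)
      (subsingleton_HH_push_injective π _ (CompDerived.pres_injective _) (r + 1)))
    exact ⟨(d.symm.trans e).trans d'⟩

theorem nonempty_hhPush [IsAffineHom π]
    (hπ : π ≫ (X ↘ Spec (CommRingCat.of A)) = X' ↘ Spec (CommRingCat.of A))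
    (M : X'.Modules) (hM : Coh.IsQCoh M) (p : ℕ) :
    Nonempty (Coh.HH X' M p ≃ₗ[A] Coh.HH X ((Coh.push π).obj M) p) :=
  nonempty_hhPush_of_isZero π hπ M (fun k => isZero_Rpush_affine π M hM k) p

section

variable {k : Type u} [Field k] [X.Over (Spec (CommRingCat.of k))] [X'.Over (Spec (CommRingCat.of k))]

theorem euler_push [IsAffineHom π]
    (hπ : π ≫ (X ↘ Spec (CommRingCat.of k)) = X' ↘ Spec (CommRingCat.of k))
    (M : X'.Modules) (hM : Coh.IsQCoh M) :
    Curv2.euler k X ((Scheme.Modules.pushforward π).obj M) = Curv2.euler k X' M :=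
  finsum_congr fun i => by
    obtain ⟨e⟩ := nonempty_hhPush π hπ M hM i
    rw [← e.finrank_eq]

end

end Groth.Agent.CurveDeg
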