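import Groth.Agent.CurveDeg.Supp
import Groth.Agent.CurveDeg.Push
import Groth.Agent.Devissage.TwoThree
import Groth.Agent.QCohBase.SupportExact
import Groth.Agent.CohFinite.Devissage
import Groth.Agent.Devissage.Filtration

/-! Additive functions of coherent modules in dimension at most one. -/

set_option autoImplicit false
set_option backward.isDefEq.respectTransparency false

noncomputable section

universe u

open CategoryTheory Limits AlgebraicGeometry Opposite TopologicalSpace Groth.Agent.QCohBase

namespace Groth.Agent.CurveDeg

variable {X : Scheme.{u}}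

theorem isClosed_singleton_of_specializes (hdim : topologicalKrullDim X ≤ 1) {ξ x : X} (h : ξ ⤳ x)
    (hne : x ≠ ξ) : IsClosed ({x} : Set X) := by
  rw [← closure_subset_iff_isClosed]
  intro y hy
  by_contra hy'
  let a : IrreducibleCloseds X := ⟨closure {y}, isIrreducible_singleton.closure, isClosed_closure⟩
  let b : IrreducibleCloseds X := ⟨closure {x}, isIrreducible_singleton.closure, isClosed_closure⟩
  let c : IrreducibleCloseds X := ⟨closure {ξ}, isIrreducible_singleton.closure, isClosed_closure⟩
  have key : ∀ {p q : X}, p ∈ closure ({q} : Set X) → p ≠ q →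
      (⟨closure {p}, isIrreducible_singleton.closure, isClosed_closure⟩ : IrreducibleCloseds X) <
        ⟨closure {q}, isIrreducible_singleton.closure, isClosed_closure⟩ := fun {p q} hp hpq => by
    refine lt_of_le_of_ne (closure_minimal (Set.singleton_subset_iff.2 hp) isClosed_closure)
      fun h => hpq ?_
    have h' : closure ({p} : Set X) = closure {q} :=
      congrArg (fun s : IrreducibleCloseds X => (s : Set X)) h
    exact ((specializes_iff_mem_closure.2 (h' ▸ subset_closure rfl)).antisymm
      (specializes_iff_mem_closure.2 hp)).eq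
  have hab : a < b := key hy hy'
  have hbc : b < c := key (specializes_iff_mem_closure.1 h) hne
  have h2 : (2 : WithBot ℕ∞) ≤ topologicalKrullDim X :=
    Order.LTSeries.length_le_krullDim (((RelSeries.singleton _ a).snoc b hab).snoc c (by simpa using hbc))
  exact absurd (h2.trans hdim) (by decide)

theorem finite_closed_subset [NoetherianSpace X] (hdim : topologicalKrullDim X ≤ 1) {ξ : X}
    {C : Set X} (hC : IsClosed C) (hsub : C ⊆ closure {ξ}) (hξ : ξ ∉ C) :
    C.Finite ∧ ∀ x ∈ C, IsClosed ({x} : Set X) := by
  have hcl : ∀ x ∈ C, IsClosed ({x} : Set X) := fun x hx =>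
    isClosed_singleton_of_specializes hdim (specializes_iff_mem_closure.2 (hsub hx))
      fun h => hξ (h ▸ hx)
  refine ⟨(VarLib.finite_maximal_points hC).subset fun x hx => ⟨hx, fun y hy h => ?_⟩, hcl⟩
  exact (h.mem_closed (hcl y hy) rfl).symm

variable [AlgebraicGeometry.IsNoetherian X]

/-- An additive function vanishing on finitely supported modules and on the structure modules of
one-dimensional integral closed subschemes vanishes. -/
theorem additive_eq_zero (hdim : topologicalKrullDim X ≤ 1) (Δ : X.Modules → ℤ)
    (hiso : ∀ M N : X.Modules, Nonempty (M ≅ N) → Δ M = Δ N)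
    (hadd : ∀ S : ShortComplex X.Modules, S.ShortExact → Coh.IsCoh S.X₁ → Coh.IsCoh S.X₂ →
      Coh.IsCoh S.X₃ → Δ S.X₂ = Δ S.X₁ + Δ S.X₃)
    (hfin : ∀ M : X.Modules, Coh.IsCoh M → ∀ S : Set X, S.Finite →
      (∀ x ∈ S, IsClosed ({x} : Set X)) → CohB1.support M ⊆ S → Δ M = 0)
    (hgen : ∀ (Z : Scheme.{u}) (i : Z ⟶ X) [IsClosedImmersion i] [IsIntegral Z],
      topologicalKrullDim Z = 1 → ¬ IsClosed ({i (genericPoint Z)} : Set X) →
        Δ ((Scheme.Modules.pushforward i).obj (Coh.structureModule Z)) = 0)
    {M : X.Modules} (hM : Coh.IsCoh M) : Δ M = 0 := by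
  obtain ⟨M', hf, he⟩ := Devissage.filt_of_isCoh hM
  rw [← hiso M' M he]
  clear he hM M
  induction hf with
  | zero h hN =>
    refine hfin _ hN ∅ Set.finite_empty (by simp) fun x hx => ?_
    exact hx (subsingleton_stalk_of_isZero h x)
  | @step N N' hN φ hφ hN' Z i hi hZ I ι hι hI hI₀ he ih =>
    obtain ⟨hcI, hcO⟩ := Devissage.isCoh_push i ι hI
    have hcok : Coh.IsCoh (cokernel φ) := isCoh_cokernel φ hN.isCoh.1 hN'
    rw [hadd _ (Devissage.ses φ) hN.isCoh hN' hcok, ih, zero_add]
    rw [hiso _ _ he]
    obtain ⟨-, hξ, hsO⟩ := CohFinite.ideal_generic i I ι hI hI₀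
    have hsI : CohB1.support ((Scheme.Modules.pushforward i).obj I) ⊆ closure {i (genericPoint Z)} :=
      Devissage.support_push_subset i ι hI hI₀
    by_cases hcl : IsClosed ({i (genericPoint Z)} : Set X)
    · refine hfin _ hcI _ (Set.finite_singleton (i (genericPoint Z))) (by simpa using hcl) ?_
      exact hsI.trans (closure_subset_iff_isClosed.2 hcl |> fun h => h)
    · let k := (Scheme.Modules.pushforward i).map ι
      have : Mono k := (Scheme.Modules.pushforward i).map_mono ι
      have hck : Coh.IsCoh (cokernel k) := isCoh_cokernel k hcI.1 hcO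
      have hsub : CohB1.support (cokernel k) ⊆ closure {i (genericPoint Z)} := by
        refine (Set.subset_union_right.trans_eq
          (support_of_shortExact (Devissage.ses k) hcI.1 hcO.1 hck.1).symm).trans hsO
      obtain ⟨hfinC, hclC⟩ := finite_closed_subset hdim (isClosed_support _ hck.2) hsub hξ
      have h0 : Δ (cokernel k) = 0 := hfin _ hck _ hfinC hclC subset_rfl
      have hdimZ : topologicalKrullDim Z = 1 := by
        refine le_antisymm ((i.isClosedEmbedding.isInducing.topologicalKrullDim_le).trans hdim) ?_
        by_contra hlt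
        have h0 : topologicalKrullDim Z ≤ 0 := by
          generalize topologicalKrullDim Z = d at hlt ⊢
          induction d using WithBot.recBotCoe with
          | bot => exact bot_le
          | coe a => simp_all [ENat.lt_one_iff_eq_zero]
        apply hcl
        rw [← Set.image_singleton]
        refine i.isClosedEmbedding.isClosedMap _ ?_
        have : AlgebraicGeometry.IsLocallyNoetherian Z := LocallyOfFiniteType.isLocallyNoetherian i
        have : NoetherianSpace Z := i.isClosedEmbedding.isEmbedding.isInducing.noetherianSpace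
        exact (finite_of_dim_le_zero (X := Z) isClosed_univ
          (((Homeomorph.Set.univ Z).isInducing.topologicalKrullDim_le).trans h0)).2 _ trivial
      have h1 := hadd _ (Devissage.ses k) hcI hcO hck
      rw [h0, add_zero] at h1
      exact h1.symm.trans (hgen Z i hdimZ hcl)

end Groth.Agent.CurveDeg
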