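import Groth.Agent.CurveDeg.Twist
import Groth.Agent.CurveDeg.Devissage
import Groth.Agent.DCohBridge.StalkExact
import Groth.Agent.DCohBridge.PushProj
import Groth.Agent.QuasiFlatLib.Basic

/-! Euler characteristics of tensor products with finite locally free modules in dimension one. -/

set_option autoImplicit false
set_option backward.isDefEq.respectTransparency false
set_option backward.isDefEq.respectTransparency.types false

noncomputable section

universe u

open CategoryTheory Limits AlgebraicGeometry Opposite TopologicalSpace Groth.Agent.QCohBase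

namespace Groth.Agent.CurveDeg

variable {X : Scheme.{u}}

/-- The generic rank. -/
def gRank [IrreducibleSpace X] (F : X.Modules) : ℕ :=
  Module.finrank (X.presheaf.stalk (genericPoint X)) (F.presheaf.stalk (genericPoint X))

theorem gRank_of_iso [IrreducibleSpace X] {M N : X.Modules} (e : M ≅ N) : gRank M = gRank N :=
  ((DerSch.stalkFunctor X (genericPoint X)).mapIso e).toLinearEquiv.finrank_eq

theorem gRank_add [IsIntegral X] [IsLocallyNoetherian X] {S : ShortComplex X.Modules}
    (hS : S.ShortExact) (h₁ : Coh.IsCoh S.X₁) (h₂ : Coh.IsCoh S.X₂) (h₃ : Coh.IsCoh S.X₃) :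
    gRank S.X₂ = gRank S.X₁ + gRank S.X₃ := by
  let R := X.presheaf.stalk (genericPoint X)
  letI : Field R := inferInstanceAs (Field X.functionField)
  have hT := hS.map_of_exact (DerSch.stalkFunctor X (genericPoint X))
  let f : S.X₁.presheaf.stalk (genericPoint X) →ₗ[R] S.X₂.presheaf.stalk (genericPoint X) :=
    ((DerSch.stalkFunctor X (genericPoint X)).map S.f).hom
  let g : S.X₂.presheaf.stalk (genericPoint X) →ₗ[R] S.X₃.presheaf.stalk (genericPoint X) :=
    ((DerSch.stalkFunctor X (genericPoint X)).map S.g).hom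
  have hf : Function.Injective f := hT.moduleCat_injective_f
  have hg : Function.Surjective g := hT.moduleCat_surjective_g
  have hfg : Function.Exact f g := LinearMap.exact_iff.2 hT.exact.moduleCat_range_eq_ker.symm
  haveI : Module.Finite R (S.X₁.presheaf.stalk (genericPoint X)) :=
    QuasiFlatLib.finite_stalk _ h₁ _
  haveI : Module.Finite R (S.X₃.presheaf.stalk (genericPoint X)) :=
    QuasiFlatLib.finite_stalk _ h₃ _
  obtain ⟨s, hs⟩ := g.exists_rightInverse_of_surjective (LinearMap.range_eq_top.2 hg)
  have key := (hfg.splitSurjectiveEquiv hf ⟨s, hs⟩).1.finrank_eq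
  rw [Module.finrank_prod] at key
  exact key

theorem gRank_structureModule [IsIntegral X] : gRank (Coh.structureModule X) = 1 :=
  finrank_stalk (TensorMod.isFinLocFreeOfRank_one (L := Coh.structureModule X)
    (TensorMod.isInvertible_iff_isFinLocFreeOfRank_one.2
      (TensorMod.isFinLocFreeOfRank_of_iso (TensorMod.freeOneIso X)
        (TensorMod.isFinLocFreeOfRank_freeMod X 1)))) _

theorem genericPoint_not_mem [IrreducibleSpace X] (hdim : topologicalKrullDim X = 1) {S : Set X}
    (hcl : ∀ x ∈ S, IsClosed ({x} : Set X)) : genericPoint X ∉ S := fun h => by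
  have huniv : closure ({genericPoint X} : Set X) = Set.univ := genericPoint_spec X
  rw [(hcl _ h).closure_eq] at huniv
  have : Subsingleton X := ⟨fun a b => by
    have ha : a ∈ ({genericPoint X} : Set X) := huniv ▸ trivial
    have hb : b ∈ ({genericPoint X} : Set X) := huniv ▸ trivial
    exact ha.trans hb.symm⟩
  have : Subsingleton (IrreducibleCloseds X) := ⟨fun a b => IrreducibleCloseds.ext (by
    rw [Subsingleton.eq_univ_of_nonempty a.isIrreducible.nonempty,
      Subsingleton.eq_univ_of_nonempty b.isIrreducible.nonempty])⟩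
  have h0 : topologicalKrullDim X ≤ 0 := Order.krullDim_nonpos_of_subsingleton
  rw [hdim] at h0
  exact absurd h0 (by decide)

theorem gRank_of_finite_support [IrreducibleSpace X] (hdim : topologicalKrullDim X = 1)
    {M : X.Modules} {S : Set X} (hcl : ∀ x ∈ S, IsClosed ({x} : Set X))
    (hMS : CohB1.support M ⊆ S) : gRank M = 0 := by
  have : Subsingleton (M.presheaf.stalk (genericPoint X)) :=
    not_not.1 fun h => genericPoint_not_mem hdim hcl (hMS h)
  exact Module.finrank_zero_of_subsingleton

variable {k : Type u} [Field k] [X.Over (Spec (CommRingCat.of k))] [IsProper (X ↘ Spec (CommRingCat.of k))]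

/-- `χ(E ⊗ F) = r · deg E + n · χ(F)` on an integral curve. -/
theorem euler_tensor_curve [IsIntegral X] (hdim : topologicalKrullDim X = 1) {n : ℕ} {E : X.Modules}
    (hE : FlatMod.IsFinLocFreeOfRank n E) {F : X.Modules} (hF : Coh.IsCoh F) :
    Curv2.euler k X (CohB1.tensorMod E F) =
      (gRank F : ℤ) * Curv2.deg k X E n + n * Curv2.euler k X F := by
  have := isNoetherian_of_proper (k := k) (X := X)
  have key := additive_eq_zero hdim.le
    (fun F => Curv2.euler k X (CohB1.tensorMod E F) -
      ((gRank F : ℤ) * Curv2.deg k X E n + n * Curv2.euler k X F)) ?_ ?_ ?_ ?_ hF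
  · exact sub_eq_zero.1 key
  · intro M N ⟨e⟩
    show _ - _ = _ - _
    rw [euler_congr (k := k) (TensorMod.tensorIso (Iso.refl E) e), gRank_of_iso e, euler_congr (k := k) e]
  · intro S hS h₁ h₂ h₃
    show _ - _ = (_ - _) + (_ - _)
    rw [euler_tensorLeft_additive hE S hS h₁ h₂ h₃, euler_additive (k := k) S hS h₁ h₂ h₃,
      gRank_add hS h₁ h₂ h₃]
    push_cast
    ring
  · intro M hM S hfin hcl hMS
    show _ - _ = (0 : ℤ)
    rw [euler_tensorLeft_of_finite_support hM hE hfin hcl hMS, gRank_of_finite_support hdim hcl hMS]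
    simp
  · intro Z i _ _ hdimZ hncl
    have hξ : i (genericPoint Z) = genericPoint X := by
      by_contra h
      exact hncl (VarLib.isClosed_singleton_of_dim_le_one hdim.le h)
    have hsurj : Set.range i = Set.range (𝟙 X : X ⟶ X) := by
      have h1 : Set.range i = Set.univ := Set.eq_univ_of_univ_subset (by
        rw [← genericPoint_spec X, ← hξ]
        exact closure_minimal (Set.singleton_subset_iff.2 ⟨_, rfl⟩) i.isClosedEmbedding.isClosed_range)
      rw [h1]
      exact (Set.range_id (α := X)).symm
    obtain ⟨e⟩ := Devissage.push_structure_iso i (𝟙 X) hsurj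
    let e' : (Scheme.Modules.pushforward i).obj (Coh.structureModule Z) ≅ Coh.structureModule X :=
      e ≪≫ (Scheme.Modules.pushforwardId X).app _
    show _ - _ = (0 : ℤ)
    rw [euler_congr (k := k) (TensorMod.tensorIso (Iso.refl E) e' ≪≫ TensorMod.unitRightIso E),
      gRank_of_iso e', euler_congr (k := k) e', gRank_structureModule, Curv2.deg]
    push_cast
    ring

/-- The degree of a tensor product of locally free modules. -/
theorem deg_tensor_locFree (hdim : topologicalKrullDim X ≤ 1) {n m : ℕ} {E V : X.Modules}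
    (hE : FlatMod.IsFinLocFreeOfRank n E) (hV : FlatMod.IsFinLocFreeOfRank m V) :
    Curv2.deg k X (CohB1.tensorMod E V) (n * m) =
      n * Curv2.deg k X V m + m * Curv2.deg k X E n := by
  have := isNoetherian_of_proper (k := k) (X := X)
  have key := additive_eq_zero hdim
    (fun F => Curv2.euler k X (CohB1.tensorMod E (CohB1.tensorMod V F)) -
      m * Curv2.euler k X (CohB1.tensorMod E F) - n * Curv2.euler k X (CohB1.tensorMod V F) +
      n * m * Curv2.euler k X F) ?_ ?_ ?_ ?_ (isCoh_structureModule (k := k) (X := X))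
  · rw [euler_congr (k := k) (TensorMod.tensorIso (Iso.refl E) (TensorMod.unitRightIso V)),
      euler_congr (k := k) (TensorMod.unitRightIso E), euler_congr (k := k) (TensorMod.unitRightIso V)] at key
    simp only [Curv2.deg]
    push_cast
    linarith
  · intro M N ⟨e⟩
    show _ - _ - _ + _ = _ - _ - _ + _
    rw [euler_congr (k := k) (TensorMod.tensorIso (Iso.refl E) (TensorMod.tensorIso (Iso.refl V) e)),
      euler_congr (k := k) (TensorMod.tensorIso (Iso.refl E) e),
      euler_congr (k := k) (TensorMod.tensorIso (Iso.refl V) e), euler_congr (k := k) e]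
  · intro S hS h₁ h₂ h₃
    show _ - _ - _ + _ = (_ - _ - _ + _) + (_ - _ - _ + _)
    have hV' := TensorMod.isFinLocFree_of_rank hV
    have h4 := euler_tensorLeft_additive (k := k) hE (tensorSeq V S) (shortExact_tensorLeft hV' hS)
      (isCoh_tensorLeft hV h₁) (isCoh_tensorLeft hV h₂) (isCoh_tensorLeft hV h₃)
    change Curv2.euler k X (CohB1.tensorMod E (CohB1.tensorMod V S.X₂)) =
      Curv2.euler k X (CohB1.tensorMod E (CohB1.tensorMod V S.X₁)) +
        Curv2.euler k X (CohB1.tensorMod E (CohB1.tensorMod V S.X₃)) at h4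
    rw [h4, euler_tensorLeft_additive hE S hS h₁ h₂ h₃, euler_tensorLeft_additive hV S hS h₁ h₂ h₃,
      euler_additive (k := k) S hS h₁ h₂ h₃]
    ring
  · intro M hM S hfin hcl hMS
    show _ - _ - _ + _ = (0 : ℤ)
    rw [euler_tensorLeft_of_finite_support (isCoh_tensorLeft hV hM) hE hfin hcl
        ((support_tensorLeft_subset M hV).trans hMS),
      euler_tensorLeft_of_finite_support hM hE hfin hcl hMS,
      euler_tensorLeft_of_finite_support hM hV hfin hcl hMS]
    ring
  · intro Z i _ _ hdimZ _
    letI : Z.Over (Spec (CommRingCat.of k)) := ⟨i ≫ X ↘ Spec (CommRingCat.of k)⟩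
    haveI : IsProper (Z ↘ Spec (CommRingCat.of k)) :=
      inferInstanceAs (IsProper (i ≫ X ↘ Spec (CommRingCat.of k)))
    have hπ : i ≫ (X ↘ Spec (CommRingCat.of k)) = Z ↘ Spec (CommRingCat.of k) := rfl
    let E' := (Scheme.Modules.pullback i).obj E
    let V' := (Scheme.Modules.pullback i).obj V
    have hE' : FlatMod.IsFinLocFreeOfRank n E' := TensorMod.isFinLocFreeOfRank_pullback i hE
    have hV' : FlatMod.IsFinLocFreeOfRank m V' := TensorMod.isFinLocFreeOfRank_pullback i hV
    let P := Scheme.Modules.pushforward i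
    have proj : ∀ (M : Z.Modules) (N : X.Modules), CohB1.tensorMod N (P.obj M) ≅
        P.obj (CohB1.tensorMod M ((Scheme.Modules.pullback i).obj N)) := fun M N =>
      TensorMod.commIso N (P.obj M) ≪≫ DCohBridge.projModIso i M N
    have e1 : CohB1.tensorMod V (P.obj (Coh.structureModule Z)) ≅ P.obj V' :=
      proj _ V ≪≫ P.mapIso (TensorMod.unitLeftIso V')
    have e2 : CohB1.tensorMod E (P.obj (Coh.structureModule Z)) ≅ P.obj E' :=
      proj _ E ≪≫ P.mapIso (TensorMod.unitLeftIso E')
    have e3 : CohB1.tensorMod E (CohB1.tensorMod V (P.obj (Coh.structureModule Z))) ≅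
        P.obj (CohB1.tensorMod E' V') :=
      TensorMod.tensorIso (Iso.refl E) e1 ≪≫ proj V' E ≪≫ P.mapIso (TensorMod.commIso V' E')
    have hO : Coh.IsQCoh (Coh.structureModule Z) := TensorMod.isQCoh_structureModule Z
    have hEV : Coh.IsQCoh (CohB1.tensorMod E' V') :=
      DCohBridge.isQCoh_cohb1TensorMod (isCoh_of_rank hE').1 (isCoh_of_rank hV').1
    show _ - _ - _ + _ = (0 : ℤ)
    rw [euler_congr (k := k) e3, euler_congr (k := k) e2, euler_congr (k := k) e1,
      euler_push i hπ _ hEV, euler_push i hπ _ (isCoh_of_rank hE').1,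
      euler_push i hπ _ (isCoh_of_rank hV').1, euler_push i hπ _ hO,
      euler_tensor_curve hdimZ hE' (isCoh_of_rank hV')]
    rw [show gRank V' = m from finrank_stalk hV' _, Curv2.deg]
    ring

end Groth.Agent.CurveDeg
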