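import Groth.Agent.CohFinite.Linear
import Groth.Agent.CohFinite.Dimension
import Groth.Agent.QCohBase.CohProps

/-! Degree zero cohomology as global sections; dimension comparisons. -/

set_option autoImplicit false
set_option backward.isDefEq.respectTransparency false

noncomputable section

universe u

open CategoryTheory Limits AlgebraicGeometry Opposite TopologicalSpace Groth.Agent.QCohBase

namespace Groth.Agent.CurveDeg

variable {X : Scheme.{u}}

/-- Degree zero cohomology is global sections. -/
def secEquiv (M : X.Modules) : Coh.HH X M 0 ≃+ Γ(M, ⊤) :=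
  CategoryTheory.Sheaf.H.equiv₀ (Coh.toAb M) isTerminalTop

theorem secEquiv_map {M N : X.Modules} (φ : M ⟶ N) (x : Coh.HH X M 0) :
    secEquiv N (CategoryTheory.Sheaf.H.map ((modAb X).map φ) 0 x) = φ.app ⊤ (secEquiv M x) :=
  (CategoryTheory.Sheaf.H.equiv₀_naturality isTerminalTop ((modAb X).map φ) x).symm

theorem secEquiv_smulAb (M : X.Modules) (r : Γ(X, ⊤)) (x : Coh.HH X M 0) :
    secEquiv M (CategoryTheory.Sheaf.H.map (Coh.smulAb M r) 0 x) = r • secEquiv M x := by
  refine (CategoryTheory.Sheaf.H.equiv₀_naturality isTerminalTop (Coh.smulAb M r) x).symm.trans ?_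
  refine (Coh.smulAb_app M r (op ⊤) _).trans ?_
  have h : Coh.resTop X (op ⊤) r = r :=
    congrArg (fun g => (g : X.ringCatSheaf.obj.obj (op ⊤) ⟶ _).hom r) (X.ringCatSheaf.obj.map_id _)
  rw [h]
  rfl

variable {k : Type u} [Field k] [X.Over (Spec (CommRingCat.of k))]

variable (X) in
/-- Constants as global functions. -/
def cst (a : k) : Γ(X, ⊤) := Coh.toGlobal (X ↘ Spec (CommRingCat.of k)) a

theorem secEquiv_smul (M : X.Modules) (a : k) (x : Coh.HH X M 0) :
    secEquiv M (a • x) = cst X a • secEquiv M x :=
  secEquiv_smulAb M _ x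

/-- An additive bijection of global sections compatible with global functions preserves `h⁰`. -/
theorem finrank_HH0_congr {M N : X.Modules} (Φ : Γ(M, ⊤) ≃+ Γ(N, ⊤))
    (hΦ : ∀ (r : Γ(X, ⊤)) (m : Γ(M, ⊤)), Φ (r • m) = r • Φ m) :
    Module.finrank k (Coh.HH X M 0) = Module.finrank k (Coh.HH X N 0) :=
  (LinearEquiv.finrank_eq
    { toAddEquiv := ((secEquiv M).trans Φ).trans (secEquiv N).symm
      map_smul' := fun a x => by
        apply (secEquiv N).injective
        show secEquiv N ((secEquiv N).symm (Φ (secEquiv M (a • x)))) =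
          secEquiv N (a • (secEquiv N).symm (Φ (secEquiv M x)))
        rw [AddEquiv.apply_symm_apply, secEquiv_smul, hΦ, secEquiv_smul, AddEquiv.apply_symm_apply] })

theorem finrank_HH_congr {M N : X.Modules} (e : M ≅ N) (n : ℕ) :
    Module.finrank k (Coh.HH X M n) = Module.finrank k (Coh.HH X N n) :=
  LinearEquiv.finrank_eq
    { CohFinite.hhMap k e.hom n with
      invFun := CohFinite.hhMap k e.inv n
      left_inv := fun x => by
        show CohFinite.hhMap k e.inv n (CohFinite.hhMap k e.hom n x) = x
        rw [← CohFinite.hhMap_comp, e.hom_inv_id]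
        exact (congrArg (fun g => CategoryTheory.Sheaf.H.map g n x) ((modAb X).map_id M)).trans
          (CategoryTheory.Sheaf.H.map_id_apply _)
      right_inv := fun x => by
        show CohFinite.hhMap k e.hom n (CohFinite.hhMap k e.inv n x) = x
        rw [← CohFinite.hhMap_comp, e.inv_hom_id]
        exact (congrArg (fun g => CategoryTheory.Sheaf.H.map g n x) ((modAb X).map_id N)).trans
          (CategoryTheory.Sheaf.H.map_id_apply _) }

theorem lenN_eq_finrank (P : Type u) [AddCommGroup P] [Module k P] [Module.Finite k P] :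
    CohFinite.lenN k P = Module.finrank k P := by
  rw [CohFinite.lenN, Module.length_eq_finrank]
  rfl

end Groth.Agent.CurveDeg
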