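import Groth.Agent.CurveDeg.Curve
import Groth.Agent.DimOneAmple.Main
import Groth.Agent.GenLocus.Extend
import Groth.Agent.TwistVanish.Main

/-! Additivity of the degree on integral proper curves. -/

set_option autoImplicit false
set_option backward.isDefEq.respectTransparency false

noncomputable section

universe u

open CategoryTheory Limits AlgebraicGeometry Opposite TopologicalSpace Groth.Agent.QCohBase
open Groth.Agent.GenLocus

namespace Groth.Agent.CurveDeg

variable {k : Type u} [Field k] {X : Scheme.{u}} [X.Over (Spec (CommRingCat.of k))]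
  [IsProper (X ↘ Spec (CommRingCat.of k))]

include k in
/-- A proper curve over a field is not affine. -/
theorem not_isAffineOpen_top [IsIntegral X] (hdim : topologicalKrullDim X = 1) :
    ¬ IsAffineOpen (⊤ : X.Opens) := by
  intro h
  have hη := TwistVanish.isClosed_singleton_of_closure_subset k h (a := genericPoint X) (fun _ _ => trivial)
  have huniv : ({genericPoint X} : Set X) = Set.univ := by
    rw [← hη.closure_eq]; exact genericPoint_spec X
  have : Subsingleton X := ⟨fun a b => (Set.eq_univ_iff_forall.1 huniv a).trans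
    (Set.eq_univ_iff_forall.1 huniv b).symm⟩
  have : DiscreteTopology X := inferInstance
  have h0 := hdim.symm.le.trans (topologicalKrullDim_zero_of_discreteTopology X)
  exact absurd h0 (by decide)

omit [IsProper (X ↘ Spec (CommRingCat.of k))] in
theorem ne_zero_of_mem_genLocus {L : X.Modules}
    {s : Coh.structureModule X ⟶ L} {x : X} (hx : x ∈ CohB1.genLocus L s) : s ≠ 0 := by
  rintro rfl
  obtain ⟨U, hxU, hU⟩ := (mem_genLocus_iff _).1 hx
  have h0 : (0 : Γ(X, U)) • sect (0 : Coh.structureModule X ⟶ L) U =
      (1 : Γ(X, U)) • sect (0 : Coh.structureModule X ⟶ L) U := by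
    rw [← app_eq_smul, ← app_eq_smul]; rfl
  have h1 := hU.bijective.1 h0
  have h2 := congrArg (X.presheaf.germ U x hxU) h1
  rw [map_zero, map_one] at h2
  exact zero_ne_one h2

include k in
/-- An integral proper curve carries an invertible module with a section vanishing somewhere. -/
theorem exists_effective [IsIntegral X] (hdim : topologicalKrullDim X = 1) :
    ∃ (A : X.Modules) (s : Coh.structureModule X ⟶ A), PicF.IsInvertible A ∧ s ≠ 0 ∧
      CohB1.genLocus A s ≠ ⊤ := by
  have := isNoetherian_of_proper (k := k) (X := X)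
  have := isSeparated_of_proper (k := k) (X := X)
  obtain ⟨L, hL, -, hgen⟩ := DimOneAmple.exists_ample (X := X) hdim.le
  obtain ⟨n, s, hs, haff⟩ := hgen (genericPoint X)
  exact ⟨_, s, TensorMod.isInvertible_tensorPow hL _,
    ne_zero_of_mem_genLocus hs,
    fun h => not_isAffineOpen_top (k := k) hdim (h ▸ haff)⟩

/-- A module with nonzero `h⁰` has a nonzero global section. -/
theorem exists_ne_zero_of_finrank_pos {L : X.Modules}
    (h : 0 < Module.finrank k (Coh.HH X L 0)) : ∃ s : Coh.structureModule X ⟶ L, s ≠ 0 := by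
  obtain ⟨x, hx⟩ : ∃ x : Coh.HH X L 0, x ≠ 0 := by
    by_contra! h0
    have : Subsingleton (Coh.HH X L 0) := subsingleton_of_forall_eq 0 h0
    rw [Module.finrank_zero_of_subsingleton] at h
    exact lt_irrefl 0 h
  refine ⟨homOfSection L (secEquiv L x), fun h0 => hx ((secEquiv L).injective ?_)⟩
  rw [map_zero, ← QCohBase.mres_refl L le_rfl (secEquiv L x), ← sect_homOfSection L (secEquiv L x) ⊤, h0]
  rfl

theorem finrank_pos_of_euler_pos (hdim : topologicalKrullDim X ≤ 1) {L : X.Modules} (hL : Coh.IsCoh L)
    (h : 0 < Curv2.euler k X L) : 0 < Module.finrank k (Coh.HH X L 0) := by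
  rw [euler_eq_sub (k := k) hdim hL] at h
  omega

/-- Twisting by a module with a nonzero section adds its degree. -/
theorem euler_tensorMod_effective [IsIntegral X] (hdim : topologicalKrullDim X ≤ 1) {A M : X.Modules}
    (hA : PicF.IsInvertible A) {s : Coh.structureModule X ⟶ A} (hs : s ≠ 0)
    (hM : PicF.IsInvertible M) :
    Curv2.euler k X (CohB1.tensorMod A M) = Curv2.euler k X M + Curv2.deg k X A 1 := by
  have hO := isCoh_structureModule (k := k) (X := X)
  have hA' := TensorMod.isCoh_of_isInvertible hA
  have := mono_of_ne_zero hA hs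
  have hT : (ShortComplex.mk s (cokernel.π s) (cokernel.condition s)).ShortExact :=
    { exact := ShortComplex.exact_of_g_is_cokernel _ (cokernelIsCokernel s)
      mono_f := inferInstanceAs (Mono s)
      epi_g := inferInstanceAs (Epi (cokernel.π s)) }
  have hQ := isCoh_cokernel s hO.1 hA'
  obtain ⟨hfin, hcl⟩ := finite_closed (k := k) hdim (CohB1.genLocus A s).2.isClosed_compl
    (fun h => h (genLocus_nonempty_of_ne_zero hA hs))
  obtain ⟨w, hw⟩ := shortExact_twist hT hM
  have := isNoetherian_of_proper (k := k) (X := X)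
  have h := euler_additive (k := k) _ hw (TwistVanish.isCoh_tensorMod hO hM)
    (TwistVanish.isCoh_tensorMod hA' hM) (TwistVanish.isCoh_tensorMod hQ hM)
  dsimp only at h
  rw [h, euler_congr (TensorMod.unitLeftIso M), deg_eq_finrank hdim hA hs,
    euler_tensorMod_of_finite_support hQ hM hfin hcl (support_cokernel_subset hA' hO s),
    euler_of_finite_support hQ hfin hcl (support_cokernel_subset hA' hO s)]

/-- The degree is additive in tensor products. -/
theorem deg_tensorMod [IsIntegral X] (hdim : topologicalKrullDim X = 1) {L M : X.Modules}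
    (hL : PicF.IsInvertible L) (hM : PicF.IsInvertible M) :
    Curv2.deg k X (CohB1.tensorMod L M) 1 = Curv2.deg k X L 1 + Curv2.deg k X M 1 := by
  obtain ⟨A, s, hA, hs, hne⟩ := exists_effective (k := k) hdim
  have hdA : 0 < Curv2.deg k X A 1 := deg_pos hdim.le hA hs hne
  -- enough copies of `A` make `L` effective
  have hpow : ∀ n : ℕ, ∃ P : X.Modules, PicF.IsInvertible P ∧ ∀ N : X.Modules, PicF.IsInvertible N →
      Curv2.euler k X (CohB1.tensorMod P N) = Curv2.euler k X N + n * Curv2.deg k X A 1 := by
    intro n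
    induction n with
    | zero =>
      exact ⟨Coh.structureModule X, TensorMod.isInvertible_tensorPow hA 0, fun N _ => by
        rw [euler_congr (TensorMod.unitLeftIso N)]; simp⟩
    | succ n ih =>
      obtain ⟨P, hP, hPN⟩ := ih
      refine ⟨CohB1.tensorMod A P, TensorMod.isInvertible_tensorMod hA hP, fun N hN => ?_⟩
      rw [euler_congr (TensorMod.assocIso A P N),
        euler_tensorMod_effective hdim.le hA hs (TensorMod.isInvertible_tensorMod hP hN), hPN N hN]
      push_cast; ring
  obtain ⟨n, hn⟩ : ∃ n : ℕ, 0 < Curv2.euler k X L + (n : ℤ) * Curv2.deg k X A 1 := by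
    refine ⟨(Curv2.euler k X L).natAbs + 1, ?_⟩
    push_cast
    nlinarith [neg_abs_le (Curv2.euler k X L), abs_nonneg (Curv2.euler k X L)]
  obtain ⟨P, hP, hPN⟩ := hpow n
  have hPL := TensorMod.isInvertible_tensorMod hP hL
  obtain ⟨t, ht⟩ := exists_ne_zero_of_finrank_pos (k := k)
    (finrank_pos_of_euler_pos (k := k) hdim.le (TensorMod.isCoh_of_isInvertible hPL)
      (by rw [hPN L hL]; exact hn))
  have h1 := euler_tensorMod_effective (k := k) hdim.le hPL ht hM
  rw [euler_congr (TensorMod.assocIso P L M), hPN _ (TensorMod.isInvertible_tensorMod hL hM)] at h1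
  rw [show Curv2.deg k X (CohB1.tensorMod P L) 1 = Curv2.euler k X (CohB1.tensorMod P L) -
    1 * Curv2.euler k X (Coh.structureModule X) by simp [Curv2.deg], hPN L hL] at h1
  simp only [Curv2.deg] at h1 ⊢
  push_cast at h1 ⊢
  linarith

omit [IsProper (X ↘ Spec (CommRingCat.of k))] in
theorem deg_structureModule : Curv2.deg k X (Coh.structureModule X) 1 = 0 := by
  simp [Curv2.deg]

theorem deg_tensorPow [IsIntegral X] (hdim : topologicalKrullDim X = 1) {L : X.Modules}
    (hL : PicF.IsInvertible L) : ∀ n : ℕ, Curv2.deg k X (CohB1.tensorPow L n) 1 = n * Curv2.deg k X L 1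
  | 0 => by
    rw [CohB1.tensorPow, deg_structureModule]; simp
  | n + 1 => by
    rw [CohB1.tensorPow, deg_tensorMod hdim (TensorMod.isInvertible_tensorPow hL n) hL,
      deg_tensorPow hdim hL n]
    push_cast; ring

end Groth.Agent.CurveDeg
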