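import Groth.Agent.CurveDeg.Supp
import Groth.Agent.AffineComp.Main
import Groth.Agent.AffineComp.Images
import Groth.Agent.RedSepLib.Reduced
import Groth.Agent.CurveQProj.AffineOrProj

/-! A scheme whose components are affine is affine; curves without proper components. -/

set_option autoImplicit false
set_option backward.isDefEq.respectTransparency false
set_option backward.isDefEq.respectTransparency.types false
set_option linter.style.haveILetI false

noncomputable section

universe u

open CategoryTheory Limits AlgebraicGeometry TopologicalSpace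

namespace Groth.Agent.CurveDeg

variable {X : Scheme.{u}}

theorem isAffine_of_integral_dim_le_zero [IsIntegral X] [NoetherianSpace X]
    (h : topologicalKrullDim X ≤ 0) : IsAffine X := by
  obtain ⟨-, hcl⟩ := finite_of_dim_le_zero (X := X) isClosed_univ
    (((Homeomorph.Set.univ X).isInducing.topologicalKrullDim_le).trans h)
  have hsub : Subsingleton X := ⟨fun a b => by
    have hg : ∀ y : X, y = genericPoint X := fun y =>
      ((genericPoint_specializes y).mem_closed (hcl (genericPoint X) trivial) rfl :)
    rw [hg a, hg b]⟩
  obtain ⟨W, hW, hxW, -⟩ := Opens.isBasis_iff_nbhd.1 X.isBasis_affineOpens (U := ⊤)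
    (Opens.mem_top (genericPoint X))
  have : W = ⊤ := top_le_iff.1 fun y _ => Subsingleton.elim (genericPoint X) y ▸ hxW
  subst this
  haveI : IsAffine (⊤ : X.Opens).toScheme := hW
  exact IsAffine.of_isIso X.topIso.inv

theorem isAffine_of_components [NoetherianSpace X]
    (h : ∀ (C : Set X) (hC : C ∈ irreducibleComponents (X : Type u)), IsAffine
      (Scheme.IdealSheafData.vanishingIdeal
        ⟨C, isClosed_of_mem_irreducibleComponents C hC⟩).subscheme) : IsAffine X := by
  classical
  have := (NoetherianSpace.finite_irreducibleComponents (α := X)).to_subtype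
  have := Fintype.ofFinite ↥(irreducibleComponents (X : Type u))
  let f : ↥(irreducibleComponents (X : Type u)) → Closeds X :=
    fun Z => ⟨Z.1, isClosed_of_mem_irreducibleComponents Z.1 Z.2⟩
  let Q : Closeds X → Prop := fun C =>
    IsAffineOpen ((Scheme.IdealSheafData.vanishingIdeal C).subschemeι ⁻¹ᵁ ⊤)
  have hsup : Q (Finset.univ.sup f) := by
    refine Finset.sup_induction (p := Q) ?_ (fun C hC D hD => ?_) (fun Z _ => ?_)
    · have : ((Scheme.IdealSheafData.vanishingIdeal (⊥ : Closeds X)).subschemeι ⁻¹ᵁ ⊤) = ⊥ :=
        Opens.ext (Set.eq_empty_of_forall_notMem fun y _ => by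
          have : (Scheme.IdealSheafData.vanishingIdeal (⊥ : Closeds X)).subschemeι y ∈
              Set.range (Scheme.IdealSheafData.vanishingIdeal (⊥ : Closeds X)).subschemeι := ⟨y, rfl⟩
          rw [RedSepLib.range_vanishingIdeal_subschemeι] at this
          exact this)
      show IsAffineOpen _
      rw [this]; exact isAffineOpen_bot _
    · show IsAffineOpen _
      rw [Scheme.IdealSheafData.vanishingIdeal_sup]
      exact AffineComp.isAffineOpen_preimage_inf ⊤ hC hD
    · have := h Z.1 Z.2
      show IsAffineOpen _
      rw [Scheme.Hom.preimage_top]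
      exact isAffineOpen_top _
  have htop : Finset.univ.sup f = ⊤ := top_le_iff.1 fun x _ =>
    Finset.le_sup (f := f)
      (Finset.mem_univ ⟨_, irreducibleComponent_mem_irreducibleComponents x⟩) mem_irreducibleComponent
  rw [htop] at hsup
  let j := (Scheme.IdealSheafData.vanishingIdeal (⊤ : Closeds X)).subschemeι
  have : Surjective j := ⟨fun x => by
    have : x ∈ Set.range j := by
      rw [RedSepLib.range_vanishingIdeal_subschemeι]; trivial
    exact this⟩
  have : IsAffine (Scheme.IdealSheafData.vanishingIdeal (⊤ : Closeds X)).subscheme := by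
    haveI : IsAffine (⊤ : (Scheme.IdealSheafData.vanishingIdeal
        (⊤ : Closeds X)).subscheme.Opens).toScheme := hsup
    exact IsAffine.of_isIso (Scheme.topIso _).inv
  exact ThickAffine.isAffine_of_thickening j

variable {k : Type u} [Field k] [X.Over (Spec (CommRingCat.of k))]
  [IsSeparated (X ↘ Spec (CommRingCat.of k))] [LocallyOfFiniteType (X ↘ Spec (CommRingCat.of k))]

theorem isAffine_of_no_proper_component [AlgebraicGeometry.IsNoetherian X]
    (hdim : topologicalKrullDim X ≤ 1)
    (h : ∀ (C : Set X) (hC : C ∈ irreducibleComponents (X : Type u)), topologicalKrullDim C = 1 →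
      ¬ IsProper ((X.irreducibleComponentIdeal C hC).radical.subschemeι ≫
        (X ↘ (Spec (CommRingCat.of k))))) :
    IsAffine X := by
  refine isAffine_of_components fun C hC => ?_
  have hrad : (X.irreducibleComponentIdeal C hC).radical =
      Scheme.IdealSheafData.vanishingIdeal ⟨C, isClosed_of_mem_irreducibleComponents C hC⟩ := by
    rw [← Scheme.IdealSheafData.vanishingIdeal_support]
    congr 1
  have hp := h C hC
  rw [hrad] at hp
  let D := Scheme.IdealSheafData.vanishingIdeal ⟨C, isClosed_of_mem_irreducibleComponents C hC⟩
  let i := D.subschemeι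
  have hrange : Set.range i = C :=
    RedSepLib.range_vanishingIdeal_subschemeι ⟨C, isClosed_of_mem_irreducibleComponents C hC⟩
  have : IsIntegral D.subscheme := AffineComp.isIntegral_vanishingIdeal _ hC.1
  have hd := (i.isClosedEmbedding.isInducing.topologicalKrullDim_le).trans hdim
  have : NoetherianSpace D.subscheme := i.isClosedEmbedding.isInducing.noetherianSpace
  haveI : CompactSpace X := inferInstance
  haveI : QuasiCompact (X ↘ Spec (CommRingCat.of k)) := inferInstance
  rcases CurveQProj.affine_or_projective k (i ≫ (X ↘ Spec (CommRingCat.of k))) hd with haff | ⟨d, c, hc, hcomp⟩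
  · exact haff
  haveI : IsProper (CohB1.ProjSpace.toSpec d k) := ProjCoord.isProper_baseMap (n := d) (R := k)
  have hproper : IsProper (i ≫ (X ↘ Spec (CommRingCat.of k))) := by
    rw [← hcomp]; exact inferInstance
  refine isAffine_of_integral_dim_le_zero ?_
  have hC1 : ¬ topologicalKrullDim C = 1 := fun h1 => hp h1 hproper
  have heq : topologicalKrullDim C = topologicalKrullDim D.subscheme := by
    rw [← hrange]
    exact (IsHomeomorph.topologicalKrullDim_eq _
      i.isClosedEmbedding.isEmbedding.toHomeomorph.isHomeomorph).symm
  rw [heq] at hC1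
  generalize topologicalKrullDim D.subscheme = d at hd hC1 ⊢
  induction d using WithBot.recBotCoe with
  | bot => exact bot_le
  | coe a =>
    have : a < 1 := lt_of_le_of_ne (by exact_mod_cast hd) (by exact_mod_cast hC1)
    simp_all

end Groth.Agent.CurveDeg
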