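import Groth.Agent.CurveDeg.Additive
import Groth.Agent.CurveQProj.Affine

/-! Positive degree is ampleness on integral proper curves. -/

set_option autoImplicit false
set_option backward.isDefEq.respectTransparency false

noncomputable section

universe u

open CategoryTheory Limits AlgebraicGeometry Opposite TopologicalSpace Groth.Agent.QCohBase
open Groth.Agent.GenLocus

namespace Groth.Agent.CurveDeg

variable {k : Type u} [Field k] {X : Scheme.{u}} [X.Over (Spec (CommRingCat.of k))]
  [IsProper (X ↘ Spec (CommRingCat.of k))]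

/-- `a ⊗ b` as a section. -/
def tm (B N : X.Modules) (V : X.Opens) (a : Γ(B, V)) (b : Γ(N, V)) : Γ(CohB1.tensorMod B N, V) :=
  SecTwist.tmul B N V a b

/-- If twisting up does not lower `h¹`, global sections surject onto those of the cokernel. -/
theorem surjective_of_finrank_HH1_le (T : ShortComplex X.Modules) (hT : T.ShortExact)
    (h₁ : Coh.IsCoh T.X₁) (h₂ : Coh.IsCoh T.X₂) (h₃ : Subsingleton (Coh.HH X T.X₃ 1))
    (hle : Module.finrank k (Coh.HH X T.X₁ 1) ≤ Module.finrank k (Coh.HH X T.X₂ 1)) :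
    Function.Surjective (T.g.app ⊤) := by
  have := finite_HH (k := k) h₁ 1
  have := finite_HH (k := k) h₂ 1
  have hsurj : Function.Surjective (CohFinite.hhMap k T.f 1) := fun y => by
    have hy : y ∈ LinearMap.ker (CohFinite.hhMap k T.g 1) :=
      LinearMap.mem_ker.2 (@Subsingleton.elim _ h₃ _ _)
    rw [← CohFinite.hhMap_range_eq_ker (A := k) hT 1] at hy
    exact hy
  have heq : Module.finrank k (Coh.HH X T.X₁ 1) = Module.finrank k (Coh.HH X T.X₂ 1) :=
    le_antisymm hle (LinearMap.finrank_le_finrank_of_surjective (f := CohFinite.hhMap k T.f 1) hsurj)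
  have hinj := (LinearMap.injective_iff_surjective_of_finrank_eq_finrank heq).2 hsurj
  intro m
  have hker : (secEquiv T.X₃).symm m ∈ LinearMap.ker (CohFinite.hhDelta k hT 0) := by
    rw [LinearMap.mem_ker]
    refine hinj ?_
    rw [map_zero]
    have : CohFinite.hhDelta k hT 0 ((secEquiv T.X₃).symm m) ∈
        LinearMap.range (CohFinite.hhDelta k hT 0) := ⟨_, rfl⟩
    rw [CohFinite.hhDelta_range_eq_ker (A := k) hT 0] at this
    exact this
  rw [← CohFinite.hhDelta_ker_eq_range (A := k) hT 0] at hker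
  obtain ⟨z, hz⟩ := hker
  refine ⟨secEquiv T.X₂ z, ?_⟩
  rw [← secEquiv_map T.g z]
  exact (congrArg (secEquiv T.X₃) hz).trans ((secEquiv T.X₃).apply_symm_apply m)

omit [X.Over (Spec (CommRingCat.of k))] [IsProper (X ↘ Spec (CommRingCat.of k))] in
/-- A section agreeing with a frame at `x` modulo a section vanishing at `x` generates at `x`. -/
theorem mem_genLocus_of_lift {B N : X.Modules} {s : Coh.structureModule X ⟶ B} {x : X}
    (hx : x ∉ CohB1.genLocus B s) {V : X.Opens} (hxV : x ∈ V) {eB : Γ(B, V)} (hB : IsFrame B eB)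
    {eN : Γ(N, V)} (hN : IsFrame N eN) (t : Γ(CohB1.tensorMod B N, ⊤))
    (z : Γ(CohB1.tensorMod (Coh.structureModule X) N, V))
    (ht : mres (CohB1.tensorMod B N) (le_top : V ≤ ⊤) t -
      tm B N V eB eN = (twist s N).app V z) :
    x ∈ CohB1.genLocus _ (homOfSection _ t) := by
  obtain ⟨f, hf, hfD⟩ := genLocus_inf_frame s hB
  obtain ⟨r, hr⟩ := (TwistVanish.bijective_tmul_frame (Coh.structureModule X) hN V le_rfl).2 z
  let ρ : Γ(X, V) := r
  have hE := hB.tmul hN
  have hmain : ((ρ * f + 1) : Γ(X, V)) • SecTwist.tmul B N V eB eN =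
      sect (homOfSection _ t) V := by
    rw [sect_homOfSection, sub_eq_iff_eq_add.1 ht, tm, add_smul, one_smul, ← hr, twist_app_tmul,
      QCohBase.mres_refl, mul_smul, show s.app V r = ρ • sect s V from app_eq_smul s V ρ, ← hf]
    congr 1
    rw [show SecTwist.tmul B N V (ρ • f • eB) eN = SecTwist.tmul B N V ((ρ * f) • eB) ((1 : Γ(X, V)) • eN)
      by rw [one_smul, mul_smul], tmul_smul_smul, mul_one, mul_smul]
  have key := genLocus_inf_eq_basicOpen (homOfSection _ t) hE hmain
  suffices h : x ∈ X.basicOpen (ρ * f + 1) from (key.ge h).1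
  rw [Scheme.mem_basicOpen _ _ _ hxV]
  by_contra hu
  have hfx : X.presheaf.germ V x hxV f ∈ IsLocalRing.maximalIdeal (X.presheaf.stalk x) := by
    intro hfu
    exact hx (hfD.ge ((Scheme.mem_basicOpen _ _ _ hxV).2 hfu)).1
  have h1 : X.presheaf.germ V x hxV (ρ * f + 1) ∈
      IsLocalRing.maximalIdeal (X.presheaf.stalk x) := hu
  rw [map_add, map_mul, map_one] at h1
  exact (IsLocalRing.maximalIdeal.isMaximal _).ne_top
    ((Ideal.eq_top_iff_one _).2 ((Ideal.add_mem_iff_right _ (Ideal.mul_mem_left _ _ hfx)).1 h1))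

include k in
theorem deg_eq_zero_of_genLocus_top [IsIntegral X] {L : X.Modules} (hL : PicF.IsInvertible L)
    (s : Coh.structureModule X ⟶ L) (h : CohB1.genLocus L s = ⊤) : Curv2.deg k X L 1 = 0 := by
  have : IsIso s := by
    refine isIso_of_support_cokernel_empty hL s (Set.eq_empty_of_forall_notMem fun y hy =>
      support_cokernel_subset (TensorMod.isCoh_of_isInvertible hL)
        (isCoh_structureModule (k := k)) s hy (by rw [h]; trivial))
  rw [← deg_congr (asIso s) 1, deg_structureModule]

include k in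
theorem isAffineOpen_genLocus [IsIntegral X] (hdim : topologicalKrullDim X ≤ 1) {L : X.Modules}
    (hL : PicF.IsInvertible L) {s : Coh.structureModule X ⟶ L} (hs : s ≠ 0)
    (hne : CohB1.genLocus L s ≠ ⊤) : IsAffineOpen (CohB1.genLocus L s) :=
  CurveQProj.isAffineOpen_compl (k := k) hdim _ ⟨_, genLocus_nonempty_of_ne_zero hL hs⟩ hne
    (finite_closed (k := k) hdim (CohB1.genLocus L s).2.isClosed_compl
      (fun h => h (genLocus_nonempty_of_ne_zero hL hs))).1

include k in
/-- Sections of high powers avoid any given point. -/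
theorem exists_powers_section [IsIntegral X] (hdim : topologicalKrullDim X = 1) {B : X.Modules}
    (hB : PicF.IsInvertible B) {s : Coh.structureModule X ⟶ B} (hs : s ≠ 0) {x : X}
    (hx : x ∉ CohB1.genLocus B s) :
    ∃ (m : ℕ) (t : Coh.structureModule X ⟶ CohB1.tensorPow B (m + 1)),
      x ∈ CohB1.genLocus _ t := by
  have := isNoetherian_of_proper (k := k) (X := X)
  have hO := isCoh_structureModule (k := k) (X := X)
  have hB' := TensorMod.isCoh_of_isInvertible hB
  have := mono_of_ne_zero hB hs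
  have hT : (ShortComplex.mk s (cokernel.π s) (cokernel.condition s)).ShortExact :=
    { exact := ShortComplex.exact_of_g_is_cokernel _ (cokernelIsCokernel s)
      mono_f := inferInstanceAs (Mono s)
      epi_g := inferInstanceAs (Epi (cokernel.π s)) }
  have hQ := isCoh_cokernel s hO.1 hB'
  obtain ⟨hfin, hcl⟩ := finite_closed (k := k) hdim.le (CohB1.genLocus B s).2.isClosed_compl
    (fun h => h (genLocus_nonempty_of_ne_zero hB hs))
  -- where `h¹` is minimal among powers
  let P := fun m => CohB1.tensorPow B m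
  have hP : ∀ m, PicF.IsInvertible (P m) := TensorMod.isInvertible_tensorPow hB
  obtain ⟨m, hm⟩ : ∃ m, Module.finrank k (Coh.HH X (P m) 1) ≤
      Module.finrank k (Coh.HH X (P (m + 1)) 1) := by
    by_contra! h
    exact not_strictAnti_of_wellFoundedLT (fun m => Module.finrank k (Coh.HH X (P m) 1))
      (strictAnti_nat_of_succ_lt h)
  obtain ⟨w, hw⟩ := shortExact_twist hT (hP m)
  let Q := CohB1.tensorMod (cokernel s) (P m)
  have hQsupp : CohB1.support Q ⊆ (CohB1.genLocus B s : Set X)ᶜ :=
    (support_tensorMod_subset _ (hP m)).trans (support_cokernel_subset hB' hO s)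
  have hsurj := surjective_of_finrank_HH1_le (k := k) _ hw (TwistVanish.isCoh_tensorMod hO (hP m))
    (TwistVanish.isCoh_tensorMod hB' (hP m))
    (subsingleton_HH_of_finite_support (k := k) (TwistVanish.isCoh_tensorMod hQ (hP m)) hfin hcl
      hQsupp one_pos)
    (by
      dsimp only
      rw [finrank_HH_congr (TensorMod.unitLeftIso (P m)) 1,
        finrank_HH_congr (TensorMod.commIso B (P m)) 1]
      exact hm)
  obtain ⟨W, hW, hone⟩ := exists_separating hfin hcl
  obtain ⟨V₁, -, hxV₁, hV₁W, eB, heB⟩ := exists_isFrame hB (hW ⟨x, hx⟩)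
  obtain ⟨V, -, hxV, hVV₁, eN, heN⟩ := exists_isFrame (hP m) hxV₁
  classical
  let x₀ : ((CohB1.genLocus B s : Set X)ᶜ : Set X) := ⟨x, hx⟩
  let U := fun y => if y = x₀ then V else W y
  have hUW : ∀ y, U y ≤ W y := fun y => by
    dsimp only [U]; split_ifs with h
    · subst h; exact hVV₁.trans hV₁W
    · exact le_rfl
  have hmemU : ∀ y, y.1 ∈ U y := fun y => by
    dsimp only [U]; split_ifs with h
    · subst h; exact hxV
    · exact hW y
  have hUV : U x₀ ≤ V := le_of_eq (if_pos rfl)
  let eB' := mres B (hUV.trans hVV₁) eB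
  let eN' := mres (P m) hUV eN
  obtain ⟨σ, hσ⟩ := (bijective_split Q (CohB1.genLocus B s).2.isClosed_compl hQsupp U hmemU
    fun y w hw => hone y w (hUW y hw)).2
    (Function.update 0 x₀ ((twist (cokernel.π s) (P m)).app (U x₀)
      (SecTwist.tmul B (P m) (U x₀) eB' eN')))
  obtain ⟨t, ht⟩ := hsurj σ
  have hσx : mres Q (le_top : U x₀ ≤ ⊤) σ = (twist (cokernel.π s) (P m)).app (U x₀)
      (SecTwist.tmul B (P m) (U x₀) eB' eN') := (congrFun hσ x₀).trans (Function.update_self ..)
  have hd : (twist (cokernel.π s) (P m)).app (U x₀)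
      (mres (CohB1.tensorMod B (P m)) (le_top : U x₀ ≤ ⊤) t -
        tm B (P m) (U x₀) eB' eN') = 0 := by
    rw [map_sub, tm, ← app_nat, show (twist (cokernel.π s) (P m)).app ⊤ t = σ from ht, hσx, sub_self]
  have := hw.mono_f
  obtain ⟨z, hz⟩ := sections_exact_left hw.exact _ hd
  have hmem := mem_genLocus_of_lift hx (hmemU x₀) (heB.res _) (heN.res hUV) t z hz.symm
  refine ⟨m, homOfSection _ t ≫ (TensorMod.commIso B (P m)).hom, ?_⟩
  show x ∈ CohB1.genLocus (CohB1.tensorMod (P m) B) _
  rw [genLocus_comp_iso]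
  exact hmem

theorem isAmple_iff_deg_pos [IsIntegral X] (hdim : topologicalKrullDim X = 1) {L : X.Modules}
    (hL : PicF.IsInvertible L) : CohB1.IsAmple L ↔ 0 < Curv2.deg k X L 1 := by
  constructor
  · rintro ⟨-, -, h⟩
    obtain ⟨n, s, hs, haff⟩ := h (genericPoint X)
    have hpos := deg_pos (k := k) hdim.le (TensorMod.isInvertible_tensorPow hL (n + 1))
      (ne_zero_of_mem_genLocus hs) (fun h => not_isAffineOpen_top (k := k) hdim (h ▸ haff))
    rw [deg_tensorPow hdim hL] at hpos
    exact (pos_iff_pos_of_mul_pos hpos).1 (by exact_mod_cast n.succ_pos)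
  · intro hd
    have := isNoetherian_of_proper (k := k) (X := X)
    obtain ⟨n, hn⟩ : ∃ n : ℕ, 0 < Curv2.euler k X (CohB1.tensorPow L (n + 1)) := by
      refine ⟨(Curv2.euler k X (Coh.structureModule X)).natAbs, ?_⟩
      have h := deg_tensorPow (k := k) hdim hL ((Curv2.euler k X (Coh.structureModule X)).natAbs + 1)
      rw [show Curv2.deg k X (CohB1.tensorPow L
          ((Curv2.euler k X (Coh.structureModule X)).natAbs + 1)) 1 =
        Curv2.euler k X (CohB1.tensorPow L ((Curv2.euler k X (Coh.structureModule X)).natAbs + 1)) -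
          1 * Curv2.euler k X (Coh.structureModule X) by simp [Curv2.deg]] at h
      push_cast at h
      nlinarith [neg_abs_le (Curv2.euler k X (Coh.structureModule X)),
        abs_nonneg (Curv2.euler k X (Coh.structureModule X))]
    let B := CohB1.tensorPow L (n + 1)
    have hB : PicF.IsInvertible B := TensorMod.isInvertible_tensorPow hL _
    obtain ⟨s, hs⟩ := exists_ne_zero_of_finrank_pos (k := k)
      (finrank_pos_of_euler_pos (k := k) hdim.le (TensorMod.isCoh_of_isInvertible hB) hn)
    have hdB : 0 < Curv2.deg k X B 1 := by rw [deg_tensorPow hdim hL]; positivity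
    have hne : ∀ (N : X.Modules) (hN : PicF.IsInvertible N), 0 < Curv2.deg k X N 1 →
        ∀ t : Coh.structureModule X ⟶ N, CohB1.genLocus N t ≠ ⊤ := fun N hN hd t h => by
      rw [deg_eq_zero_of_genLocus_top (k := k) hN t h] at hd; exact lt_irrefl _ hd
    refine ⟨hL, inferInstance, fun x => ?_⟩
    by_cases hx : x ∈ CohB1.genLocus B s
    · exact ⟨n, s, hx, isAffineOpen_genLocus (k := k) hdim.le hB hs (hne B hB hdB s)⟩
    · obtain ⟨m, t, ht⟩ := exists_powers_section (k := k) hdim hB hs hx
      have hPm := TensorMod.isInvertible_tensorPow hB (m + 1)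
      have hdP : 0 < Curv2.deg k X (CohB1.tensorPow B (m + 1)) 1 := by
        rw [deg_tensorPow hdim hB]; positivity
      obtain ⟨N, hN⟩ : ∃ N, (n + 1) * (m + 1) = N + 1 :=
        ⟨(n + 1) * (m + 1) - 1, (Nat.sub_add_cancel (Nat.mul_pos n.succ_pos m.succ_pos)).symm⟩
      let e : CohB1.tensorPow B (m + 1) ≅ CohB1.tensorPow L (N + 1) :=
        TensorMod.tensorPowMulIso L (n + 1) (m + 1) ≪≫ eqToIso (by rw [hN])
      refine ⟨N, t ≫ e.hom, by rwa [genLocus_comp_iso], ?_⟩
      rw [genLocus_comp_iso]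
      exact isAffineOpen_genLocus (k := k) hdim.le hPm (ne_zero_of_mem_genLocus ht)
        (hne _ hPm hdP t)

end Groth.Agent.CurveDeg
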