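import Groth.Agent.CurveDeg.ZeroDim
import Groth.Agent.DCohBridge.QCohTensor
import Groth.Agent.FrameHom.Basic

/-! Twisting by finite locally free modules: sections, finitely supported modules. -/

set_option autoImplicit false
set_option backward.isDefEq.respectTransparency false
set_option backward.isDefEq.respectTransparency.types false

noncomputable section

universe u

open CategoryTheory Limits AlgebraicGeometry Opposite TopologicalSpace
open Groth.Agent.QCohBase Groth.Agent.GenLocus Groth.Agent.FrameHom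
open scoped TensorProduct

namespace Groth.Agent.CurveDeg

theorem bijective_tmul_basis_alg {R A B : Type*} [CommRing R] [AddCommGroup A] [Module R A]
    [AddCommGroup B] [Module R B] {n : ℕ} (b : Fin n → B)
    (hb : Function.Bijective fun r : Fin n → R ↦ ∑ l, r l • b l) :
    Function.Bijective fun a : Fin n → A ↦ ∑ l, a l ⊗ₜ[R] b l := by
  let eb : (Fin n → R) ≃ₗ[R] B := LinearEquiv.ofBijective
    { toFun := fun r ↦ ∑ l, r l • b l
      map_add' := fun r s ↦ by simp only [Pi.add_apply, add_smul, Finset.sum_add_distrib]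
      map_smul' := fun c r ↦ by
        simp only [RingHom.id_apply, Pi.smul_apply, smul_eq_mul, mul_smul, Finset.smul_sum] } hb
  let e := (Finsupp.linearEquivFunOnFinite R A (Fin n)).symm ≪≫ₗ
    (TensorProduct.equivFinsuppOfBasisRight (M := A) (Module.Basis.ofEquivFun eb.symm)).symm
  have hbasis : ∀ l, (Module.Basis.ofEquivFun eb.symm) l = b l := fun l ↦ by
    classical
    rw [Module.Basis.coe_ofEquivFun, LinearEquiv.symm_symm]
    show ∑ j, (Pi.single l (1 : R) : Fin n → R) j • b j = b l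
    rw [Finset.sum_eq_single l (fun j _ hj ↦ by rw [Pi.single_eq_of_ne hj, zero_smul]) (by simp),
      Pi.single_eq_same, one_smul]
  have : (fun a : Fin n → A ↦ ∑ l, a l ⊗ₜ[R] b l) = e := funext fun a ↦ by
    simp only [e, LinearEquiv.trans_apply, TensorProduct.equivFinsuppOfBasisRight_symm_apply]
    rw [Finsupp.sum_fintype _ _ (fun l ↦ by simp)]
    refine Finset.sum_congr rfl fun l _ ↦ ?_
    simp [hbasis]
  rw [this]
  exact e.bijective

variable {X : Scheme.{u}}

theorem tmul_zero_left' (M N : X.Modules) (V : X.Opens) (b : Γ(N, V)) :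
    SecTwist.tmul M N V 0 b = 0 :=
  DFunLike.congr_fun (map_zero (tmulBi M N V)) b

/-- Sum of tensors with the members of a family of sections. -/
def tcomb (G N : X.Modules) {n : ℕ} {U : X.Opens} (e : Fin n → Γ(N, U)) (V : X.Opens) (hV : V ≤ U)
    (a : Fin n → Γ(G, V)) : Γ(CohB1.tensorMod G N, V) :=
  ∑ l, SecTwist.tmul G N V (a l) (mres N hV (e l))

theorem mres_tcomb (G N : X.Modules) {n : ℕ} {U : X.Opens} (e : Fin n → Γ(N, U)) {V W : X.Opens}
    (hV : V ≤ U) (h : W ≤ V) (a : Fin n → Γ(G, V)) :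
    mres (CohB1.tensorMod G N) h (tcomb G N e V hV a) =
      tcomb G N e W (h.trans hV) (fun l ↦ mres G h (a l)) := by
  rw [tcomb, tcomb, map_sum]
  refine Finset.sum_congr rfl fun l _ ↦ ?_
  exact (SecTwist.map_tmul G N (homOfLE h) (a l) _).trans
    (congrArg (SecTwist.tmul G N W (mres G h (a l))) (mres_mres N hV h (e l)))

/-- Tensoring sections with a basis is bijective. -/
theorem bijective_tcomb (G : X.Modules) {N : X.Modules} {n : ℕ} {U : X.Opens}
    {e : Fin n → Γ(N, U)} (he : IsBasisOn N e) (V : X.Opens) (hV : V ≤ U) :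
    Function.Bijective (tcomb G N e V hV) := by
  have hpre : ∀ (W : X.Opens) (hW : W ≤ U), Function.Bijective fun a : Fin n → Γ(G, W) ↦
      ∑ l, a l ⊗ₜ[Γ(X, W)] mres N hW (e l) :=
    fun W hW ↦ bijective_tmul_basis_alg _ (he W hW)
  have hto : ∀ (W : X.Opens) (hW : W ≤ U) (a : Fin n → Γ(G, W)),
      toT G N W (∑ l, a l ⊗ₜ[Γ(X, W)] mres N hW (e l)) = tcomb G N e W hW a := fun W hW a ↦
    map_sum ((SecTwist.toTensor G N).app (op W)).hom _ _
  have hmap : ∀ (W W' : X.Opens) (h : W' ≤ W) (hW : W ≤ U) (a : Fin n → Γ(G, W)),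
      (CohB1.tensorPre G N).map (homOfLE h).op (∑ l, a l ⊗ₜ[Γ(X, W)] mres N hW (e l)) =
        ∑ l, mres G h (a l) ⊗ₜ[Γ(X, W')] mres N (h.trans hW) (e l) := fun W W' h hW a ↦
    (map_sum ((CohB1.tensorPre G N).map (homOfLE h).op).hom _ _).trans (Finset.sum_congr rfl fun l _ ↦
      congrArg (mres G h (a l) ⊗ₜ[Γ(X, W')] ·) (mres_mres N hW h (e l)))
  have hinj : ∀ (W : X.Opens) (hW : W ≤ U) (a a' : Fin n → Γ(G, W)),
      tcomb G N e W hW a = tcomb G N e W hW a' → a = a' := by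
    intro W hW a a' haa
    rw [← hto, ← hto] at haa
    choose Q hQ hpQ hQeq using fun p : W ↦ locallyInjective_toT G N
      (∑ l, a l ⊗ₜ[Γ(X, W)] mres N hW (e l)) (∑ l, a' l ⊗ₜ[Γ(X, W)] mres N hW (e l)) haa p.2
    refine funext fun l ↦ eq_of_iSup_le G Q hQ
      (fun p hp ↦ Opens.mem_iSup.mpr ⟨⟨p, hp⟩, hpQ _⟩) _ _ fun p ↦ ?_
    have := hQeq p
    rw [hmap _ _ (hQ p) hW a, hmap _ _ (hQ p) hW a'] at this
    exact congrFun ((hpre _ ((hQ p).trans hW)).1 this) l
  refine ⟨fun a a' h ↦ hinj V hV a a' h, fun σ ↦ ?_⟩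
  choose Q hQ x hpQ hx using fun p : V ↦ locallySurjective_toT G N σ p.2
  choose a ha using fun p : V ↦ (hpre (Q p) ((hQ p).trans hV)).2 (x p)
  have hσ : ∀ p : V, tcomb G N e (Q p) ((hQ p).trans hV) (a p) =
      mres (CohB1.tensorMod G N) (hQ p) σ :=
    fun p ↦ (hto _ _ (a p)).symm.trans ((congrArg (toT G N (Q p)) (ha p)).trans (hx p))
  have hcov : V ≤ iSup Q := fun p hp ↦ Opens.mem_iSup.mpr ⟨⟨p, hp⟩, hpQ _⟩
  have hcompat : ∀ p q : V, (fun l ↦ mres G (inf_le_left : Q p ⊓ Q q ≤ Q p) (a p l)) =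
      fun l ↦ mres G (inf_le_right : Q p ⊓ Q q ≤ Q q) (a q l) := fun p q ↦
    hinj (Q p ⊓ Q q) (inf_le_left.trans ((hQ p).trans hV)) _ _ (by
      rw [← mres_tcomb G N e ((hQ p).trans hV) inf_le_left, hσ, mres_mres]
      refine Eq.trans ?_ (mres_tcomb G N e ((hQ q).trans hV) inf_le_right (a q))
      rw [hσ, mres_mres])
  choose t ht using fun l ↦ (TopCat.Sheaf.existsUnique_gluing' ⟨G.presheaf, G.isSheaf⟩ Q V
    (fun p ↦ homOfLE (hQ p)) hcov (fun p ↦ a p l) (fun p q ↦ congrFun (hcompat p q) l)).exists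
  refine ⟨t, eq_of_iSup_le (CohB1.tensorMod G N) Q hQ hcov _ _ fun p ↦ ?_⟩
  rw [mres_tcomb, show (fun l ↦ mres G (hQ p) (t l)) = a p from funext fun l ↦ ht l p]
  exact hσ p

theorem exists_basis_nhd {E : X.Modules} {n : ℕ} (hE : FlatMod.IsFinLocFreeOfRank n E) {x : X}
    {W : X.Opens} (hx : x ∈ W) :
    ∃ (U : X.Opens) (_ : IsAffineOpen U) (_ : x ∈ U) (_ : U ≤ W) (e : Fin n → Γ(E, U)),
      IsBasisOn E e := by
  obtain ⟨U, hxU, ⟨t⟩⟩ := hE x
  obtain ⟨e, he⟩ := exists_isBasisOn_of_triv t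
  obtain ⟨V, hV, hxV, hVU⟩ := Opens.isBasis_iff_nbhd.1 X.isBasis_affineOpens (show x ∈ U ⊓ W from ⟨hxU, hx⟩)
  exact ⟨V, hV, hxV, hVU.trans inf_le_right, _, he.res (hVU.trans inf_le_left)⟩

/-- `tcomb` over the domain of a basis, as a linear equivalence. -/
def tcombEquiv (G : X.Modules) {N : X.Modules} {n : ℕ} {U : X.Opens} {e : Fin n → Γ(N, U)}
    (he : IsBasisOn N e) : (Fin n → Γ(G, U)) ≃ₗ[Γ(X, U)] Γ(CohB1.tensorMod G N, U) :=
  LinearEquiv.ofBijective
    { toFun := tcomb G N e U le_rfl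
      map_add' := fun a b ↦ by
        simp only [tcomb, Pi.add_apply]
        rw [← Finset.sum_add_distrib]
        exact Finset.sum_congr rfl fun l _ ↦ DFunLike.congr_fun (map_add (tmulBi G N U) _ _) _
      map_smul' := fun r a ↦ by
        simp only [tcomb, Pi.smul_apply, RingHom.id_apply, Finset.smul_sum]
        exact Finset.sum_congr rfl fun l _ ↦ tmul_smul_left G N r _ _ }
    (bijective_tcomb G he U le_rfl)

theorem tcombEquiv_apply (G : X.Modules) {N : X.Modules} {n : ℕ} {U : X.Opens}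
    {e : Fin n → Γ(N, U)} (he : IsBasisOn N e) (a : Fin n → Γ(G, U)) :
    tcombEquiv G he a = tcomb G N e U le_rfl a := rfl

theorem isCoh_tensorMod_locFree {G E : X.Modules} {n : ℕ} (hG : Coh.IsCoh G)
    (hE : FlatMod.IsFinLocFreeOfRank n E) : Coh.IsCoh (CohB1.tensorMod G E) := by
  have hq0 : Coh.IsQCoh (CohB1.tensorMod G E) := DCohBridge.isQCoh_cohb1TensorMod hG.1
    (TensorMod.isQCoh_of_isFinLocFree (TensorMod.isFinLocFree_of_rank hE))
  have hq : (CohB1.tensorMod G E).IsQuasicoherent := hq0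
  refine ⟨hq0, isFiniteType_of_finite _ fun x ↦ ?_⟩
  obtain ⟨U, hU, hxU, -, e, he⟩ := exists_basis_nhd hE (x := x) (W := ⊤) trivial
  have := isFiniteType_toFinite hG hU
  exact ⟨U, hU, hxU, Module.Finite.equiv (tcombEquiv G he)⟩

theorem support_tensorMod_locFree_subset (M : X.Modules) {E : X.Modules} {n : ℕ}
    (hE : FlatMod.IsFinLocFreeOfRank n E) :
    CohB1.support (CohB1.tensorMod M E) ⊆ CohB1.support M := by
  intro y hy
  by_contra hy'
  refine hy (subsingleton_of_forall_eq 0 fun z => ?_)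
  obtain ⟨U, -, hyU, -, e, he⟩ := exists_basis_nhd hE (x := y) (W := ⊤) trivial
  obtain ⟨V, hyV, t, rfl⟩ := TopCat.Presheaf.exists_germ_eq (F := (CohB1.tensorMod M E).presheaf) z
  obtain ⟨a, ha⟩ := (bijective_tcomb M he (V ⊓ U) inf_le_right).2 (mres _ inf_le_left t)
  have hyVU : y ∈ V ⊓ U := ⟨hyV, hyU⟩
  have hz : ∀ l, ∃ O : X.Opens, y ∈ O ∧ ∃ h : O ≤ V ⊓ U, mres M h (a l) = 0 := fun l ↦ by
    obtain ⟨O, hyO, i₁, i₂, he0⟩ := M.presheaf.germ_eq y hyVU hyVU (a l) (0 : Γ(M, V ⊓ U))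
      (@Subsingleton.elim _ (not_not.1 hy') _ _)
    exact ⟨O, hyO, i₁.le, he0.trans (map_zero _)⟩
  choose O hyO hO ha0 using hz
  obtain ⟨O', hyO', hO'⟩ : ∃ O' : X.Opens, y ∈ O' ∧ ∀ l, O' ≤ O l ⊓ (V ⊓ U) := by
    let T := Finset.univ.inf O ⊓ (V ⊓ U)
    refine ⟨T, ⟨?_, hyVU⟩, fun l ↦ inf_le_inf_right _ (Finset.inf_le (Finset.mem_univ l))⟩
    have : ∀ s : Finset (Fin n), y ∈ s.inf O := fun s ↦ by
      induction s using Finset.cons_induction with
      | empty => simp
      | cons l s hl ih => rw [Finset.inf_cons]; exact ⟨hyO l, ih⟩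
    exact this _
  have hle : O' ≤ V ⊓ U ∨ n = 0 := by
    rcases n.eq_zero_or_pos with h | h
    · exact Or.inr h
    · exact Or.inl ((hO' ⟨0, h⟩).trans inf_le_right)
  rcases hle with hle | rfl
  · rw [← AssPts.germ_mres (CohB1.tensorMod M E) y (hle.trans (inf_le_left : V ⊓ U ≤ V)) hyO' t,
      ← mres_mres _ inf_le_left hle, ← ha, mres_tcomb]
    have : (fun l ↦ mres M hle (a l)) = 0 := funext fun l ↦ by
      have h1 := congrArg (mres M (((hO' l).trans inf_le_left) : O' ≤ O l)) (ha0 l)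
      rw [map_zero, mres_mres] at h1
      exact h1
    rw [this]
    simp only [tcomb, Pi.zero_apply, tmul_zero_left', Finset.sum_const_zero, map_zero]
  · rw [← AssPts.germ_mres (CohB1.tensorMod M E) y (inf_le_left : V ⊓ U ≤ V) hyVU t, ← ha]
    simp [tcomb]

variable {k : Type u} [Field k] [X.Over (Spec (CommRingCat.of k))]

/-- `h⁰` of the twist of a finitely supported module by a locally free module. -/
theorem finrank_HH0_tensorMod_locFree (M : X.Modules) {E : X.Modules} {n : ℕ}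
    (hE : FlatMod.IsFinLocFreeOfRank n E) [Module.Finite k (Coh.HH X M 0)] {S : Set X}
    (hfin : S.Finite) (hcl : ∀ x ∈ S, IsClosed ({x} : Set X)) (hM : CohB1.support M ⊆ S) :
    Module.finrank k (Coh.HH X (CohB1.tensorMod M E) 0) =
      n * Module.finrank k (Coh.HH X M 0) := by
  have hS : IsClosed S := by
    rw [← Set.biUnion_of_singleton S]; exact hfin.isClosed_biUnion hcl
  obtain ⟨W, hW, hone⟩ := exists_separating hfin hcl
  have hfr : ∀ x : S, ∃ (U : X.Opens) (e : Fin n → Γ(E, U)), x.1 ∈ U ∧ U ≤ W x ∧ IsBasisOn E e :=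
    fun x => by
      obtain ⟨U, -, hxU, hUW, e, he⟩ := exists_basis_nhd hE (hW x)
      exact ⟨U, e, hxU, hUW, he⟩
  choose U e hxU hUW he using hfr
  have hone' : ∀ (x : S) y, y ∈ U x → y ∈ S → y = x.1 := fun x y hy => hone x y (hUW x hy)
  let φ := Equiv.ofBijective _ (bijective_split M hS hM U hxU hone')
  let ψ := Equiv.ofBijective _ (bijective_split (CohB1.tensorMod M E) hS
    ((support_tensorMod_locFree_subset M hE).trans hM) U hxU hone')
  let τ : ∀ x : S, (Fin n → Γ(M, U x)) ≃ₗ[Γ(X, U x)] Γ(CohB1.tensorMod M E, U x) :=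
    fun x => tcombEquiv M (he x)
  let Φ : (Fin n → Γ(M, ⊤)) ≃ Γ(CohB1.tensorMod M E, ⊤) :=
    (Equiv.piCongrRight fun _ : Fin n => φ).trans ((Equiv.piComm _).trans
      ((Equiv.piCongrRight fun x => (τ x).toEquiv).trans ψ.symm))
  have hΦ : ∀ m x, mres (CohB1.tensorMod M E) (le_top : U x ≤ ⊤) (Φ m) =
      τ x (fun l => mres M (le_top : U x ≤ ⊤) (m l)) :=
    fun m x => congrFun (ψ.apply_symm_apply _) x
  have hadd : ∀ a b, Φ (a + b) = Φ a + Φ b := fun a b => ψ.injective (funext fun x => by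
    show mres _ _ (Φ (a + b)) = mres _ _ (Φ a + Φ b)
    rw [hΦ, map_add, hΦ, hΦ, ← map_add]
    exact congrArg (τ x) (funext fun l => map_add (mres M (le_top : U x ≤ ⊤)) (a l) (b l)))
  have hsmul : ∀ (r : Γ(X, ⊤)) (m : Fin n → Γ(M, ⊤)), Φ (r • m) = r • Φ m :=
    fun r m => ψ.injective (funext fun x => by
      show mres _ _ (Φ (r • m)) = mres _ _ (r • Φ m)
      rw [mres_smul, hΦ, hΦ, ← map_smul]
      exact congrArg (τ x) (funext fun l => mres_smul M (le_top : U x ≤ ⊤) r (m l)))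
  let Ψ : (Fin n → Coh.HH X M 0) ≃ₗ[k] Coh.HH X (CohB1.tensorMod M E) 0 :=
    { toEquiv := (Equiv.piCongrRight fun _ : Fin n => (secEquiv M).toEquiv).trans
        (Φ.trans (secEquiv (CohB1.tensorMod M E)).toEquiv.symm)
      map_add' := fun a b => (secEquiv _).injective <| by
        show secEquiv _ ((secEquiv _).symm (Φ fun l => secEquiv M ((a + b) l))) =
          secEquiv _ ((secEquiv _).symm (Φ fun l => secEquiv M (a l)) +
            (secEquiv _).symm (Φ fun l => secEquiv M (b l)))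
        rw [map_add, AddEquiv.apply_symm_apply, AddEquiv.apply_symm_apply, AddEquiv.apply_symm_apply,
          ← hadd]
        exact congrArg Φ (funext fun l => map_add (secEquiv M) (a l) (b l))
      map_smul' := fun c a => (secEquiv _).injective <| by
        show secEquiv _ ((secEquiv _).symm (Φ fun l => secEquiv M ((c • a) l))) =
          secEquiv _ (c • (secEquiv _).symm (Φ fun l => secEquiv M (a l)))
        rw [secEquiv_smul, AddEquiv.apply_symm_apply, AddEquiv.apply_symm_apply, ← hsmul]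
        exact congrArg Φ (funext fun l => secEquiv_smul M c (a l)) }
  rw [← Ψ.finrank_eq, Module.finrank_pi_fintype]
  simp

variable [IsProper (X ↘ Spec (CommRingCat.of k))]

theorem euler_tensorMod_locFree_of_finite_support {M E : X.Modules} {n : ℕ} (hM : Coh.IsCoh M)
    (hE : FlatMod.IsFinLocFreeOfRank n E) {S : Set X} (hfin : S.Finite)
    (hcl : ∀ x ∈ S, IsClosed ({x} : Set X)) (hMS : CohB1.support M ⊆ S) :
    Curv2.euler k X (CohB1.tensorMod M E) = n * Curv2.euler k X M := by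
  have := finite_HH (k := k) hM 0
  rw [euler_of_finite_support hM hfin hcl hMS, euler_of_finite_support
    (isCoh_tensorMod_locFree hM hE) hfin hcl ((support_tensorMod_locFree_subset M hE).trans hMS),
    finrank_HH0_tensorMod_locFree M hE hfin hcl hMS]
  push_cast
  rfl

end Groth.Agent.CurveDeg
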