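import Groth.Agent.CurveDeg.Hom
import Groth.Agent.CurveDeg.LocFree
import Groth.Agent.ClPush.PullBasis

/-! The projection formula for finite locally free modules. -/

set_option autoImplicit false
set_option backward.isDefEq.respectTransparency false
set_option backward.isDefEq.respectTransparency.types false

noncomputable section

universe u

open CategoryTheory Limits AlgebraicGeometry Opposite TopologicalSpace
open Groth.Agent.QCohBase Groth.Agent.GenLocus Groth.Agent.FrameHom
open scoped TensorProduct

namespace Groth.Agent.CurveDeg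

variable {X Y : Scheme.{u}} (g : X ⟶ Y) (E : Y.Modules)

/-- `a ⊗ e ↦ a • g^* e` on sections. -/
def projSec (V : Y.Opens) :
    Γ((Scheme.Modules.pushforward g).obj (Coh.structureModule X), V) ⊗[Γ(Y, V)] Γ(E, V) →+
      Γ((Scheme.Modules.pullback g).obj E, g ⁻¹ᵁ V) :=
  TensorProduct.liftAddHom
    { toFun := fun a ↦
        { toFun := fun b ↦ (show Γ(X, g ⁻¹ᵁ V) from a) • pullSec g E V b
          map_zero' := by rw [map_zero, smul_zero]
          map_add' := fun b b' ↦ by rw [map_add, smul_add] }
      map_zero' := AddMonoidHom.ext fun b ↦ zero_smul Γ(X, g ⁻¹ᵁ V) _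
      map_add' := fun a a' ↦ AddMonoidHom.ext fun b ↦
        add_smul (show Γ(X, g ⁻¹ᵁ V) from a) (show Γ(X, g ⁻¹ᵁ V) from a') _ }
    (fun r a b ↦ by
      show (g.app V r * (show Γ(X, g ⁻¹ᵁ V) from a)) • pullSec g E V b =
        (show Γ(X, g ⁻¹ᵁ V) from a) • pullSec g E V (r • b)
      rw [pullSec_smul, ← mul_smul, mul_comm])

lemma projSec_tmul (V : Y.Opens) (a : Γ((Scheme.Modules.pushforward g).obj (Coh.structureModule X), V))
    (b : Γ(E, V)) :
    projSec g E V (a ⊗ₜ b) = (show Γ(X, g ⁻¹ᵁ V) from a) • pullSec g E V b := rfl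

lemma projSec_smul (V : Y.Opens) (r : Γ(Y, V))
    (x : Γ((Scheme.Modules.pushforward g).obj (Coh.structureModule X), V) ⊗[Γ(Y, V)] Γ(E, V)) :
    projSec g E V (r • x) = g.app V r • projSec g E V x := by
  induction x using TensorProduct.induction_on with
  | zero => simp
  | add x y hx hy => rw [smul_add, map_add, map_add, hx, hy, smul_add]
  | tmul a b =>
    rw [TensorProduct.smul_tmul', projSec_tmul, projSec_tmul]
    exact mul_smul (g.app V r) (show Γ(X, g ⁻¹ᵁ V) from a) _

lemma projSec_res {V W : Y.Opens} (h : W ≤ V)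
    (a : Γ((Scheme.Modules.pushforward g).obj (Coh.structureModule X), V)) (b : Γ(E, V)) :
    mres ((Scheme.Modules.pullback g).obj E) (g.preimage_mono h) (projSec g E V (a ⊗ₜ b)) =
      projSec g E W (mres _ h a ⊗ₜ mres E h b) := by
  rw [projSec_tmul, projSec_tmul, mres_smul, pullSec_mres]
  rfl

/-- The presheaf projection map. -/
def projPre : CohB1.tensorPre ((Scheme.Modules.pushforward g).obj (Coh.structureModule X)) E ⟶
    (TensorMod.incl Y).obj ((Scheme.Modules.pushforward g).obj ((Scheme.Modules.pullback g).obj E)) :=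
  PresheafOfModules.homMk
    { app := fun V ↦ AddCommGrpCat.ofHom (projSec g E V.unop)
      naturality := fun V W i ↦ by
        ext x
        induction x using TensorProduct.induction_on with
        | zero => exact (map_zero _).trans (map_zero _).symm
        | add x y hx hy =>
          exact (map_add _ _ _).trans ((congrArg₂ (· + ·) hx hy).trans (map_add _ _ _).symm)
        | tmul a b => exact (projSec_res g E i.unop.le a b).symm }
    (fun V r x ↦ projSec_smul g E V.unop r x)

/-- The projection map. -/
def projMap : CohB1.tensorMod ((Scheme.Modules.pushforward g).obj (Coh.structureModule X)) E ⟶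
    (Scheme.Modules.pushforward g).obj ((Scheme.Modules.pullback g).obj E) :=
  ((TensorMod.shAdj Y).homEquiv _ _).symm (projPre g E)

lemma projMap_tmul (V : Y.Opens)
    (a : Γ((Scheme.Modules.pushforward g).obj (Coh.structureModule X), V)) (b : Γ(E, V)) :
    (projMap g E).app V (SecTwist.tmul _ E V a b) =
      ((show Γ(X, g ⁻¹ᵁ V) from a) • pullSec g E V b :
        Γ((Scheme.Modules.pullback g).obj E, g ⁻¹ᵁ V)) := by
  have h2 := Adjunction.homEquiv_unit (TensorMod.shAdj Y) _ _
    (((TensorMod.shAdj Y).homEquiv _ _).symm (projPre g E))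
  rw [Equiv.apply_symm_apply] at h2
  have e2 := congr(($h2).app (op V) (a ⊗ₜ[Γ(Y, V)] b))
  exact e2.symm

/-- The projection formula for finite locally free modules. -/
theorem isIso_projMap {n : ℕ} (hE : FlatMod.IsFinLocFreeOfRank n E) : IsIso (projMap g E) := by
  refine isIso_of_bijective_basis _ (B := {U | ∃ e : Fin n → Γ(E, U), IsBasisOn E e})
    (Opens.isBasis_iff_nbhd.2 fun {W x} hx => ?_) fun U ⟨e, he⟩ V hV => ?_
  · obtain ⟨U, -, hxU, hUW, e, he⟩ := exists_basis_nhd hE hx
    exact ⟨U, ⟨e, he⟩, hxU, hUW⟩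
  let P := (Scheme.Modules.pushforward g).obj (Coh.structureModule X)
  rw [← Function.Bijective.of_comp_iff ((projMap g E).app V) (bijective_tcomb P he V hV)]
  have hb := ClPush.isBasisOn_pullSec g he (g ⁻¹ᵁ V) (g.preimage_mono hV)
  have key : ∀ a, (projMap g E).app V (tcomb P E e V hV a) =
      comb ((Scheme.Modules.pullback g).obj E) (fun l => pullSec g E U (e l)) (g.preimage_mono hV) a := by
    intro a
    show (projMap g E).app V (∑ l, SecTwist.tmul P E V (a l) (mres E hV (e l))) = _
    rw [map_sum]
    refine Finset.sum_congr rfl fun l _ => ?_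
    refine (projMap_tmul g E V (a l) _).trans ?_
    rw [← pullSec_mres g E hV]
  exact ⟨fun a b h => hb.1 (((key a).symm.trans h).trans (key b)), fun c => by
    obtain ⟨a, ha⟩ := hb.2 c
    exact ⟨a, (key a).trans ha⟩⟩

/-- The projection formula. -/
def projIso {n : ℕ} (hE : FlatMod.IsFinLocFreeOfRank n E) :
    CohB1.tensorMod E ((Scheme.Modules.pushforward g).obj (Coh.structureModule X)) ≅
      (Scheme.Modules.pushforward g).obj ((Scheme.Modules.pullback g).obj E) :=
  TensorMod.commIso _ _ ≪≫ @asIso _ _ _ _ (projMap g E) (isIso_projMap g E hE)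

end Groth.Agent.CurveDeg
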