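import Groth.Agent.CurveDeg.Vanish
import Groth.Agent.CurveDeg.Proj
import Groth.Agent.CurveDeg.Devissage
import Groth.Agent.CurveDeg.Push
import Groth.Agent.DCohBridge.PushProj
import Groth.Agent.AffineComp.Main
import Groth.Agent.AffineComp.Images
import Groth.Agent.GenLocus.AmplePull
import Mathlib.AlgebraicGeometry.IdealSheaf.IrreducibleComponent

/-! Ampleness in dimension at most one is tested on components. -/

set_option autoImplicit false
set_option backward.isDefEq.respectTransparency false
set_option backward.isDefEq.respectTransparency.types false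

noncomputable section

universe u

open CategoryTheory Limits AlgebraicGeometry Opposite TopologicalSpace
open Groth.Agent.QCohBase Groth.Agent.GenLocus

namespace Groth.Agent.CurveDeg

variable {X : Scheme.{u}}

theorem isFrame_map_iso {L L' : X.Modules} (φ : L ≅ L') {U : X.Opens} {e : Γ(L, U)}
    (he : IsFrame L e) : IsFrame L' (φ.hom.app U e) := fun V hV => by
  have h1 : (fun r : Γ(X, V) => r • mres L' hV (φ.hom.app U e)) =
      fun r => φ.hom.app V (r • mres L hV e) :=
    funext fun r => by rw [Scheme.Modules.Hom.app_smul, GenLocus.app_mres]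
  show Function.Bijective fun r : Γ(X, V) => r • mres L' hV (φ.hom.app U e)
  rw [h1]
  exact (ConcreteCategory.bijective_of_isIso (φ.hom.app V)).comp (he V hV)

theorem finite_range_of_dim [NoetherianSpace X] {Z : Scheme.{u}} (i : Z ⟶ X) [IsClosedImmersion i]
    (h : topologicalKrullDim Z ≤ 0) :
    (Set.range i).Finite ∧ ∀ x ∈ Set.range i, IsClosed ({x} : Set X) :=
  finite_of_dim_le_zero i.isClosedEmbedding.isClosed_range
    ((IsHomeomorph.topologicalKrullDim_eq _
      i.isClosedEmbedding.isEmbedding.toHomeomorph.isHomeomorph).ge.trans h)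

theorem dim_eq_of_range_eq {Z : Scheme.{u}} (i : Z ⟶ X) [IsClosedImmersion i] {C : Set X}
    (h : Set.range i = C) : topologicalKrullDim C = topologicalKrullDim Z := by
  subst h
  exact (IsHomeomorph.topologicalKrullDim_eq _
    i.isClosedEmbedding.isEmbedding.toHomeomorph.isHomeomorph).symm

variable {k : Type u} [Field k] [X.Over (Spec (CommRingCat.of k))] [IsProper (X ↘ Spec (CommRingCat.of k))]

/-- The degree of a restriction to an integral closed subscheme depends only on its support. -/
theorem deg_restrict_eq {Z Z' : Scheme.{u}} (i : Z ⟶ X) (i' : Z' ⟶ X) [IsClosedImmersion i]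
    [IsClosedImmersion i'] [IsReduced Z] [IsReduced Z']
    [Z.Over (Spec (CommRingCat.of k))] [Z'.Over (Spec (CommRingCat.of k))]
    (hi : i ≫ (X ↘ Spec (CommRingCat.of k)) = Z ↘ Spec (CommRingCat.of k))
    (hi' : i' ≫ (X ↘ Spec (CommRingCat.of k)) = Z' ↘ Spec (CommRingCat.of k))
    (h : Set.range i = Set.range i') {E : X.Modules} {n : ℕ} (hE : FlatMod.IsFinLocFreeOfRank n E) :
    Curv2.deg k Z ((Scheme.Modules.pullback i).obj E) n =
      Curv2.deg k Z' ((Scheme.Modules.pullback i').obj E) n := by
  have := isNoetherian_of_proper (k := k) (X := X)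
  obtain ⟨e⟩ := Devissage.push_structure_iso i i' h
  have hq : ∀ {W : Scheme.{u}} (j : W ⟶ X), Coh.IsQCoh ((Scheme.Modules.pullback j).obj E) :=
    fun j => TensorMod.isQCoh_of_isFinLocFree
      (TensorMod.isFinLocFree_of_rank (TensorMod.isFinLocFreeOfRank_pullback j hE))
  rw [Curv2.deg, Curv2.deg, ← euler_push i hi _ (hq i), ← euler_push i' hi' _ (hq i'),
    ← euler_push i hi _ (TensorMod.isQCoh_structureModule Z),
    ← euler_push i' hi' _ (TensorMod.isQCoh_structureModule Z'),
    ← euler_congr (k := k) (projIso i E hE), ← euler_congr (k := k) (projIso i' E hE),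
    euler_congr (k := k) (TensorMod.tensorIso (Iso.refl E) e), euler_congr (k := k) e]

/-- The degrees on all integral closed curves are positive. -/
def PosOnCurves (k : Type u) [Field k] [X.Over (Spec (CommRingCat.of k))] (L : X.Modules) : Prop :=
  ∀ (Z : Scheme.{u}) (i : Z ⟶ X) [Z.Over (Spec (CommRingCat.of k))],
    IsClosedImmersion i → IsIntegral Z → topologicalKrullDim Z = 1 →
      i ≫ (X ↘ Spec (CommRingCat.of k)) = Z ↘ Spec (CommRingCat.of k) →
        0 < Curv2.deg k Z ((Scheme.Modules.pullback i).obj L) 1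

theorem support_push_range {Z : Scheme.{u}} (i : Z ⟶ X) [IsClosedImmersion i] (M : Z.Modules) :
    CohB1.support ((Scheme.Modules.pushforward i).obj M) ⊆ Set.range i := fun y hy => by
  by_contra h
  exact hy (ModuleCat.subsingleton_of_isZero (DCohBridge.isZero_stalk_push_of_notMem i h M))

theorem eventually_subsingleton_H1_of_pos (hdim : topologicalKrullDim X ≤ 1) {L : X.Modules}
    (hL : PicF.IsInvertible L) (hpos : PosOnCurves k L) {F : X.Modules} (hF : Coh.IsCoh F) :
    ∃ n₀ : ℕ, ∀ n, n₀ ≤ n →
      Subsingleton (Coh.HH X (CohB1.tensorMod F (CohB1.tensorPow L n)) 1) := by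
  have := isNoetherian_of_proper (k := k) (X := X)
  have hP : ∀ n, PicF.IsInvertible (CohB1.tensorPow L n) := TensorMod.isInvertible_tensorPow hL
  refine Devissage.of_ideals (P := fun M => ∃ n₀ : ℕ, ∀ n, n₀ ≤ n →
      Subsingleton (Coh.HH X (CohB1.tensorMod M (CohB1.tensorPow L n)) 1)) ?_ ?_ ?_ F hF ?_
  · rintro M N ⟨e⟩ ⟨n₀, h⟩
    exact ⟨n₀, fun n hn =>
      Devissage.subsingleton_HH_of_iso (TensorMod.tensorIso e (Iso.refl _)) 1 (h n hn)⟩
  · intro M hM
    refine ⟨0, fun n _ => Devissage.subsingleton_HH_of_isZero ?_ 1⟩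
    rw [IsZero.iff_id_eq_zero]
    have h1 : twist (𝟙 M) (CohB1.tensorPow L n) = 𝟙 _ := by
      refine twist_hom_ext (hP n) fun V m e => ?_
      rw [twist_app_tmul]
      rfl
    rw [← h1, (IsZero.iff_id_eq_zero M).1 hM, twist_zero (hP n)]
  · rintro S hS h₁ h₂ h₃ ⟨a, ha⟩ ⟨b, hb⟩
    refine ⟨max a b, fun n hn => ?_⟩
    obtain ⟨w, hw⟩ := shortExact_twist hS (hP n)
    exact Devissage.subsingleton_HH_middle hw 1 (ha n (le_trans (le_max_left _ _) hn))
      (hb n (le_trans (le_max_right _ _) hn))
  intro Z i hi hZ _ I ι hι hI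
  obtain ⟨hcI, -⟩ := Devissage.isCoh_push i ι hI
  by_cases hd : topologicalKrullDim Z ≤ 0
  · obtain ⟨hfin, hcl⟩ := finite_range_of_dim i hd
    exact ⟨0, fun n _ => subsingleton_HH_of_finite_support (k := k)
      (TwistVanish.isCoh_tensorMod hcI (hP n)) hfin hcl
      ((support_tensorMod_subset _ (hP n)).trans (support_push_range i I)) one_pos⟩
  · have hd1 : topologicalKrullDim Z = 1 := by
      refine le_antisymm ((i.isClosedEmbedding.isInducing.topologicalKrullDim_le).trans hdim) ?_
      by_contra h
      apply hd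
      generalize topologicalKrullDim Z = d at h ⊢
      induction d using WithBot.recBotCoe with
      | bot => exact bot_le
      | coe a => simp_all
    letI : Z.Over (Spec (CommRingCat.of k)) := ⟨i ≫ X ↘ Spec (CommRingCat.of k)⟩
    haveI : IsProper (Z ↘ Spec (CommRingCat.of k)) :=
      inferInstanceAs (IsProper (i ≫ X ↘ Spec (CommRingCat.of k)))
    have := isNoetherian_of_proper (k := k) (X := Z)
    have hIc : Coh.IsCoh I := isCoh_of_mono ι (Devissage.isCoh_structureModule Z) hI
    obtain ⟨n₀, h₀⟩ := eventually_subsingleton_H1 (k := k) hd1 (isInvertible_pullback i hL)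
      (hpos Z i hi hZ hd1 rfl) hIc
    refine ⟨n₀, fun n hn => ?_⟩
    let N := CohB1.tensorMod I ((Scheme.Modules.pullback i).obj (CohB1.tensorPow L n))
    have hN : Subsingleton (Coh.HH Z N 1) := Devissage.subsingleton_HH_of_iso
      (TensorMod.tensorIso (Iso.refl I) (pullPowIso i hL n).symm) 1 (h₀ n hn)
    have hNq : Coh.IsQCoh N := (TwistVanish.isCoh_tensorMod hIc (isInvertible_pullback i (hP n))).1
    obtain ⟨eH⟩ := nonempty_hhPush (A := k) i rfl N hNq 1
    exact Devissage.subsingleton_HH_of_iso (DCohBridge.projModIso i I (CohB1.tensorPow L n)).symm 1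
      eH.symm.injective.subsingleton

theorem exists_section_at (hdim : topologicalKrullDim X ≤ 1) {L : X.Modules}
    (hL : PicF.IsInvertible L) (hpos : PosOnCurves k L) {x : X} (hx : IsClosed ({x} : Set X)) :
    ∃ (n : ℕ) (s : Coh.structureModule X ⟶ CohB1.tensorPow L (n + 1)), x ∈ CohB1.genLocus _ s := by
  have := isNoetherian_of_proper (k := k) (X := X)
  let D : X.IdealSheafData := Scheme.IdealSheafData.vanishingIdeal ⟨{x}, hx⟩
  let i := D.subschemeι
  have hrange : Set.range i = ({x} : Set X) := by
    show Set.range D.subschemeι = _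
    rw [Scheme.IdealSheafData.range_subschemeι, Scheme.IdealSheafData.coe_support_vanishingIdeal]
    rfl
  have hepi := Devissage.epi_toSubscheme D
  let S : ShortComplex X.Modules :=
    ShortComplex.mk (ClSub.idealModι D) (ClSub.toSubscheme D) (kernel.condition _)
  have hS : S.ShortExact :=
    { exact := ShortComplex.exact_of_f_is_kernel _ (kernelIsKernel _)
      mono_f := inferInstanceAs (Mono (kernel.ι (ClSub.toSubscheme D)))
      epi_g := hepi }
  have hO : Coh.IsCoh (Coh.structureModule X) := isCoh_structureModule (k := k)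
  have hQ : Coh.IsCoh (ClSub.quotMod D) := by
    have : AlgebraicGeometry.IsLocallyNoetherian D.subscheme :=
      LocallyOfFiniteType.isLocallyNoetherian D.subschemeι
    exact isCoh_pushforward_of_isFinite D.subschemeι (Devissage.isCoh_structureModule D.subscheme)
  have hI : Coh.IsCoh (ClSub.idealMod D) :=
    have : Mono (ClSub.idealModι D) := inferInstanceAs (Mono (kernel.ι (ClSub.toSubscheme D)))
    isCoh_of_mono (ClSub.idealModι D) hO (isQuasicoherent_kernel _ hO.1 hQ.1)
  obtain ⟨n₀, hn₀⟩ := eventually_subsingleton_H1_of_pos hdim hL hpos hI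
  let P := CohB1.tensorPow L (n₀ + 1)
  have hP : PicF.IsInvertible P := TensorMod.isInvertible_tensorPow hL _
  obtain ⟨w, hw⟩ := shortExact_twist hS hP
  have hsurj : Function.Surjective ((twist S.g P).app ⊤) := by
    intro m
    have hker : (secEquiv (CohB1.tensorMod S.X₃ P)).symm m ∈
        LinearMap.ker (CohFinite.hhDelta k hw 0) :=
      LinearMap.mem_ker.2 (@Subsingleton.elim _ (hn₀ (n₀ + 1) (Nat.le_succ _)) _ _)
    rw [← CohFinite.hhDelta_ker_eq_range (A := k) hw 0] at hker
    obtain ⟨z, hz⟩ := hker
    refine ⟨secEquiv (CohB1.tensorMod S.X₂ P) z, ?_⟩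
    rw [← secEquiv_map (twist S.g P) z]
    exact (congrArg (secEquiv (CohB1.tensorMod S.X₃ P)) hz).trans
      ((secEquiv (CohB1.tensorMod S.X₃ P)).apply_symm_apply m)
  obtain ⟨U, -, hxU, -, e, he⟩ := exists_isFrame hP (W := ⊤) (x := x) trivial
  have hsupp : CohB1.support (CohB1.tensorMod S.X₃ P) ⊆ ({x} : Set X) :=
    (support_tensorMod_subset _ hP).trans
      (Set.Subset.trans (support_push_range i _) hrange.le)
  let one : Γ(Coh.structureModule X, U) := (1 : Γ(X, U))
  obtain ⟨σ, hσ⟩ := (bijective_split (CohB1.tensorMod S.X₃ P) hx hsupp (fun _ => U)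
    (fun y => (show y.1 = x from y.2).symm ▸ hxU)
    (fun y z _ hz => (show z = x from hz).trans (show y.1 = x from y.2).symm)).2
      (fun _ => (twist S.g P).app U (SecTwist.tmul S.X₂ P U one e))
  obtain ⟨t, ht⟩ := hsurj σ
  obtain ⟨a, ha⟩ := (TwistVanish.bijective_tmul_frame (Coh.structureModule X) he U le_rfl).2
    (mres (CohB1.tensorMod S.X₂ P) le_top t)
  have hkey : S.g.app U a = S.g.app U one := by
    refine (TwistVanish.bijective_tmul_frame S.X₃ he U le_rfl).1 ?_
    show SecTwist.tmul S.X₃ P U (S.g.app U a) (mres P le_rfl e) =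
      SecTwist.tmul S.X₃ P U (S.g.app U one) (mres P le_rfl e)
    rw [← twist_app_tmul, ← twist_app_tmul,
      show SecTwist.tmul S.X₂ P U a (mres P le_rfl e) = mres (CohB1.tensorMod S.X₂ P) le_top t from ha,
      ← app_nat, ht, mres_refl]
    exact congrFun hσ ⟨x, rfl⟩
  let f : Γ(X, U) := a
  have hxf : x ∈ X.basicOpen f := by
    obtain ⟨z, hz⟩ : x ∈ Set.range i := hrange ▸ rfl
    have h1 : i.app U f = i.app U 1 := hkey
    have h2 : z ∈ D.subscheme.basicOpen (i.app U f) := by
      rw [h1, map_one, Scheme.basicOpen_one]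
      show i z ∈ U
      rw [hz]; exact hxU
    rw [← Scheme.preimage_basicOpen] at h2
    rw [← hz]
    exact h2
  let φ : CohB1.tensorMod (Coh.structureModule X) P ≅ P := TensorMod.unitLeftIso P
  have hfr := isFrame_map_iso φ (IsFrame.tmul (M := Coh.structureModule X) (e := one)
    (e' := e) (fun V hV => by
      have h : (fun r : Γ(X, V) => r • mres (Coh.structureModule X) hV one) = fun r => r :=
        funext fun r => (congrArg (r * ·) (map_one (X.presheaf.map (homOfLE hV).op).hom)).trans (mul_one r)
      show Function.Bijective fun r : Γ(X, V) => r • mres (Coh.structureModule X) hV one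
      rw [h]
      exact Function.bijective_id) he)
  refine ⟨n₀, homOfSection P (φ.hom.app ⊤ t), ?_⟩
  have hsect : f • φ.hom.app U (SecTwist.tmul (Coh.structureModule X) P U one e) =
      sect (homOfSection P (φ.hom.app ⊤ t)) U := by
    have hone : f • one = a := mul_one f
    rw [sect_homOfSection, GenLocus.app_mres, ← Scheme.Modules.Hom.app_smul, ← GenLocus.tmul_smul_left,
      hone]
    refine congrArg _ ?_
    refine Eq.trans ?_ ha
    rw [mres_refl]
  have := (genLocus_inf_eq_basicOpen (homOfSection P (φ.hom.app ⊤ t)) hfr hsect).ge hxf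
  exact this.1

include k in
/-- An open subset containing no complete curve is affine. -/
theorem isAffineOpen_of_no_curve (hdim : topologicalKrullDim X ≤ 1) (U : X.Opens)
    (hU : ∀ C ∈ irreducibleComponents (X : Type u), topologicalKrullDim C = 1 →
      ¬ C ⊆ (U : Set X)) : IsAffineOpen U := by
  classical
  have := isNoetherian_of_proper (k := k) (X := X)
  have := (NoetherianSpace.finite_irreducibleComponents (α := X)).to_subtype
  have := Fintype.ofFinite ↥(irreducibleComponents (X : Type u))
  let f : ↥(irreducibleComponents (X : Type u)) → Closeds X :=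
    fun Z => ⟨Z.1, isClosed_of_mem_irreducibleComponents Z.1 Z.2⟩
  let Q : Closeds X → Prop := fun C =>
    IsAffineOpen ((Scheme.IdealSheafData.vanishingIdeal C).subschemeι ⁻¹ᵁ U)
  have hcomp : ∀ Z, Q (f Z) := by
    intro Z
    let D := Scheme.IdealSheafData.vanishingIdeal (f Z)
    let i := D.subschemeι
    have hrange : Set.range i = Z.1 := RedSepLib.range_vanishingIdeal_subschemeι (f Z)
    have : IsIntegral D.subscheme := AffineComp.isIntegral_vanishingIdeal (f Z) Z.2.1
    letI : D.subscheme.Over (Spec (CommRingCat.of k)) := ⟨i ≫ X ↘ Spec (CommRingCat.of k)⟩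
    haveI : IsProper (D.subscheme ↘ Spec (CommRingCat.of k)) :=
      inferInstanceAs (IsProper (i ≫ X ↘ Spec (CommRingCat.of k)))
    have := isNoetherian_of_proper (k := k) (X := D.subscheme)
    have hd := (i.isClosedEmbedding.isInducing.topologicalKrullDim_le).trans hdim
    let V := i ⁻¹ᵁ U
    show IsAffineOpen V
    by_cases hV0 : (V : Set D.subscheme).Nonempty
    swap
    · have : V = ⊥ := Opens.ext (Set.not_nonempty_iff_eq_empty.1 hV0)
      rw [this]; exact isAffineOpen_bot _
    by_cases hV1 : V = ⊤
    · rw [hV1]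
      have hC : ¬ topologicalKrullDim Z.1 = 1 := fun h => hU Z.1 Z.2 h (by
        intro y hy
        rw [← hrange] at hy
        obtain ⟨z, rfl⟩ := hy
        exact (hV1.ge (Opens.mem_top z) : z ∈ V))
      have h0 : topologicalKrullDim D.subscheme ≤ 0 := by
        rw [dim_eq_of_range_eq i hrange] at hC
        generalize topologicalKrullDim D.subscheme = d at hd hC ⊢
        induction d using WithBot.recBotCoe with
        | bot => exact bot_le
        | coe a =>
          have : a < 1 := lt_of_le_of_ne (by exact_mod_cast hd) (by exact_mod_cast hC)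
          simp_all
      obtain ⟨-, hcl⟩ := finite_of_dim_le_zero (X := D.subscheme) isClosed_univ
        (((Homeomorph.Set.univ D.subscheme).isInducing.topologicalKrullDim_le).trans h0)
      have hsub : Subsingleton D.subscheme := ⟨fun a b => by
        have hg : ∀ y : D.subscheme, y = genericPoint D.subscheme := fun y =>
          ((genericPoint_specializes y).mem_closed (hcl (genericPoint D.subscheme) trivial) rfl :)
        rw [hg a, hg b]⟩
      obtain ⟨W, hW, hxW, -⟩ := Opens.isBasis_iff_nbhd.1 D.subscheme.isBasis_affineOpens (U := ⊤)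
        (Opens.mem_top (genericPoint D.subscheme))
      have : W = ⊤ := top_le_iff.1 fun y _ => Subsingleton.elim (genericPoint D.subscheme) y ▸ hxW
      exact this ▸ hW
    · exact CurveQProj.isAffineOpen_compl (k := k) hd V hV0 hV1
        (finite_closed (k := k) hd V.2.isClosed_compl
          (fun h => h (((genericPoint_spec D.subscheme).mem_open_set_iff V.2).2 (by simpa using hV0)))).1
  have hsup : Q (Finset.univ.sup f) := by
    refine Finset.sup_induction (p := Q) ?_ (fun C hC D hD => ?_) (fun Z _ => hcomp Z)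
    · have : ((Scheme.IdealSheafData.vanishingIdeal (⊥ : Closeds X)).subschemeι ⁻¹ᵁ U) = ⊥ :=
        Opens.ext (Set.eq_empty_of_forall_notMem fun y _ => by
          have : (Scheme.IdealSheafData.vanishingIdeal (⊥ : Closeds X)).subschemeι y ∈
              Set.range (Scheme.IdealSheafData.vanishingIdeal (⊥ : Closeds X)).subschemeι := ⟨y, rfl⟩
          rw [RedSepLib.range_vanishingIdeal_subschemeι] at this
          exact this)
      show IsAffineOpen _
      rw [this]; exact isAffineOpen_bot _
    · show IsAffineOpen _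
      rw [Scheme.IdealSheafData.vanishingIdeal_sup]
      exact AffineComp.isAffineOpen_preimage_inf U hC hD
  have htop : Finset.univ.sup f = ⊤ := top_le_iff.1 fun x _ =>
    Finset.le_sup (f := f)
      (Finset.mem_univ ⟨_, irreducibleComponent_mem_irreducibleComponents x⟩) mem_irreducibleComponent
  rw [htop] at hsup
  let j := (Scheme.IdealSheafData.vanishingIdeal (⊤ : Closeds X)).subschemeι
  have : Surjective j := ⟨fun x => by
    have : x ∈ Set.range j := by
      rw [RedSepLib.range_vanishingIdeal_subschemeι]; trivial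
    exact this⟩
  have hs : Surjective (j ∣_ U) := IsZariskiLocalAtTarget.restrict this U
  have hc : IsClosedImmersion (j ∣_ U) :=
    IsZariskiLocalAtTarget.restrict (P := @IsClosedImmersion) inferInstance U
  have : IsAffine (j ⁻¹ᵁ U).toScheme := hsup
  exact ThickAffine.isAffine_of_thickening (j ∣_ U)

theorem isAmple_of_pos (hdim : topologicalKrullDim X ≤ 1) {L : X.Modules} (hL : PicF.IsInvertible L)
    (hpos : PosOnCurves k L) : CohB1.IsAmple L := by
  have := isNoetherian_of_proper (k := k) (X := X)
  refine ⟨hL, inferInstance, fun x => ?_⟩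
  obtain ⟨y, hy, hxy⟩ : ∃ y : X, IsClosed ({y} : Set X) ∧ x ⤳ y := by
    obtain ⟨y, hyC, hy⟩ := (isClosed_closure (s := ({x} : Set X))).exists_closed_singleton
      ⟨x, subset_closure rfl⟩
    exact ⟨y, hy, specializes_iff_mem_closure.2 hyC⟩
  obtain ⟨n, s, hys⟩ := exists_section_at hdim hL hpos hy
  refine ⟨n, s, hxy.mem_open (CohB1.genLocus _ s).2 hys,
    isAffineOpen_of_no_curve (k := k) hdim _ fun C hC hC1 hsub => ?_⟩
  let D := Scheme.IdealSheafData.vanishingIdeal ⟨C, isClosed_of_mem_irreducibleComponents C hC⟩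
  let i := D.subschemeι
  have hrange : Set.range i = C := RedSepLib.range_vanishingIdeal_subschemeι _
  have : IsIntegral D.subscheme := AffineComp.isIntegral_vanishingIdeal _ hC.1
  letI : D.subscheme.Over (Spec (CommRingCat.of k)) := ⟨i ≫ X ↘ Spec (CommRingCat.of k)⟩
  haveI : IsProper (D.subscheme ↘ Spec (CommRingCat.of k)) :=
    inferInstanceAs (IsProper (i ≫ X ↘ Spec (CommRingCat.of k)))
  have hd : topologicalKrullDim D.subscheme = 1 := (dim_eq_of_range_eq i hrange).symm.trans hC1
  have hp := hpos D.subscheme i inferInstance inferInstance hd rfl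
  have hinv := isInvertible_pullback i hL
  have htop : CohB1.genLocus _ (pullHom i s ≫ (pullPowIso i hL (n + 1)).hom) = ⊤ := by
    rw [genLocus_comp_iso, genLocus_pullHom i (TensorMod.isInvertible_tensorPow hL _)]
    exact top_le_iff.1 fun z _ => hsub (hrange ▸ ⟨z, rfl⟩)
  have h0 := deg_eq_zero_of_genLocus_top (k := k) (TensorMod.isInvertible_tensorPow hinv (n + 1)) _ htop
  rw [deg_tensorPow (k := k) hd hinv (n + 1)] at h0
  rcases mul_eq_zero.1 h0 with h | h
  · exact absurd h (by exact_mod_cast Nat.succ_ne_zero n)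
  · exact absurd h (ne_of_gt hp)

theorem isAmple_iff_pos_components [AlgebraicGeometry.IsNoetherian X]
    (hdim : topologicalKrullDim X ≤ 1) {L : X.Modules} (hL : PicF.IsInvertible L) :
    CohB1.IsAmple L ↔ ∀ (C : Set X) (hC : C ∈ irreducibleComponents (X : Type u)),
      topologicalKrullDim C = 1 → 0 < @Curv2.deg k _ (X.irreducibleComponentIdeal C hC).radical.subscheme
        ⟨(X.irreducibleComponentIdeal C hC).radical.subschemeι ≫ (X ↘ (Spec (CommRingCat.of k)))⟩
        ((Scheme.Modules.pullback (X.irreducibleComponentIdeal C hC).radical.subschemeι).obj L) 1 := by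
  have hrad : ∀ (C : Set X) (hC : C ∈ irreducibleComponents (X : Type u)),
      (X.irreducibleComponentIdeal C hC).radical =
        Scheme.IdealSheafData.vanishingIdeal ⟨C, isClosed_of_mem_irreducibleComponents C hC⟩ := by
    intro C hC
    rw [← Scheme.IdealSheafData.vanishingIdeal_support]
    congr 1
  constructor
  · intro hamp C hC hC1
    rw [hrad C hC]
    let D := Scheme.IdealSheafData.vanishingIdeal ⟨C, isClosed_of_mem_irreducibleComponents C hC⟩
    let i := D.subschemeι
    have : IsIntegral D.subscheme := AffineComp.isIntegral_vanishingIdeal _ hC.1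
    letI : D.subscheme.Over (Spec (CommRingCat.of k)) := ⟨i ≫ X ↘ Spec (CommRingCat.of k)⟩
    haveI : IsProper (D.subscheme ↘ Spec (CommRingCat.of k)) :=
      inferInstanceAs (IsProper (i ≫ X ↘ Spec (CommRingCat.of k)))
    have hd : topologicalKrullDim D.subscheme = 1 :=
      (dim_eq_of_range_eq i (RedSepLib.range_vanishingIdeal_subschemeι _)).symm.trans hC1
    exact (isAmple_iff_deg_pos (k := k) hd (isInvertible_pullback i hL)).1
      (isAmple_pullback_of_isAffineHom i hamp)
  · intro h
    refine isAmple_of_pos (k := k) hdim hL fun Z i _ hi hZ hdZ hcomp => ?_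
    let ξ := i (genericPoint Z)
    have hnc : ¬ IsClosed ({ξ} : Set X) := fun hcl => by
      have hr : Set.range i ⊆ {ξ} := by
        rw [Devissage.range_eq_closure i, hcl.closure_eq]
      have : Subsingleton Z := ⟨fun a b => i.isClosedEmbedding.injective
        ((show i a = ξ from hr ⟨a, rfl⟩).trans (show i b = ξ from hr ⟨b, rfl⟩).symm)⟩
      have hs : Subsingleton (IrreducibleCloseds Z) := ⟨fun a b => IrreducibleCloseds.ext (by
        rw [Subsingleton.eq_univ_of_nonempty a.isIrreducible.nonempty,
          Subsingleton.eq_univ_of_nonempty b.isIrreducible.nonempty])⟩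
      have h0 : topologicalKrullDim Z ≤ 0 := Order.krullDim_nonpos_of_subsingleton
      rw [hdZ] at h0
      exact absurd h0 (by decide)
    obtain ⟨η, hη⟩ : ∃ η, η ∈ genericPoints (X : Type u) ∧ η ⤳ ξ := by
      obtain ⟨C, hC, hξC⟩ : ∃ C ∈ irreducibleComponents (X : Type u), ξ ∈ C :=
        ⟨_, irreducibleComponent_mem_irreducibleComponents ξ, mem_irreducibleComponent⟩
      obtain ⟨η, hη⟩ := QuasiSober.sober hC.1 (isClosed_of_mem_irreducibleComponents C hC)
      refine ⟨η, ?_, hη.specializes hξC⟩
      show closure ({η} : Set X) ∈ irreducibleComponents (X : Type u)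
      rw [show closure ({η} : Set X) = C from hη]
      exact hC
    have hηξ : η = ξ := by
      by_contra hne
      exact hnc (isClosed_singleton_of_specializes hdim hη.2 (Ne.symm hne))
    have hC : Set.range i ∈ irreducibleComponents (X : Type u) := by
      rw [Devissage.range_eq_closure i]
      rw [show i (genericPoint Z) = η from hηξ.symm]
      exact hη.1
    have hC1 : topologicalKrullDim (Set.range i) = 1 := (dim_eq_of_range_eq i rfl).trans hdZ
    have key := h _ hC hC1
    rw [hrad _ hC] at key
    letI := hcomp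
    let D := Scheme.IdealSheafData.vanishingIdeal ⟨Set.range i, isClosed_of_mem_irreducibleComponents _ hC⟩
    letI : D.subscheme.Over (Spec (CommRingCat.of k)) := ⟨D.subschemeι ≫ X ↘ Spec (CommRingCat.of k)⟩
    haveI : IsReduced D.subscheme := RedSepLib.isReduced_vanishingIdeal _
    rw [deg_restrict_eq i D.subschemeι hcomp rfl
      (RedSepLib.range_vanishingIdeal_subschemeι ⟨Set.range i, isClosed_of_mem_irreducibleComponents _ hC⟩).symm
      (TensorMod.isFinLocFreeOfRank_one hL)]
    exact key

end Groth.Agent.CurveDeg
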