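import Groth.Agent.CurveDeg.Twist
import Groth.Agent.CurveDeg.Devissage
import Groth.Agent.DCohBridge.PushProj
import Groth.Prelude.Def_BlowUp2
import Groth.Agent.Devissage.Sub
import Mathlib.AlgebraicGeometry.ZariskisMainTheorem
import Mathlib.RingTheory.Ideal.MinimalPrime.Localization

/-! Twisting by effective Cartier divisors in dimension one. -/

set_option autoImplicit false
set_option backward.isDefEq.respectTransparency false
set_option backward.isDefEq.respectTransparency.types false

noncomputable section

universe u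

open CategoryTheory Limits AlgebraicGeometry Opposite TopologicalSpace Groth.Agent.QCohBase

namespace Groth.Agent.CurveDeg

variable {X : Scheme.{u}}

theorem support_push_subset_range {Z : Scheme.{u}} (i : Z ⟶ X) [IsClosedImmersion i] (M : Z.Modules) :
    CohB1.support ((Scheme.Modules.pushforward i).obj M) ⊆ Set.range i := fun y hy => by
  by_contra h
  exact hy (ModuleCat.subsingleton_of_isZero (DCohBridge.isZero_stalk_push_of_notMem i h M))

theorem isClosed_singleton_of_mem_effCartier (hdim : topologicalKrullDim X ≤ 1) {D : X.IdealSheafData}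
    (hD : BlowUp.IsEffCartierIdeal D) {x : X} (hx : x ∈ D.support) : IsClosed ({x} : Set X) := by
  obtain ⟨U, hxU, g, hg0, hg⟩ := hD x
  have hgx : g ∈ (U.2.primeIdealOf ⟨x, hxU⟩).asIdeal := by
    by_contra h
    have hb := (QCohBase.mem_basicOpen_iff_notMem_prime U.2 x hxU g).2 h
    rw [Scheme.IdealSheafData.mem_support_iff_of_mem (U := U) hxU, Scheme.zeroLocus_def] at hx
    simp only [Set.mem_iInter, Set.mem_compl_iff, SetLike.mem_coe] at hx
    exact hx g (hg ▸ Ideal.mem_span_singleton_self g) hb
  obtain ⟨q, hq, hle⟩ := Ideal.exists_minimalPrimes_le (I := (⊥ : Ideal Γ(X, U.1)))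
    (J := (U.2.primeIdealOf ⟨x, hxU⟩).asIdeal) bot_le
  have : q.IsPrime := hq.1.1
  have hne : g ∉ q := fun hgq =>
    Set.disjoint_left.1 (Ideal.disjoint_nonZeroDivisors_of_mem_minimalPrimes hq) hgq hg0
  let ξ : X := U.2.fromSpec ⟨q, inferInstance⟩
  have hsp : ξ ⤳ x := by
    have h1 : ξ ⤳ U.2.fromSpec (U.2.primeIdealOf ⟨x, hxU⟩) :=
      ((PrimeSpectrum.le_iff_specializes ⟨q, inferInstance⟩ (U.2.primeIdealOf ⟨x, hxU⟩)).1 hle).map
        U.2.fromSpec.continuous
    have e1 : U.2.fromSpec (U.2.primeIdealOf ⟨x, hxU⟩) = x := U.2.fromSpec_primeIdealOf ⟨x, hxU⟩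
    rwa [e1] at h1
  refine isClosed_singleton_of_specializes hdim hsp fun h => hne ?_
  have h2 : U.2.fromSpec (U.2.primeIdealOf ⟨x, hxU⟩) = U.2.fromSpec ⟨q, inferInstance⟩ :=
    (U.2.fromSpec_primeIdealOf ⟨x, hxU⟩).trans h
  have h3 := congrArg PrimeSpectrum.asIdeal (U.2.fromSpec.isOpenEmbedding.injective h2)
  rw [h3] at hgx
  exact hgx

theorem finite_effCartier [NoetherianSpace X] (hdim : topologicalKrullDim X ≤ 1) {D : X.IdealSheafData}
    (hD : BlowUp.IsEffCartierIdeal D) :
    (D.support : Set X).Finite ∧ ∀ x ∈ (D.support : Set X), IsClosed ({x} : Set X) := by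
  have hcl : ∀ x ∈ (D.support : Set X), IsClosed ({x} : Set X) := fun x hx =>
    isClosed_singleton_of_mem_effCartier hdim hD hx
  refine ⟨(VarLib.finite_maximal_points D.support.isClosed).subset fun x hx =>
    ⟨hx, fun y hy h => ?_⟩, hcl⟩
  exact (h.mem_closed (hcl y hy) rfl).symm

variable {k : Type u} [Field k] [X.Over (Spec (CommRingCat.of k))] [IsProper (X ↘ Spec (CommRingCat.of k))]

theorem deg_tensor_effCartier (hdim : topologicalKrullDim X ≤ 1) {D : X.IdealSheafData}
    (hD : BlowUp.IsEffCartierIdeal D) {L : X.Modules} (hL : PicF.IsInvertible L)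
    (hLD : ClSub.IsInverseOf L (ClSub.idealMod D)) {n : ℕ} {E : X.Modules}
    (hE : FlatMod.IsFinLocFreeOfRank n E) :
    IsFinite (D.subschemeι ≫ (X ↘ Spec (CommRingCat.of k))) ∧
      Curv2.deg k X (CohB1.tensorMod E L) n =
        n * Module.finrank k (Coh.HH X (ClSub.quotMod D) 0) + Curv2.deg k X E n := by
  have := isNoetherian_of_proper (k := k) (X := X)
  obtain ⟨hfin, hcl⟩ := finite_effCartier hdim hD
  constructor
  · let f := D.subschemeι ≫ (X ↘ Spec (CommRingCat.of k))
    have : Finite D.subscheme := by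
      have : Finite (Set.range D.subschemeι) :=
        (D.range_subschemeι ▸ hfin : (Set.range D.subschemeι).Finite).to_subtype
      exact Finite.of_equiv _
        (Equiv.ofInjective _ D.subschemeι.isClosedEmbedding.injective).symm
    have : LocallyQuasiFinite f :=
      LocallyQuasiFinite.of_finite_preimage_singleton f fun _ => Set.toFinite _
    exact IsFinite.of_isProper_of_locallyQuasiFinite f
  · have hepi := Devissage.epi_toSubscheme D
    let S : ShortComplex X.Modules :=
      ShortComplex.mk (ClSub.idealModι D) (ClSub.toSubscheme D) (kernel.condition _)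
    have hS : S.ShortExact :=
      { exact := ShortComplex.exact_of_f_is_kernel _ (kernelIsKernel _)
        mono_f := inferInstanceAs (Mono (kernel.ι (ClSub.toSubscheme D)))
        epi_g := hepi }
    have hO : Coh.IsCoh (Coh.structureModule X) := isCoh_structureModule (k := k)
    have hQ : Coh.IsCoh (ClSub.quotMod D) := by
      have : AlgebraicGeometry.IsLocallyNoetherian D.subscheme :=
        LocallyOfFiniteType.isLocallyNoetherian D.subschemeι
      exact isCoh_pushforward_of_isFinite D.subschemeι (Devissage.isCoh_structureModule D.subscheme)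
    have hI : Coh.IsCoh (ClSub.idealMod D) :=
      have : Mono (ClSub.idealModι D) := inferInstanceAs (Mono (kernel.ι (ClSub.toSubscheme D)))
      isCoh_of_mono (ClSub.idealModι D) hO (isQuasicoherent_kernel _ hO.1 hQ.1)
    have hL1 : FlatMod.IsFinLocFreeOfRank 1 L := TensorMod.isFinLocFreeOfRank_one hL
    have hL' := TensorMod.isFinLocFree_of_rank hL1
    have h4 := euler_tensorLeft_additive (k := k) hE (tensorSeq L S) (shortExact_tensorLeft hL' hS)
      (isCoh_tensorLeft hL1 hI) (isCoh_tensorLeft hL1 hO) (isCoh_tensorLeft hL1 hQ)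
    change Curv2.euler k X (CohB1.tensorMod E (CohB1.tensorMod L (Coh.structureModule X))) =
      Curv2.euler k X (CohB1.tensorMod E (CohB1.tensorMod L (ClSub.idealMod D))) +
        Curv2.euler k X (CohB1.tensorMod E (CohB1.tensorMod L (ClSub.quotMod D))) at h4
    obtain ⟨e⟩ := hLD
    have hsQ : CohB1.support (ClSub.quotMod D) ⊆ (D.support : Set X) :=
      (support_push_subset_range D.subschemeι _).trans_eq D.range_subschemeι
    rw [euler_congr (k := k) (TensorMod.tensorIso (Iso.refl E) (TensorMod.unitRightIso L)),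
      euler_congr (k := k) (TensorMod.tensorIso (Iso.refl E) e ≪≫ TensorMod.unitRightIso E),
      euler_tensorLeft_of_finite_support (isCoh_tensorLeft hL1 hQ) hE hfin hcl
        ((support_tensorLeft_subset _ hL1).trans hsQ),
      euler_tensorLeft_of_finite_support hQ hL1 hfin hcl hsQ,
      euler_of_finite_support hQ hfin hcl hsQ] at h4
    simp only [Curv2.deg]
    push_cast at h4 ⊢
    linarith

end Groth.Agent.CurveDeg
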