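import Groth.Agent.CurveDeg.Tensor
import Groth.Agent.TensorMod.Dual
import Groth.Agent.TensorMod.FinLocFree
import Groth.Agent.GenLocus.Ops
import Groth.Agent.VarLib.Noetherian

/-! Degrees of invertible modules with sections on integral proper curves. -/

set_option autoImplicit false
set_option backward.isDefEq.respectTransparency false

noncomputable section

universe u

open CategoryTheory Limits AlgebraicGeometry Opposite TopologicalSpace Groth.Agent.QCohBase
open Groth.Agent.GenLocus

namespace Groth.Agent.CurveDeg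

variable {X : Scheme.{u}}

theorem genLocus_nonempty_of_ne_zero [IsIntegral X] {L : X.Modules} (hL : PicF.IsInvertible L)
    {s : Coh.structureModule X ⟶ L} (hs : s ≠ 0) : genericPoint X ∈ CohB1.genLocus L s := by
  by_contra h
  refine hs (Scheme.Modules.hom_ext _ _ fun U => ?_)
  ext r
  choose V hV hxV hVU using fun y : U => Opens.isBasis_iff_nbhd.1 (exists_frame_basis hL) y.2
  refine eq_of_iSup_le _ V hVU (fun y hy => Opens.mem_iSup.2 ⟨⟨y, hy⟩, hxV ⟨y, hy⟩⟩) _ _ fun y => ?_
  obtain ⟨e, he⟩ := hV y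
  obtain ⟨f, hf, hfD⟩ := genLocus_inf_frame s he
  have hf0 : f = 0 := by
    refine (basicOpen_eq_bot_iff f).1 (eq_bot_iff.2 fun z hz => ?_)
    exact (h ((genericPoint_specializes z).mem_open (CohB1.genLocus L s).2 (hfD.ge hz).1)).elim
  have h1 : sect s (V y) = 0 := by rw [← hf, hf0, zero_smul]
  show mres L (hVU y) (s.app U r) = mres L (hVU y) ((0 : Coh.structureModule X ⟶ L).app U r)
  have e0 : ((0 : Coh.structureModule X ⟶ L).app U r) = 0 := rfl
  rw [e0, map_zero, app_nat]
  exact (app_eq_smul s (V y) _).trans (by rw [h1, smul_zero])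

theorem mono_of_ne_zero [IsIntegral X] {L : X.Modules} (hL : PicF.IsInvertible L)
    {s : Coh.structureModule X ⟶ L} (hs : s ≠ 0) : Mono s := by
  refine Devissage.mono_of_app_injective _ fun V => (injective_iff_map_eq_zero _).2 fun r hr => ?_
  obtain hV | ⟨y, hy⟩ := (V : Set X).eq_empty_or_nonempty
  · exact eq_zero_of_forall_germ _ _ fun y hy => absurd (hV.le hy) id
  have hη : genericPoint X ∈ CohB1.genLocus L s ⊓ V :=
    ⟨genLocus_nonempty_of_ne_zero hL hs, (genericPoint_specializes y).mem_open V.2 hy⟩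
  have : Nonempty V := ⟨⟨y, hy⟩⟩
  obtain ⟨W, hηW, hW⟩ := (mem_genLocus_iff s).1 hη.1
  have hf := hW.res (inf_le_left : W ⊓ V ≤ W)
  rw [mres_sect] at hf
  have h1 : s.app (W ⊓ V) (mres (Coh.structureModule X) inf_le_right r) = 0 := by
    rw [← app_nat, hr, map_zero]
  have h2 : (ores (inf_le_right : W ⊓ V ≤ V) r) = 0 := by
    refine hf.bijective.1 ?_
    show _ • sect s (W ⊓ V) = (0 : Γ(X, W ⊓ V)) • sect s (W ⊓ V)
    rw [zero_smul, ← app_eq_smul]
    exact h1
  refine germ_injective_of_isIntegral X (U := V) (genericPoint X) hη.2 ?_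
  rw [map_zero, ← TopCat.Presheaf.germ_res_apply X.presheaf (homOfLE (inf_le_right : W ⊓ V ≤ V))
    (genericPoint X) ⟨hηW, hη.2⟩ r]
  exact (congrArg _ h2).trans (map_zero _)

variable {k : Type u} [Field k] [X.Over (Spec (CommRingCat.of k))]
  [IsProper (X ↘ Spec (CommRingCat.of k))]

include k in
theorem finite_closed [IsIntegral X] (hdim : topologicalKrullDim X ≤ 1) {C : Set X} (hC : IsClosed C)
    (hη : genericPoint X ∉ C) : C.Finite ∧ ∀ x ∈ C, IsClosed ({x} : Set X) := by
  have := isNoetherian_of_proper (k := k) (X := X)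
  have hcl : ∀ x ∈ C, IsClosed ({x} : Set X) := fun x hx =>
    VarLib.isClosed_singleton_of_dim_le_one hdim fun h => hη (h ▸ hx)
  refine ⟨(VarLib.finite_maximal_points hC).subset fun x hx => ⟨hx, fun y hy h => ?_⟩, hcl⟩
  exact (h.mem_closed (hcl y hy) rfl).symm

include k in
theorem isCoh_structureModule : Coh.IsCoh (Coh.structureModule X) := by
  have := isNoetherian_of_proper (k := k) (X := X)
  exact Devissage.isCoh_structureModule X

theorem support_cokernel_subset {L : X.Modules} (hL : Coh.IsCoh L)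
    (hO : Coh.IsCoh (Coh.structureModule X)) (s : Coh.structureModule X ⟶ L) :
    CohB1.support (cokernel s) ⊆ (CohB1.genLocus L s : Set X)ᶜ := by
  intro y hy hys
  refine hy (subsingleton_of_forall_eq 0 fun z => ?_)
  obtain ⟨W, hyW, hW⟩ := (mem_genLocus_iff s).1 hys
  obtain ⟨V, hyV, t, rfl⟩ := TopCat.Presheaf.exists_germ_eq (F := (cokernel s).presheaf) z
  obtain ⟨_, ⟨A, hA, rfl⟩, hyA, hAW⟩ := X.isBasis_affineOpens.exists_subset_of_mem_open
    (show y ∈ ((W ⊓ V : X.Opens) : Set X) from ⟨hyW, hyV⟩) (W ⊓ V).2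
  obtain ⟨l, hl⟩ := app_surjective_of_epi (cokernel.π s) hL.1
    (isCoh_cokernel s hO.1 hL).1 hA (mres _ (fun w hw => (hAW hw).2) t)
  have hf := hW.res (show A ≤ W from fun w hw => (hAW hw).1)
  rw [mres_sect] at hf
  obtain ⟨r, hr⟩ := hf.bijective.2 l
  have h0 : mres (cokernel s) (fun w hw => (hAW hw).2 : A ≤ V) t = 0 := by
    rw [← hl, ← hr]
    show (cokernel.π s).app A (r • sect s A) = 0
    rw [← app_eq_smul, ← ConcreteCategory.comp_apply, ← Scheme.Modules.Hom.comp_app, cokernel.condition]
    rfl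
  rw [← AssPts.germ_mres (cokernel s) y (fun w hw => (hAW hw).2 : A ≤ V) hyA t, h0, map_zero]

theorem isIso_of_support_cokernel_empty {L : X.Modules} (hL : PicF.IsInvertible L)
    (s : Coh.structureModule X ⟶ L) (h : CohB1.support (cokernel s) = ∅) : IsIso s := by
  have hz : IsZero (cokernel s) := by
    rw [IsZero.iff_id_eq_zero]
    refine Scheme.Modules.hom_ext _ _ fun U => ?_
    ext r
    exact eq_zero_of_disjoint _ _ fun y _ hy => (h.le hy).elim
  have : Epi s := Abelian.epi_of_cokernel_π_eq_zero s (hz.eq_of_tgt _ _)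
  exact TensorMod.isIso_of_epi_invertible
    (fun x => ⟨⊤, trivial, ⟨Scheme.Modules.restrictUnitIso _⟩⟩) hL s

theorem genLocus_eq_top_of_isIso {L : X.Modules} (s : Coh.structureModule X ⟶ L) [IsIso s] :
    CohB1.genLocus L s = ⊤ := by
  have := genLocus_comp_iso (asIso s) (𝟙 _)
  rw [Category.id_comp, asIso_hom, genLocus_id] at this
  exact this

/-- The degree of an invertible module with a section is the length of its zero scheme. -/
theorem deg_eq_finrank [IsIntegral X] (hdim : topologicalKrullDim X ≤ 1) {L : X.Modules}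
    (hL : PicF.IsInvertible L) {s : Coh.structureModule X ⟶ L} (hs : s ≠ 0) :
    Curv2.deg k X L 1 = Module.finrank k (Coh.HH X (cokernel s) 0) := by
  have hO := isCoh_structureModule (k := k) (X := X)
  have hL' := TensorMod.isCoh_of_isInvertible hL
  have := mono_of_ne_zero hL hs
  have hT : (ShortComplex.mk s (cokernel.π s) (cokernel.condition s)).ShortExact :=
    { exact := ShortComplex.exact_of_g_is_cokernel _ (cokernelIsCokernel s)
      mono_f := inferInstanceAs (Mono s)
      epi_g := inferInstanceAs (Epi (cokernel.π s)) }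
  have hQ := isCoh_cokernel s hO.1 hL'
  obtain ⟨hfin, hcl⟩ := finite_closed (k := k) hdim (CohB1.genLocus L s).2.isClosed_compl
    (fun h => h (genLocus_nonempty_of_ne_zero hL hs))
  have h := euler_additive (k := k) _ hT hO hL' hQ
  rw [euler_of_finite_support hQ hfin hcl (support_cokernel_subset hL' hO s)] at h
  dsimp only at h
  rw [Curv2.deg, h]
  push_cast
  ring

theorem deg_nonneg [IsIntegral X] (hdim : topologicalKrullDim X ≤ 1) {L : X.Modules}
    (hL : PicF.IsInvertible L) {s : Coh.structureModule X ⟶ L} (hs : s ≠ 0) :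
    0 ≤ Curv2.deg k X L 1 := by
  rw [deg_eq_finrank hdim hL hs]; exact Int.natCast_nonneg _

theorem deg_pos [IsIntegral X] (hdim : topologicalKrullDim X ≤ 1) {L : X.Modules}
    (hL : PicF.IsInvertible L) {s : Coh.structureModule X ⟶ L} (hs : s ≠ 0)
    (hne : CohB1.genLocus L s ≠ ⊤) : 0 < Curv2.deg k X L 1 := by
  rw [deg_eq_finrank hdim hL hs, Int.natCast_pos]
  have hO := isCoh_structureModule (k := k) (X := X)
  have hL' := TensorMod.isCoh_of_isInvertible hL
  obtain ⟨hfin, hcl⟩ := finite_closed (k := k) hdim (CohB1.genLocus L s).2.isClosed_compl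
    (fun h => h (genLocus_nonempty_of_ne_zero hL hs))
  refine finrank_HH0_pos (isCoh_cokernel s hO.1 hL') hfin hcl (support_cokernel_subset hL' hO s) ?_
  by_contra h
  rw [Set.not_nonempty_iff_eq_empty] at h
  have := isIso_of_support_cokernel_empty hL s h
  exact hne (genLocus_eq_top_of_isIso s)

theorem nonempty_iso_of_deg_nonpos [IsIntegral X] (hdim : topologicalKrullDim X ≤ 1) {L : X.Modules}
    (hL : PicF.IsInvertible L) {s : Coh.structureModule X ⟶ L} (hs : s ≠ 0)
    (hdeg : Curv2.deg k X L 1 ≤ 0) : Nonempty (L ≅ Coh.structureModule X) := by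
  have htop : CohB1.genLocus L s = ⊤ := by
    by_contra h; exact absurd (deg_pos (k := k) hdim hL hs h) (not_lt.2 hdeg)
  have hL' := TensorMod.isCoh_of_isInvertible hL
  have := isIso_of_support_cokernel_empty hL s (Set.eq_empty_of_forall_notMem fun y hy =>
    support_cokernel_subset hL' (isCoh_structureModule (k := k)) s hy (by rw [htop]; trivial))
  exact ⟨(asIso s).symm⟩

end Groth.Agent.CurveDeg
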