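import Groth.Agent.CurveDeg.LocFree
import Groth.Agent.CurveDeg.Curve
import Groth.Agent.QCohBase.Exact

/-! Ranks and degrees in short exact sequences. -/

set_option autoImplicit false
set_option backward.isDefEq.respectTransparency false
set_option backward.isDefEq.respectTransparency.types false

noncomputable section

universe u

open CategoryTheory Limits AlgebraicGeometry Opposite TopologicalSpace
open Groth.Agent.QCohBase Groth.Agent.FrameHom

namespace Groth.Agent.CurveDeg

variable {X : Scheme.{u}}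

/-- The basis as a linear equivalence. -/
def basisEquiv {M : X.Modules} {n : ℕ} {U : X.Opens} {e : Fin n → Γ(M, U)} (he : IsBasisOn M e) :
    (Fin n → Γ(X, U)) ≃ₗ[Γ(X, U)] Γ(M, U) :=
  LinearEquiv.ofBijective
    { toFun := comb M e le_rfl
      map_add' := fun r r' => by simp only [comb, Pi.add_apply, add_smul, Finset.sum_add_distrib]
      map_smul' := fun c r => by
        simp only [comb, RingHom.id_apply, Pi.smul_apply, smul_eq_mul, mul_smul, Finset.smul_sum] }
    (he U le_rfl)

theorem rank_add_of_shortExact [Nonempty X] {S : ShortComplex X.Modules} (hS : S.ShortExact)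
    {n₁ n₂ n₃ : ℕ} (h₁ : FlatMod.IsFinLocFreeOfRank n₁ S.X₁)
    (h₂ : FlatMod.IsFinLocFreeOfRank n₂ S.X₂) (h₃ : FlatMod.IsFinLocFreeOfRank n₃ S.X₃) :
    n₂ = n₁ + n₃ := by
  obtain ⟨x⟩ := ‹Nonempty X›
  obtain ⟨U₁, -, hx₁, -, e₁, he₁⟩ := exists_basis_nhd h₁ (x := x) (W := ⊤) trivial
  obtain ⟨U₂, -, hx₂, hle₂, e₂, he₂⟩ := exists_basis_nhd h₂ hx₁
  obtain ⟨U, hU, hx, hle, e₃, he₃⟩ := exists_basis_nhd h₃ hx₂
  have he₁' := he₁.res (hle.trans hle₂)
  have he₂' := he₂.res hle
  have : Nonempty U := ⟨⟨x, hx⟩⟩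
  have := Module.Free.of_equiv (basisEquiv he₁')
  have := Module.Free.of_equiv (basisEquiv he₂')
  have := Module.Free.of_equiv (basisEquiv he₃)
  have := Module.Finite.equiv (basisEquiv he₁')
  have := Module.Finite.equiv (basisEquiv he₂')
  have := Module.Finite.equiv (basisEquiv he₃)
  have hmono := hS.mono_f
  let f : Γ(S.X₁, U) →ₗ[Γ(X, U)] Γ(S.X₂, U) :=
    { toFun := fun a => S.f.app U a
      map_add' := fun a b => map_add (S.f.app U).hom a b
      map_smul' := fun r a => Scheme.Modules.Hom.app_smul S.f r a }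
  let g : Γ(S.X₂, U) →ₗ[Γ(X, U)] Γ(S.X₃, U) :=
    { toFun := fun a => S.g.app U a
      map_add' := fun a b => map_add (S.g.app U).hom a b
      map_smul' := fun r a => Scheme.Modules.Hom.app_smul S.g r a }
  have hf : Function.Injective f := QCohBase.app_injective_of_mono S.f U
  have hg : Function.Surjective g := sections_surjective_affine hS
    (TensorMod.isQCoh_of_isFinLocFree (TensorMod.isFinLocFree_of_rank h₁)) hU
  have hfg : Function.Exact f g := fun b => by
    constructor
    · exact sections_exact_left hS.exact b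
    · rintro ⟨a, rfl⟩
      show S.g.app U (S.f.app U a) = 0
      rw [← ConcreteCategory.comp_apply, ← Scheme.Modules.Hom.comp_app, S.zero]
      rfl
  obtain ⟨s, hs⟩ := Module.projective_lifting_property g LinearMap.id hg
  have key := (hfg.splitSurjectiveEquiv hf ⟨s, hs⟩).1.finrank_eq
  rw [Module.finrank_prod, ← (basisEquiv he₁').finrank_eq, ← (basisEquiv he₂').finrank_eq,
    ← (basisEquiv he₃).finrank_eq] at key
  simpa using key

variable {k : Type u} [Field k] [X.Over (Spec (CommRingCat.of k))] [IsProper (X ↘ Spec (CommRingCat.of k))]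

theorem deg_shortExact (S : ShortComplex X.Modules) (hS : S.ShortExact)
    {n₁ n₂ n₃ : ℕ} (h₁ : FlatMod.IsFinLocFreeOfRank n₁ S.X₁)
    (h₂ : FlatMod.IsFinLocFreeOfRank n₂ S.X₂) (h₃ : FlatMod.IsFinLocFreeOfRank n₃ S.X₃) :
    Curv2.deg k X S.X₂ n₂ = Curv2.deg k X S.X₁ n₁ + Curv2.deg k X S.X₃ n₃ := by
  have hc : ∀ {M : X.Modules} {n : ℕ}, FlatMod.IsFinLocFreeOfRank n M → Coh.IsCoh M := fun h =>
    TensorMod.isCoh_of_isFinLocFree (TensorMod.isFinLocFree_of_rank h)
  have hχ := euler_additive (k := k) S hS (hc h₁) (hc h₂) (hc h₃)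
  rcases isEmpty_or_nonempty X with he | hne
  · have h0 : Curv2.euler k X (Coh.structureModule X) = 0 := by
      rw [euler_of_finite_support (k := k) (S := (∅ : Set X)) (isCoh_structureModule (k := k))
        Set.finite_empty (by simp) fun x => (he.false x).elim]
      have : ∀ m : Γ(Coh.structureModule X, ⊤), m = 0 := fun m =>
        eq_zero_of_forall_germ _ m fun y => (he.false y).elim
      have : Subsingleton (Coh.HH X (Coh.structureModule X) 0) := subsingleton_of_forall_eq 0 fun a =>
        (secEquiv _).injective ((this _).trans (map_zero _).symm)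
      simp [Module.finrank_zero_of_subsingleton]
    simp only [Curv2.deg, h0]
    linarith
  · rw [rank_add_of_shortExact hS h₁ h₂ h₃]
    simp only [Curv2.deg]
    push_cast
    linarith

end Groth.Agent.CurveDeg
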