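import Groth.Prelude.Def_CurvBase
import Groth.Agent.CurveDeg.H0
import Groth.Agent.CohFinite.Vanishing
import Groth.Agent.CohFinite.Proper
import Groth.Agent.QCohBase.HighDegree

/-! Euler characteristics of coherent modules on proper schemes over a field. -/

set_option autoImplicit false
set_option backward.isDefEq.respectTransparency false

noncomputable section

universe u

open CategoryTheory Limits AlgebraicGeometry Opposite TopologicalSpace Groth.Agent.QCohBase

namespace Groth.Agent.CurveDeg

variable {k : Type u} [Field k] {X : Scheme.{u}} [X.Over (Spec (CommRingCat.of k))]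
  [IsProper (X ↘ Spec (CommRingCat.of k))]

include k in
theorem isNoetherian_of_proper : IsNoetherian X := by
  have := LocallyOfFiniteType.isLocallyNoetherian (X ↘ Spec (CommRingCat.of k))
  have := QuasiCompact.compactSpace_of_compactSpace (X ↘ Spec (CommRingCat.of k))
  exact ⟨⟩

include k in
theorem isSeparated_of_proper : X.IsSeparated :=
  ⟨by rw [← terminal.comp_from (X ↘ Spec (CommRingCat.of k))]; infer_instance⟩

theorem finite_HH {M : X.Modules} (hM : Coh.IsCoh M) (i : ℕ) : Module.Finite k (Coh.HH X M i) :=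
  CohFinite.finite_HH_proper (A := k) _ hM i

include k in
theorem subsingleton_HH_dim {M : X.Modules} (hM : Coh.IsCoh M) {p : ℕ}
    (hp : topologicalKrullDim X < p) : Subsingleton (Coh.HH X M p) := by
  have := isNoetherian_of_proper (k := k) (X := X)
  have := isSeparated_of_proper (k := k) (X := X)
  exact CohFinite.subsingleton_HH_of_dim_lt M hM.1 p hp

omit [IsProper (X ↘ Spec (CommRingCat.of k))] in
theorem euler_eq_sum {M : X.Modules} {N : ℕ} (h : ∀ i, N ≤ i → Subsingleton (Coh.HH X M i)) :
    Curv2.euler k X M =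
      ∑ i ∈ Finset.range N, (-1 : ℤ) ^ i * (Module.finrank k (Coh.HH X M i) : ℤ) := by
  refine finsum_eq_sum_of_support_subset _ fun i hi => ?_
  rw [Finset.coe_range, Set.mem_Iio]
  by_contra hN
  have := h i (not_lt.1 hN)
  exact hi (by simp only [Module.finrank_zero_of_subsingleton, Nat.cast_zero, mul_zero])

/-- Additivity of Euler characteristics. -/
theorem euler_additive (S : ShortComplex X.Modules) (hS : S.ShortExact)
    (h₁ : Coh.IsCoh S.X₁) (h₂ : Coh.IsCoh S.X₂) (h₃ : Coh.IsCoh S.X₃) :
    Curv2.euler k X S.X₂ = Curv2.euler k X S.X₁ + Curv2.euler k X S.X₃ := by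
  have := isNoetherian_of_proper (k := k) (X := X)
  have := isSeparated_of_proper (k := k) (X := X)
  obtain ⟨d, hd⟩ := QCohBase.exists_bound_subsingleton_HH X
  have := fun i => finite_HH (k := k) h₁ i
  have := fun i => finite_HH (k := k) h₂ i
  have := fun i => finite_HH (k := k) h₃ i
  have h := CohFinite.euler_additive (A := k) S hS d (hd _ h₁.1 _ (by omega))
  simp only [lenN_eq_finrank] at h
  rw [euler_eq_sum (k := k) (fun i hi => hd _ h₁.1 i (le_trans (Nat.le_succ d) hi)),
    euler_eq_sum (k := k) (fun i hi => hd _ h₂.1 i (le_trans (Nat.le_succ d) hi)),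
    euler_eq_sum (k := k) (fun i hi => hd _ h₃.1 i (le_trans (Nat.le_succ d) hi))]
  exact h

omit [IsProper (X ↘ Spec (CommRingCat.of k))] in
theorem euler_congr {M N : X.Modules} (e : M ≅ N) : Curv2.euler k X M = Curv2.euler k X N :=
  finsum_congr fun i => by rw [finrank_HH_congr e i]

omit [IsProper (X ↘ Spec (CommRingCat.of k))] in
theorem deg_congr {M N : X.Modules} (e : M ≅ N) (n : ℕ) : Curv2.deg k X M n = Curv2.deg k X N n := by
  rw [Curv2.deg, Curv2.deg, euler_congr e]

/-- On a scheme of dimension at most one, `χ = h⁰ - h¹`. -/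
theorem euler_eq_sub (hdim : topologicalKrullDim X ≤ 1) {M : X.Modules} (hM : Coh.IsCoh M) :
    Curv2.euler k X M =
      (Module.finrank k (Coh.HH X M 0) : ℤ) - (Module.finrank k (Coh.HH X M 1) : ℤ) := by
  rw [euler_eq_sum (k := k) (N := 2) fun i hi => subsingleton_HH_dim (k := k) hM
    (lt_of_le_of_lt hdim (by exact_mod_cast hi))]
  simp [Finset.sum_range_succ, sub_eq_add_neg]

end Groth.Agent.CurveDeg
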