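import Groth.Agent.CurveDeg.GenusLe
import Groth.Agent.DimTheory.Scheme
import Mathlib.AlgebraicGeometry.ZariskisMainTheorem

/-! Genus and proper birational morphisms of curves. -/

set_option autoImplicit false
set_option backward.isDefEq.respectTransparency false
set_option backward.isDefEq.respectTransparency.types false
set_option linter.style.haveILetI false

noncomputable section

universe u

open CategoryTheory Limits AlgebraicGeometry Opposite TopologicalSpace

namespace Groth.Agent.CurveDeg

variable {X Y : Scheme.{u}}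

theorem dim_le_of_dense_open {k : Type u} [Field k] (q : Y ⟶ Spec (CommRingCat.of k))
    [LocallyOfFiniteType q] [NoetherianSpace Y] (V : Y.Opens) (hV : Dense (V : Set Y)) :
    topologicalKrullDim Y ≤ topologicalKrullDim (V : Scheme.{u}) := by
  rw [DimTheory.topologicalKrullDim_eq_iSup_height Y]
  refine iSup_le fun x => ?_
  have hC : irreducibleComponent x ∈ irreducibleComponents (Y : Type u) :=
    irreducibleComponent_mem_irreducibleComponents x
  obtain ⟨η, hη⟩ := QuasiSober.sober hC.1 (isClosed_of_mem_irreducibleComponents _ hC)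
  have hηV : η ∈ V := genericPoint_mem_of_dense hV hC hη
  have hx : x ≤ η := hη.specializes mem_irreducibleComponent
  refine le_trans (WithBot.coe_le_coe.2 (Order.height_mono hx)) ?_
  rw [DimTheory.topologicalKrullDim_eq_iSup_height (V : Scheme.{u})]
  refine le_iSup_of_le (⟨η, hηV⟩ : V) (WithBot.coe_le_coe.2 ?_)
  exact (DimTheory.height_opens q V ⟨η, hηV⟩).ge

variable {k : Type u} [Field k] [X.Over (Spec (CommRingCat.of k))] [Y.Over (Spec (CommRingCat.of k))]
  [IsProper (X ↘ Spec (CommRingCat.of k))]

theorem genus_le_of_birational (hdim : topologicalKrullDim X ≤ 1) (f : Y ⟶ X) [IsProper f]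
    (hf : f ≫ (X ↘ (Spec (CommRingCat.of k))) = Y ↘ (Spec (CommRingCat.of k)))
    (U : X.Opens) (hU : Dense (U : Set X)) (hU' : Dense ((f ⁻¹ᵁ U : Y.Opens) : Set Y))
    (hfU : IsIso (f ∣_ U)) : Curv2.genus k Y ≤ Curv2.genus k X := by
  have := hfU
  haveI : IsProper (Y ↘ Spec (CommRingCat.of k)) := hf ▸ inferInstance
  have := isNoetherian_of_proper (k := k) (X := Y)
  have hdY : topologicalKrullDim Y ≤ 1 := by
    refine (dim_le_of_dense_open (Y ↘ Spec (CommRingCat.of k)) _ hU').trans ?_
    exact ((IsHomeomorph.topologicalKrullDim_eq _ (f ∣_ U).homeomorph.isHomeomorph).le.trans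
      (topologicalKrullDim_subspace_le X (U : Set X))).trans hdim
  haveI : LocallyQuasiFinite f := LocallyQuasiFinite.of_finite_preimage_singleton f fun x => by
    by_cases hx : x ∈ U
    · refine Set.Subsingleton.finite fun a ha b hb => ?_
      have ha' : f a = x := ha
      have hb' : f b = x := hb
      have h := (f ∣_ U).homeomorph.injective
        (a₁ := (⟨a, show f a ∈ U from ha' ▸ hx⟩ : (f ⁻¹ᵁ U : Y.Opens)))
        (a₂ := (⟨b, show f b ∈ U from hb' ▸ hx⟩ : (f ⁻¹ᵁ U : Y.Opens)))
        (Subtype.ext ((morphismRestrict_base_coe f U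
            (⟨a, show f a ∈ U from ha' ▸ hx⟩ : (f ⁻¹ᵁ U : Y.Opens))).trans
          ((ha'.trans hb'.symm).trans (morphismRestrict_base_coe f U
            (⟨b, show f b ∈ U from hb' ▸ hx⟩ : (f ⁻¹ᵁ U : Y.Opens))).symm)))
      exact congrArg Subtype.val h
    · exact (finite_compl_of_dense hdY hU').1.subset fun a ha h =>
        hx ((show f a = x from ha) ▸ h)
  haveI : IsFinite f := IsFinite.of_isProper_of_locallyQuasiFinite f
  exact genus_le_of_finite hdim f hf U hU inferInstance

end Groth.Agent.CurveDeg
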