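import Groth.Agent.CurveDeg.GenusFinite
import Groth.Agent.CurveDeg.Additive

/-! A birational finite morphism of equal genus is an isomorphism. -/

set_option autoImplicit false
set_option backward.isDefEq.respectTransparency false
set_option backward.isDefEq.respectTransparency.types false
set_option linter.style.haveILetI false

noncomputable section

universe u

open CategoryTheory Limits AlgebraicGeometry Opposite TopologicalSpace
open Groth.Agent.QCohBase

namespace Groth.Agent.CurveDeg

variable {X Y : Scheme.{u}}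

theorem injective_app_of_dense [IsReduced X] (f : Y ⟶ X) (U : X.Opens) (hU : Dense (U : Set X))
    [IsIso (f ∣_ U)] (V : X.Opens) : Function.Injective (f.app V) := by
  refine (injective_iff_map_eq_zero _).2 fun r hr => ?_
  refine (basicOpen_eq_bot_iff r).1 (Opens.ext ?_)
  by_contra hne
  obtain ⟨z, hzD, hzU⟩ := hU.inter_open_nonempty _ (X.basicOpen r).2
    (Set.nonempty_iff_ne_empty.2 (by simpa using hne))
  have : Surjective (f ∣_ U) := inferInstance
  obtain ⟨w, hw⟩ := (f ∣_ U).surjective ⟨z, hzU⟩
  have hz : f w.1 = z := (morphismRestrict_base_coe f U w).symm.trans (congrArg Subtype.val hw)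
  have h2 : w.1 ∈ Y.basicOpen (f.app V r) := by
    rw [← Scheme.preimage_basicOpen]
    show f w.1 ∈ X.basicOpen r
    rw [hz]; exact hzD
  rw [hr] at h2
  simp at h2

variable {k : Type u} [Field k] [X.Over (Spec (CommRingCat.of k))] [Y.Over (Spec (CommRingCat.of k))]
  [IsProper (X ↘ Spec (CommRingCat.of k))]

theorem isIso_of_genus_eq [IsReduced X] (hdim : topologicalKrullDim X ≤ 1) (f : Y ⟶ X) [IsFinite f]
    (hf : f ≫ (X ↘ (Spec (CommRingCat.of k))) = Y ↘ (Spec (CommRingCat.of k)))
    (U : X.Opens) (hU : Dense (U : Set X)) [IsIso (f ∣_ U)]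
    (h0 : Function.Surjective (f.app ⊤).hom) (h1 : Curv2.genus k Y = Curv2.genus k X) : IsIso f := by
  haveI : IsProper (Y ↘ Spec (CommRingCat.of k)) := hf ▸ inferInstance
  have := isNoetherian_of_proper (k := k) (X := X)
  have := isNoetherian_of_proper (k := k) (X := Y)
  obtain ⟨hfin, hcl⟩ := finite_compl_of_dense hdim hU
  let M := (Scheme.Modules.pushforward f).obj (Coh.structureModule Y)
  let φ : Coh.structureModule X ⟶ M := toPush f
  have hO := Devissage.isCoh_structureModule X
  have hM : Coh.IsCoh M := isCoh_pushforward_of_isFinite f (Devissage.isCoh_structureModule Y)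
  have hQ := isCoh_cokernel φ hO.1 hM
  have hmono : Mono φ := Devissage.mono_of_app_injective _ fun V a b hab => by
    refine injective_app_of_dense f U hU V ?_
    rw [← toPush_app, ← toPush_app]
    exact hab
  let T : ShortComplex X.Modules := ShortComplex.mk φ (cokernel.π φ) (cokernel.condition φ)
  have hT : T.ShortExact :=
    { exact := ShortComplex.exact_of_g_is_cokernel _ (cokernelIsCokernel φ)
      mono_f := inferInstanceAs (Mono φ)
      epi_g := inferInstanceAs (Epi (cokernel.π φ)) }
  have hQS := support_cokernel_toPush_subset f U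
  have hQ1 : Subsingleton (Coh.HH X T.X₃ 1) :=
    subsingleton_HH_of_finite_support (k := k) hQ hfin hcl hQS one_pos
  have hsurj : Function.Surjective (CohFinite.hhMap k T.f 1) := fun y =>
    (CohFinite.hhMap_range_eq_ker (A := k) hT 1).ge
      (LinearMap.mem_ker.2 (@Subsingleton.elim _ hQ1 _ _))
  have := finite_HH (k := k) hO 1
  have := finite_HH (k := k) hM 1
  obtain ⟨e⟩ := nonempty_hhPush (A := k) f hf (Coh.structureModule Y)
    (Devissage.isCoh_structureModule Y).1 1
  have heq : Module.finrank k (Coh.HH X T.X₁ 1) = Module.finrank k (Coh.HH X T.X₂ 1) := by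
    show Curv2.genus k X = Module.finrank k (Coh.HH X M 1)
    rw [← h1]
    exact e.finrank_eq
  have hinj : Function.Injective (CohFinite.hhMap k T.f 1) :=
    (LinearMap.injective_iff_surjective_of_finrank_eq_finrank heq).2 hsurj
  have hH0 : ∀ z : Coh.HH X T.X₃ 0, z = 0 := by
    intro z
    have hδ : CohFinite.hhDelta k hT 0 z = 0 := by
      refine hinj ?_
      rw [map_zero]
      exact LinearMap.mem_ker.1 ((CohFinite.hhDelta_range_eq_ker (A := k) hT 0).le ⟨z, rfl⟩)
    obtain ⟨b, rfl⟩ := (CohFinite.hhDelta_ker_eq_range (A := k) hT 0).ge (LinearMap.mem_ker.2 hδ)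
    obtain ⟨a, ha⟩ := h0 (secEquiv T.X₂ b)
    refine (secEquiv T.X₃).injective ?_
    rw [map_zero]
    refine (secEquiv_map T.g b).trans ?_
    rw [← show φ.app ⊤ a = secEquiv T.X₂ b from (toPush_app f ⊤ a).trans ha]
    rw [← ConcreteCategory.comp_apply, ← Scheme.Modules.Hom.comp_app, T.zero]
    rfl
  have hsupp : CohB1.support (cokernel φ) = ∅ := by
    by_contra h
    have hne := Set.nonempty_iff_ne_empty.2 h
    have hp := finrank_HH0_pos (k := k) hQ hfin hcl hQS hne
    have : Subsingleton (Coh.HH X (cokernel φ) 0) := subsingleton_of_forall_eq 0 hH0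
    rw [Module.finrank_zero_of_subsingleton] at hp
    exact lt_irrefl _ hp
  have hz : IsZero (cokernel φ) := by
    rw [IsZero.iff_id_eq_zero]
    refine Scheme.Modules.hom_ext _ _ fun V => ?_
    ext r
    exact eq_zero_of_disjoint _ _ fun y _ hy => (hsupp.le hy).elim
  have : Epi φ := Abelian.epi_of_cokernel_π_eq_zero φ (hz.eq_of_tgt _ _)
  have : IsClosedImmersion f := isClosedImmersion_iff_isAffineHom.2 ⟨inferInstance, fun V hV z => by
    obtain ⟨r, hr⟩ := app_surjective_of_epi φ hO.1 hM.1 hV z
    exact ⟨r, (toPush_app f V r).symm.trans hr⟩⟩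
  rw [IsClosedImmersion.isIso_iff_ker_eq_bot]
  refine Scheme.IdealSheafData.ext (funext fun V => ?_)
  rw [Scheme.Hom.ker_apply, (RingHom.injective_iff_ker_eq_bot _).1 (injective_app_of_dense f U hU V.1)]
  rfl

end Groth.Agent.CurveDeg
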