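import Groth.Agent.CurveDeg.GenusBirat

/-! Proper birational morphisms of curves are finite. -/

set_option autoImplicit false
set_option backward.isDefEq.respectTransparency false
set_option backward.isDefEq.respectTransparency.types false
set_option linter.style.haveILetI false

noncomputable section

universe u

open CategoryTheory Limits AlgebraicGeometry Opposite TopologicalSpace

namespace Groth.Agent.CurveDeg

variable {X Y : Scheme.{u}}

variable {k : Type u} [Field k] [X.Over (Spec (CommRingCat.of k))] [Y.Over (Spec (CommRingCat.of k))]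
  [IsProper (X ↘ Spec (CommRingCat.of k))]

theorem isFinite_of_birational (hdim : topologicalKrullDim X ≤ 1) (f : Y ⟶ X) [IsProper f]
    (hf : f ≫ (X ↘ (Spec (CommRingCat.of k))) = Y ↘ (Spec (CommRingCat.of k)))
    (U : X.Opens) (hU : Dense (U : Set X)) (hU' : Dense ((f ⁻¹ᵁ U : Y.Opens) : Set Y))
    (hfU : IsIso (f ∣_ U)) : IsFinite f := by
  have := hfU
  haveI : IsProper (Y ↘ Spec (CommRingCat.of k)) := hf ▸ inferInstance
  have := isNoetherian_of_proper (k := k) (X := Y)
  have hdY : topologicalKrullDim Y ≤ 1 := by
    refine (dim_le_of_dense_open (Y ↘ Spec (CommRingCat.of k)) _ hU').trans ?_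
    exact ((IsHomeomorph.topologicalKrullDim_eq _ (f ∣_ U).homeomorph.isHomeomorph).le.trans
      (topologicalKrullDim_subspace_le X (U : Set X))).trans hdim
  haveI : LocallyQuasiFinite f := LocallyQuasiFinite.of_finite_preimage_singleton f fun x => by
    by_cases hx : x ∈ U
    · refine Set.Subsingleton.finite fun a ha b hb => ?_
      have ha' : f a = x := ha
      have hb' : f b = x := hb
      have h := (f ∣_ U).homeomorph.injective
        (a₁ := (⟨a, show f a ∈ U from ha' ▸ hx⟩ : (f ⁻¹ᵁ U : Y.Opens)))
        (a₂ := (⟨b, show f b ∈ U from hb' ▸ hx⟩ : (f ⁻¹ᵁ U : Y.Opens)))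
        (Subtype.ext ((morphismRestrict_base_coe f U
            (⟨a, show f a ∈ U from ha' ▸ hx⟩ : (f ⁻¹ᵁ U : Y.Opens))).trans
          ((ha'.trans hb'.symm).trans (morphismRestrict_base_coe f U
            (⟨b, show f b ∈ U from hb' ▸ hx⟩ : (f ⁻¹ᵁ U : Y.Opens))).symm)))
      exact congrArg Subtype.val h
    · exact (finite_compl_of_dense hdY hU').1.subset fun a ha h =>
        hx ((show f a = x from ha) ▸ h)
  exact IsFinite.of_isProper_of_locallyQuasiFinite f

end Groth.Agent.CurveDeg
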