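import Groth.Agent.CurveDeg.Euler
import Groth.Agent.TwistVanish.Basic
import Groth.Agent.QCohBase.Support

/-! Modules supported at finitely many closed points. -/

set_option autoImplicit false
set_option backward.isDefEq.respectTransparency false

noncomputable section

universe u

open CategoryTheory Limits AlgebraicGeometry Opposite TopologicalSpace Groth.Agent.QCohBase
open Groth.Agent.GenLocus

namespace Groth.Agent.CurveDeg

variable {X : Scheme.{u}}

theorem eq_zero_of_forall_germ (M : X.Modules) {V : X.Opens} (s : Γ(M, V))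
    (h : ∀ y (hy : y ∈ V), M.presheaf.germ V y hy s = 0) : s = 0 :=
  TopCat.Presheaf.section_ext ⟨M.presheaf, M.isSheaf⟩ V s 0
    fun y hy => (h y hy).trans (map_zero _).symm

theorem eq_zero_of_disjoint (M : X.Modules) {V : X.Opens} (s : Γ(M, V))
    (h : ∀ y ∈ V, y ∉ CohB1.support M) : s = 0 :=
  eq_zero_of_forall_germ M s fun y hy => @Subsingleton.elim _ (not_not.1 (h y hy)) _ _

/-- Global sections of a module supported on `S` are families of sections around the points of `S`. -/
theorem bijective_split (M : X.Modules) {S : Set X} (hS : IsClosed S) (hM : CohB1.support M ⊆ S)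
    (U : S → X.Opens) (hU : ∀ x : S, x.1 ∈ U x) (hone : ∀ (x : S) y, y ∈ U x → y ∈ S → y = x.1) :
    Function.Bijective (fun (m : Γ(M, ⊤)) (x : S) => mres M (le_top : U x ≤ ⊤) m) := by
  classical
  let W : Option S → X.Opens := fun o => o.elim ⟨Sᶜ, hS.isOpen_compl⟩ U
  have hcov : (⊤ : X.Opens) ≤ ⨆ o, W o := fun y _ => by
    by_cases hy : y ∈ S
    · exact Opens.mem_iSup.2 ⟨some ⟨y, hy⟩, hU ⟨y, hy⟩⟩
    · exact Opens.mem_iSup.2 ⟨none, hy⟩
  have hnone : ∀ y ∈ W none, y ∉ CohB1.support M := fun y hy hy' => hy (hM hy')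
  constructor
  · intro a b hab
    refine QCohBase.eq_of_iSup_le M W (fun _ => le_top) hcov a b fun o => ?_
    cases o with
    | none => exact sub_eq_zero.1 (eq_zero_of_disjoint M _ hnone)
    | some x => exact congrFun hab x
  · intro a
    let sf : ∀ o, Γ(M, W o) := fun o => match o with
      | none => 0
      | some x => a x
    have hc : TopCat.Presheaf.IsCompatible M.presheaf W sf := by
      intro o o'
      rcases eq_or_ne o o' with rfl | hne
      · rfl
      refine sub_eq_zero.1 (eq_zero_of_disjoint M _ fun y hy hy' => ?_)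
      have hyS := hM hy'
      match o, o' with
      | none, _ => exact hy.1 hyS
      | _, none => exact hy.2 hyS
      | some x, some x' =>
        exact hne (congrArg some (Subtype.ext ((hone x y hy.1 hyS).symm.trans (hone x' y hy.2 hyS))))
    obtain ⟨t, ht, -⟩ := TopCat.Sheaf.existsUnique_gluing' ⟨M.presheaf, M.isSheaf⟩ W ⊤
      (fun o => homOfLE le_top) hcov sf hc
    exact ⟨t, funext fun x => ht (some x)⟩

/-- Small neighbourhoods separating the points of a finite set of closed points. -/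
theorem exists_separating {S : Set X} (hfin : S.Finite) (hcl : ∀ x ∈ S, IsClosed ({x} : Set X)) :
    ∃ W : S → X.Opens, (∀ x : S, x.1 ∈ W x) ∧ ∀ (x : S) y, y ∈ W x → y ∈ S → y = x.1 := by
  refine ⟨fun x => ⟨(S \ {x.1})ᶜ, ?_⟩, fun x h => h.2 rfl, fun x y hy hyS => ?_⟩
  · rw [isOpen_compl_iff, ← Set.biUnion_of_singleton (S \ {x.1})]
    exact (hfin.subset Set.sdiff_subset).isClosed_biUnion fun y hy => hcl y hy.1
  · by_contra hne
    exact hy ⟨hyS, hne⟩

theorem support_tensorMod_subset (M : X.Modules) {L : X.Modules} (hL : PicF.IsInvertible L) :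
    CohB1.support (CohB1.tensorMod M L) ⊆ CohB1.support M := by
  intro y hy
  by_contra hy'
  refine hy (subsingleton_of_forall_eq 0 fun z => ?_)
  obtain ⟨U, -, hyU, -, e, he⟩ := exists_isFrame hL (W := ⊤) (x := y) trivial
  obtain ⟨V, hyV, t, rfl⟩ := TopCat.Presheaf.exists_germ_eq (F := (CohB1.tensorMod M L).presheaf) z
  obtain ⟨a, ha⟩ := (TwistVanish.bijective_tmul_frame M he (V ⊓ U) inf_le_right).2
    (mres _ inf_le_left t)
  obtain ⟨O, hyO, i₁, i₂, he0⟩ := M.presheaf.germ_eq y (⟨hyV, hyU⟩ : y ∈ V ⊓ U) (⟨hyV, hyU⟩ : y ∈ V ⊓ U) a (0 : Γ(M, V ⊓ U))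
    (@Subsingleton.elim _ (not_not.1 hy') _ _)
  have ha0 : mres M i₁.le a = 0 := he0.trans (map_zero _)
  rw [← AssPts.germ_mres (CohB1.tensorMod M L) y (i₁.le.trans (inf_le_left : V ⊓ U ≤ V)) hyO t,
    ← mres_mres _ inf_le_left i₁.le, ← ha]
  have h1 : mres (CohB1.tensorMod M L) i₁.le
      (SecTwist.tmul M L (V ⊓ U) a (mres L (inf_le_right : V ⊓ U ≤ U) e)) =
      SecTwist.tmul M L O (mres M i₁.le a) (mres L i₁.le (mres L inf_le_right e)) :=
    SecTwist.map_tmul M L (homOfLE i₁.le) a _
  have h2 : SecTwist.tmul M L O (0 : Γ(M, O)) (mres L i₁.le (mres L inf_le_right e)) = 0 := by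
    show ((SecTwist.toTensor M L).app (op O)).hom _ = 0
    rw [TensorProduct.zero_tmul, map_zero]
  rw [h1, ha0, h2, map_zero]

variable {k : Type u} [Field k] [X.Over (Spec (CommRingCat.of k))]

/-- Twisting by an invertible module does not change `h⁰` of modules with finite support. -/
theorem finrank_HH0_tensorMod (M : X.Modules) {L : X.Modules} (hL : PicF.IsInvertible L) {S : Set X}
    (hfin : S.Finite) (hcl : ∀ x ∈ S, IsClosed ({x} : Set X)) (hM : CohB1.support M ⊆ S) :
    Module.finrank k (Coh.HH X (CohB1.tensorMod M L) 0) = Module.finrank k (Coh.HH X M 0) := by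
  have hS : IsClosed S := by
    rw [← Set.biUnion_of_singleton S]; exact hfin.isClosed_biUnion hcl
  obtain ⟨W, hW, hone⟩ := exists_separating hfin hcl
  have hfr : ∀ x : S, ∃ (U : X.Opens) (e : Γ(L, U)), x.1 ∈ U ∧ U ≤ W x ∧ IsFrame L e := fun x => by
    obtain ⟨U, -, hxU, hUW, e, he⟩ := exists_isFrame hL (hW x)
    exact ⟨U, e, hxU, hUW, he⟩
  choose U e hxU hUW he using hfr
  have hone' : ∀ (x : S) y, y ∈ U x → y ∈ S → y = x.1 := fun x y hy => hone x y (hUW x hy)
  let φ := Equiv.ofBijective _ (bijective_split M hS hM U hxU hone')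
  let ψ := Equiv.ofBijective _
    (bijective_split (CohB1.tensorMod M L) hS ((support_tensorMod_subset M hL).trans hM) U hxU hone')
  let τ : ∀ x : S, Γ(M, U x) ≃ₗ[Γ(X, U x)] Γ(CohB1.tensorMod M L, U x) :=
    fun x => TwistVanish.tmulEquiv M (he x)
  let Φ : Γ(M, ⊤) ≃ Γ(CohB1.tensorMod M L, ⊤) :=
    φ.trans ((Equiv.piCongrRight fun x => (τ x).toEquiv).trans ψ.symm)
  have hΦ : ∀ m x, mres (CohB1.tensorMod M L) (le_top : U x ≤ ⊤) (Φ m) =
      τ x (mres M (le_top : U x ≤ ⊤) m) :=
    fun m x => congrFun (ψ.apply_symm_apply _) x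
  symm
  refine finrank_HH0_congr { Φ with map_add' := fun a b => ψ.injective (funext fun x => ?_) }
    fun r m => ψ.injective (funext fun x => ?_)
  · show mres _ _ (Φ (a + b)) = mres _ _ (Φ a + Φ b)
    rw [hΦ, map_add, map_add, map_add, hΦ, hΦ]
  · show mres _ _ (Φ (r • m)) = mres _ _ (r • Φ m)
    rw [hΦ, mres_smul, map_smul, mres_smul, hΦ]

variable [IsProper (X ↘ Spec (CommRingCat.of k))]

include k in
theorem subsingleton_HH_of_finite_support {M : X.Modules} (hM : Coh.IsCoh M) {S : Set X}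
    (hfin : S.Finite) (hcl : ∀ x ∈ S, IsClosed ({x} : Set X)) (hMS : CohB1.support M ⊆ S) {p : ℕ}
    (hp : 0 < p) : Subsingleton (Coh.HH X M p) := by
  have := isNoetherian_of_proper (k := k) (X := X)
  have := isSeparated_of_proper (k := k) (X := X)
  have hS : IsClosed S := by
    rw [← Set.biUnion_of_singleton S]; exact hfin.isClosed_biUnion hcl
  refine CohFinite.subsingleton_HH_of_support ⟨S, hS⟩ M hM.1 hMS p ?_
  have : Finite S := hfin.to_subtype
  have : T1Space S := ⟨fun x => by
    have h := (hcl x.1 x.2).preimage (continuous_subtype_val (p := fun y => y ∈ S))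
    convert h using 1
    ext y
    simp [Subtype.ext_iff]⟩
  rcases isEmpty_or_nonempty S with he | hne
  · have hb : topologicalKrullDim S = ⊥ := by
      have : IsEmpty (IrreducibleCloseds S) := ⟨fun c => isEmptyElim c.isIrreducible.nonempty.some⟩
      exact Order.krullDim_eq_bot
    exact hb.trans_lt (WithBot.bot_lt_coe _)
  · exact (topologicalKrullDim_zero_of_discreteTopology S).trans_lt (by exact_mod_cast hp)

theorem euler_of_finite_support {M : X.Modules} (hM : Coh.IsCoh M) {S : Set X}
    (hfin : S.Finite) (hcl : ∀ x ∈ S, IsClosed ({x} : Set X)) (hMS : CohB1.support M ⊆ S) :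
    Curv2.euler k X M = Module.finrank k (Coh.HH X M 0) := by
  rw [euler_eq_sum (k := k) (N := 1) fun i hi =>
    subsingleton_HH_of_finite_support (k := k) hM hfin hcl hMS hi]
  simp

theorem euler_tensorMod_of_finite_support {M L : X.Modules} (hM : Coh.IsCoh M)
    (hL : PicF.IsInvertible L) {S : Set X} (hfin : S.Finite) (hcl : ∀ x ∈ S, IsClosed ({x} : Set X))
    (hMS : CohB1.support M ⊆ S) :
    Curv2.euler k X (CohB1.tensorMod M L) = Curv2.euler k X M := by
  rw [euler_of_finite_support hM hfin hcl hMS, euler_of_finite_support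
    (TwistVanish.isCoh_tensorMod hM hL) hfin hcl ((support_tensorMod_subset M hL).trans hMS),
    finrank_HH0_tensorMod M hL hfin hcl hMS]

theorem finrank_HH0_pos {M : X.Modules} (hM : Coh.IsCoh M) {S : Set X}
    (hfin : S.Finite) (hcl : ∀ x ∈ S, IsClosed ({x} : Set X)) (hMS : CohB1.support M ⊆ S)
    (hne : (CohB1.support M).Nonempty) : 0 < Module.finrank k (Coh.HH X M 0) := by
  classical
  have := finite_HH (k := k) hM 0
  have hS : IsClosed S := by
    rw [← Set.biUnion_of_singleton S]; exact hfin.isClosed_biUnion hcl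
  obtain ⟨x, hx⟩ := hne
  obtain ⟨z, hz⟩ : ∃ z : M.presheaf.stalk x, z ≠ 0 := by
    by_contra! h
    exact hx (subsingleton_of_forall_eq 0 h)
  obtain ⟨V, hxV, t, rfl⟩ := TopCat.Presheaf.exists_germ_eq (F := M.presheaf) z
  obtain ⟨W, hW, hone⟩ := exists_separating hfin hcl
  let x₀ : S := ⟨x, hMS hx⟩
  let U : S → X.Opens := fun y => if y = x₀ then W y ⊓ V else W y
  have hUW : ∀ y, U y ≤ W y := fun y => by
    dsimp only [U]; split_ifs with h
    · exact inf_le_left
    · exact le_rfl
  have hUV : U x₀ ≤ V := by dsimp only [U]; rw [if_pos rfl]; exact inf_le_right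
  have hmemU : ∀ y : S, y.1 ∈ U y := fun y => by
    dsimp only [U]; split_ifs with h
    · subst h; exact ⟨hW _, hxV⟩
    · exact hW y
  obtain ⟨m, hm⟩ := (bijective_split M hS hMS U hmemU fun y w hw => hone y w (hUW y hw)).2
    (Function.update 0 x₀ (mres M hUV t))
  have hmx : mres M (le_top : U x₀ ≤ ⊤) m = mres M hUV t :=
    (congrFun hm x₀).trans (Function.update_self ..)
  refine Module.finrank_pos_iff_exists_ne_zero.2 ⟨(secEquiv M).symm m, fun h0 => hz ?_⟩
  have hm0 : m = 0 := by
    have := congrArg (secEquiv M) h0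
    rwa [AddEquiv.apply_symm_apply, map_zero] at this
  rw [← AssPts.germ_mres M x hUV (hmemU x₀) t, ← hmx, hm0, map_zero, map_zero]

end Groth.Agent.CurveDeg
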