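import Groth.Agent.CurveDeg.Push
import Groth.Agent.CurveDeg.Euler
import Groth.Agent.CurveDeg.ZeroDim
import Groth.Agent.CurveDeg.Curve
import Groth.Agent.CurveDeg.Devissage
import Groth.Agent.QCohBase.CohProps
import Groth.Agent.VarLib.Noetherian

/-! The genus does not increase under finite morphisms which are birational closed immersions. -/

set_option autoImplicit false
set_option backward.isDefEq.respectTransparency false
set_option backward.isDefEq.respectTransparency.types false
set_option linter.style.haveILetI false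

noncomputable section

universe u

open CategoryTheory Limits AlgebraicGeometry Opposite TopologicalSpace
open Groth.Agent.QCohBase Groth.Agent.GenLocus

namespace Groth.Agent.CurveDeg

variable {X Y : Scheme.{u}}

/-- The pullback map of structure sheaves as a map of modules. -/
def toPush (f : Y ⟶ X) :
    Coh.structureModule X ⟶ (Scheme.Modules.pushforward f).obj (Coh.structureModule Y) :=
  homOfSection _ (1 : Γ(Y, f ⁻¹ᵁ ⊤))

theorem toPush_app (f : Y ⟶ X) (V : X.Opens) (r : Γ(X, V)) :
    (toPush f).app V r = f.app V r := by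
  refine (app_eq_smul (toPush f) V r).trans ?_
  rw [toPush, sect_homOfSection]
  show f.app V r * (Y.presheaf.map (homOfLE (fun y hy => trivial : f ⁻¹ᵁ V ≤ f ⁻¹ᵁ ⊤)).op).hom 1 = _
  rw [map_one, mul_one]

theorem app_surjective_of_le (f : Y ⟶ X) (U : X.Opens) [IsClosedImmersion (f ∣_ U)] {A : X.Opens}
    (hA : IsAffineOpen A) (hAU : A ≤ U) : Function.Surjective (f.app A) := by
  have key : ∀ V : U.toScheme.Opens, IsAffineOpen V → Function.Surjective (f.app (U.ι ''ᵁ V)) := by
    intro V hV z
    have h := Scheme.Hom.app_surjective (f ∣_ U) _ hV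
    rw [morphismRestrict_app] at h
    obtain ⟨r, hr⟩ := h (Y.presheaf.map (eqToHom (image_morphismRestrict_preimage f U V)).op z)
    exact ⟨r, (ConcreteCategory.bijective_of_isIso (Y.presheaf.map
      (eqToHom (image_morphismRestrict_preimage f U V)).op)).1 hr⟩
  have h := key _ (hA.preimage_of_isOpenImmersion U.ι (by rwa [Scheme.Opens.opensRange_ι]))
  rwa [Scheme.Hom.image_preimage_eq_opensRange_inf, Scheme.Opens.opensRange_ι, inf_eq_right.2 hAU] at h

theorem support_cokernel_toPush_subset [IsLocallyNoetherian X] [IsLocallyNoetherian Y] (f : Y ⟶ X)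
    [IsFinite f] (U : X.Opens) [IsClosedImmersion (f ∣_ U)] :
    CohB1.support (cokernel (toPush f)) ⊆ (U : Set X)ᶜ := by
  intro y hy hyU
  have hO := Devissage.isCoh_structureModule X
  have hM := isCoh_pushforward_of_isFinite f (Devissage.isCoh_structureModule Y)
  refine hy (subsingleton_of_forall_eq 0 fun z => ?_)
  obtain ⟨V, hyV, t, rfl⟩ := TopCat.Presheaf.exists_germ_eq (F := (cokernel (toPush f)).presheaf) z
  obtain ⟨_, ⟨A, hA, rfl⟩, hyA, hAW⟩ := X.isBasis_affineOpens.exists_subset_of_mem_open
    (show y ∈ ((U ⊓ V : X.Opens) : Set X) from ⟨hyU, hyV⟩) (U ⊓ V).2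
  obtain ⟨l, hl⟩ := app_surjective_of_epi (cokernel.π (toPush f)) hM.1
    (isCoh_cokernel (toPush f) hO.1 hM).1 hA (mres _ (fun w hw => (hAW hw).2) t)
  obtain ⟨r, hr⟩ := app_surjective_of_le f U hA (fun w hw => (hAW hw).1) l
  have h0 : mres (cokernel (toPush f)) (fun w hw => (hAW hw).2 : A ≤ V) t = 0 := by
    rw [← hl, ← hr, ← toPush_app]
    rw [← ConcreteCategory.comp_apply, ← Scheme.Modules.Hom.comp_app, cokernel.condition]
    rfl
  rw [← AssPts.germ_mres (cokernel (toPush f)) y (fun w hw => (hAW hw).2 : A ≤ V) hyA t, h0, map_zero]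

theorem genericPoint_mem_of_dense [NoetherianSpace X] {U : X.Opens} (hU : Dense (U : Set X))
    {C : Set X} (hC : C ∈ irreducibleComponents (X : Type u)) {η : X} (hη : IsGenericPoint η C) :
    η ∈ U := by
  obtain ⟨o, ho, hone, hoC⟩ : ∃ o : Set X, IsOpen o ∧ o.Nonempty ∧ o ⊆ C := by
    let R := ⋃ C' ∈ irreducibleComponents (X : Type u) \ {C}, C'
    have hR : IsClosed R := ((NoetherianSpace.finite_irreducibleComponents).sdiff).isClosed_biUnion
      fun C' hC' => isClosed_of_mem_irreducibleComponents C' hC'.1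
    refine ⟨Rᶜ, hR.isOpen_compl, ⟨η, fun hmem => ?_⟩, fun w hw => ?_⟩
    · obtain ⟨C', ⟨hC', hne⟩, hmem'⟩ := Set.mem_iUnion₂.1 hmem
      refine hne (Set.Subset.antisymm (fun a ha => ?_) ?_)
      · exact hC.2 hC'.1 ((hη.def ▸ closure_minimal (Set.singleton_subset_iff.2 hmem')
          (isClosed_of_mem_irreducibleComponents C' hC')) : C ⊆ C') ha
      · exact hη.def ▸ closure_minimal (Set.singleton_subset_iff.2 hmem')
          (isClosed_of_mem_irreducibleComponents C' hC')
    · by_contra hwC
      exact hw (Set.mem_biUnion ⟨irreducibleComponent_mem_irreducibleComponents w,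
        fun h => hwC (h ▸ mem_irreducibleComponent)⟩ mem_irreducibleComponent)
  obtain ⟨w, hwo, hwU⟩ := hU.inter_open_nonempty o ho hone
  exact (hη.specializes (hoC hwo)).mem_open U.2 hwU

theorem finite_compl_of_dense [NoetherianSpace X] (hdim : topologicalKrullDim X ≤ 1) {U : X.Opens}
    (hU : Dense (U : Set X)) :
    ((U : Set X)ᶜ).Finite ∧ ∀ x ∈ (U : Set X)ᶜ, IsClosed ({x} : Set X) := by
  have hcl : ∀ x ∈ (U : Set X)ᶜ, IsClosed ({x} : Set X) := by
    intro x hx
    let C := irreducibleComponent x
    have hC : C ∈ irreducibleComponents (X : Type u) := irreducibleComponent_mem_irreducibleComponents x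
    obtain ⟨η, hη⟩ := QuasiSober.sober hC.1 (isClosed_of_mem_irreducibleComponents C hC)
    have hηU : η ∈ U := genericPoint_mem_of_dense hU hC hη
    refine isClosed_singleton_of_specializes hdim (hη.specializes mem_irreducibleComponent) ?_
    rintro rfl; exact hx hηU
  refine ⟨(VarLib.finite_maximal_points U.2.isClosed_compl).subset
    fun x hx => ⟨hx, fun y hy h => ?_⟩, hcl⟩
  exact (h.mem_closed (hcl y hy) rfl).symm

variable {k : Type u} [Field k] [X.Over (Spec (CommRingCat.of k))] [Y.Over (Spec (CommRingCat.of k))]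
  [IsProper (X ↘ Spec (CommRingCat.of k))]

theorem genus_le_of_finite (hdim : topologicalKrullDim X ≤ 1) (f : Y ⟶ X) [IsFinite f]
    (hf : f ≫ (X ↘ (Spec (CommRingCat.of k))) = Y ↘ (Spec (CommRingCat.of k)))
    (U : X.Opens) (hU : Dense (U : Set X)) (hfU : IsClosedImmersion (f ∣_ U)) :
    Curv2.genus k Y ≤ Curv2.genus k X := by
  haveI : IsProper (Y ↘ Spec (CommRingCat.of k)) := hf ▸ inferInstance
  have := isNoetherian_of_proper (k := k) (X := X)
  have := isNoetherian_of_proper (k := k) (X := Y)
  have := hfU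
  obtain ⟨hfin, hcl⟩ := finite_compl_of_dense hdim hU
  let M := (Scheme.Modules.pushforward f).obj (Coh.structureModule Y)
  let φ : Coh.structureModule X ⟶ M := toPush f
  have hO := Devissage.isCoh_structureModule X
  have hM : Coh.IsCoh M := isCoh_pushforward_of_isFinite f (Devissage.isCoh_structureModule Y)
  have hQ := isCoh_cokernel φ hO.1 hM
  let K := kernel (cokernel.π φ)
  have hK : Coh.IsCoh K := isCoh_of_mono (kernel.ι _) hM (isQuasicoherent_kernel _ hM.1 hQ.1)
  let T₂ : ShortComplex X.Modules := ShortComplex.mk (kernel.ι (cokernel.π φ)) (cokernel.π φ) (kernel.condition _)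
  have hT₂ : T₂.ShortExact :=
    { exact := ShortComplex.exact_of_f_is_kernel _ (kernelIsKernel _)
      mono_f := inferInstanceAs (Mono (kernel.ι (cokernel.π φ)))
      epi_g := inferInstanceAs (Epi (cokernel.π φ)) }
  let g : Coh.structureModule X ⟶ K := Abelian.factorThruImage φ
  have hker : Coh.IsCoh (kernel g) := isCoh_of_mono (kernel.ι _) hO (isQuasicoherent_kernel _ hO.1 hK.1)
  let T₁ : ShortComplex X.Modules := ShortComplex.mk (kernel.ι g) g (kernel.condition _)
  have hT₁ : T₁.ShortExact :=
    { exact := ShortComplex.exact_of_f_is_kernel _ (kernelIsKernel _)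
      mono_f := inferInstanceAs (Mono (kernel.ι g))
      epi_g := inferInstanceAs (Epi (Abelian.factorThruImage φ)) }
  have hQ1 : Subsingleton (Coh.HH X T₂.X₃ 1) := subsingleton_HH_of_finite_support (k := k) hQ hfin hcl
    (support_cokernel_toPush_subset f U) one_pos
  have hK2 : Subsingleton (Coh.HH X T₁.X₁ 2) := subsingleton_HH_dim (k := k) hker
    (lt_of_le_of_lt hdim (by exact_mod_cast Nat.one_lt_two))
  have s₁ : Function.Surjective (CohFinite.hhMap k T₁.g 1) := fun y => by
    have hy : y ∈ LinearMap.ker (CohFinite.hhDelta k hT₁ 1) :=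
      LinearMap.mem_ker.2 (@Subsingleton.elim _ hK2 _ _)
    rw [← CohFinite.hhDelta_ker_eq_range (A := k) hT₁ 1] at hy
    exact hy
  have s₂ : Function.Surjective (CohFinite.hhMap k T₂.f 1) := fun y => by
    have hy : y ∈ LinearMap.ker (CohFinite.hhMap k T₂.g 1) :=
      LinearMap.mem_ker.2 (@Subsingleton.elim _ hQ1 _ _)
    exact (CohFinite.hhMap_range_eq_ker (A := k) hT₂ 1).ge hy
  have := finite_HH (k := k) hO 1
  have := finite_HH (k := k) hK 1
  obtain ⟨e⟩ := nonempty_hhPush (A := k) f hf (Coh.structureModule Y)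
    (Devissage.isCoh_structureModule Y).1 1
  show Module.finrank k (Coh.HH Y (Coh.structureModule Y) 1) ≤
    Module.finrank k (Coh.HH X (Coh.structureModule X) 1)
  rw [e.finrank_eq]
  exact le_trans (LinearMap.finrank_le_finrank_of_surjective s₂)
    (LinearMap.finrank_le_finrank_of_surjective s₁)

end Groth.Agent.CurveDeg
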