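import Groth.Agent.CurveDeg.Additive

/-! Morphisms of invertible modules on curves; curves of genus zero. -/

set_option autoImplicit false
set_option backward.isDefEq.respectTransparency false

noncomputable section

universe u

open CategoryTheory Limits AlgebraicGeometry Opposite TopologicalSpace Groth.Agent.QCohBase
open Groth.Agent.GenLocus

namespace Groth.Agent.CurveDeg

variable {X : Scheme.{u}}

theorem tmul_zero_left (M N : X.Modules) (V : X.Opens) (b : Γ(N, V)) :
    SecTwist.tmul M N V (0 : Γ(M, V)) b = 0 := by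
  show ((SecTwist.toTensor M N).app (op V)).hom _ = 0
  rw [TensorProduct.zero_tmul, map_zero]

/-- A morphism is bijective on sections over all opens if it is so on a basis. -/
theorem isIso_of_bijective_basis {M N : X.Modules} (φ : M ⟶ N) {B : Set X.Opens}
    (hB : Opens.IsBasis B) (h : ∀ U ∈ B, ∀ V ≤ U, Function.Bijective (φ.app V)) : IsIso φ := by
  rw [Scheme.Modules.Hom.isIso_iff_isIso_app]
  intro V
  rw [ConcreteCategory.isIso_iff_bijective]
  choose U hU hyU hUV using fun y : V => Opens.isBasis_iff_nbhd.1 hB y.2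
  have hcov : V ≤ ⨆ y, U y := fun y hy => Opens.mem_iSup.2 ⟨⟨y, hy⟩, hyU ⟨y, hy⟩⟩
  refine ⟨fun a b hab => eq_of_iSup_le M U hUV hcov a b fun y => ?_, fun c => ?_⟩
  · refine (h _ (hU y) _ le_rfl).1 ?_
    rw [← app_nat, ← app_nat]
    exact congrArg _ hab
  · choose a ha using fun y => (h _ (hU y) _ le_rfl).2 (mres N (hUV y) c)
    obtain ⟨t, ht, -⟩ := TopCat.Sheaf.existsUnique_gluing' ⟨M.presheaf, M.isSheaf⟩ U V
      (fun y => homOfLE (hUV y)) hcov a (fun y y' => by
        refine (h _ (hU y) _ inf_le_left).1 ?_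
        show φ.app (U y ⊓ U y') (mres M inf_le_left (a y)) = φ.app (U y ⊓ U y') (mres M inf_le_right (a y'))
        rw [← app_nat, ← app_nat, ha, ha, mres_mres, mres_mres])
    refine ⟨t, eq_of_iSup_le N U hUV hcov _ _ fun y => ?_⟩
    rw [app_nat, show mres M (hUV y) t = a y from ht y, ha]

theorem eq_zero_of_twist_eq_zero {M N L : X.Modules} (hL : PicF.IsInvertible L) {φ : M ⟶ N}
    (h : twist φ L = 0) : φ = 0 := by
  refine Scheme.Modules.hom_ext _ _ fun V => ?_
  ext a
  choose U hU hyU hUV using fun y : V => Opens.isBasis_iff_nbhd.1 (exists_frame_basis hL) y.2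
  refine eq_of_iSup_le N U hUV (fun y hy => Opens.mem_iSup.2 ⟨⟨y, hy⟩, hyU ⟨y, hy⟩⟩) _ _ fun y => ?_
  obtain ⟨e, he⟩ := hU y
  rw [app_nat, app_nat]
  refine (TwistVanish.bijective_tmul_frame N he (U y) le_rfl).1 ?_
  show SecTwist.tmul N L (U y) (φ.app (U y) _) _ = SecTwist.tmul N L (U y) (0 : Γ(N, U y)) _
  rw [← twist_app_tmul, h, tmul_zero_left]
  rfl

theorem isIso_of_isIso_twist {M N L : X.Modules} (hL : PicF.IsInvertible L) (φ : M ⟶ N)
    [IsIso (twist φ L)] : IsIso φ := by
  refine isIso_of_bijective_basis φ (exists_frame_basis hL) fun U hU V hVU => ?_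
  obtain ⟨e, he⟩ := hU
  have hb : Function.Bijective ((twist φ L).app V) :=
    ConcreteCategory.bijective_of_isIso ((twist φ L).app V)
  have h1 := hb.comp (TwistVanish.bijective_tmul_frame M he V hVU)
  have h2 : (fun a => (twist φ L).app V (SecTwist.tmul M L V a (mres L hVU e))) =
      (fun b => SecTwist.tmul N L V b (mres L hVU e)) ∘ φ.app V :=
    funext fun a => twist_app_tmul φ L V a _
  have h3 : Function.Bijective ((fun b => SecTwist.tmul N L V b (mres L hVU e)) ∘ φ.app V) := by
    rw [← h2]; exact h1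
  exact ⟨h3.1.of_comp, fun c => by
    obtain ⟨a, ha⟩ := h3.2 (SecTwist.tmul N L V c (mres L hVU e))
    exact ⟨a, (TwistVanish.bijective_tmul_frame N he V hVU).1 ha⟩⟩

variable {k : Type u} [Field k] [X.Over (Spec (CommRingCat.of k))]
  [IsProper (X ↘ Spec (CommRingCat.of k))]

/-- Degrees increase along nonzero maps of invertible modules. -/
theorem deg_le_of_hom [IsIntegral X] (hdim : topologicalKrullDim X = 1) {N L : X.Modules}
    (hN : PicF.IsInvertible N) (hL : PicF.IsInvertible L) {φ : N ⟶ L} (hφ : φ ≠ 0) :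
    Curv2.deg k X N 1 ≤ Curv2.deg k X L 1 ∧
      (Curv2.deg k X N 1 = Curv2.deg k X L 1 → IsIso φ) := by
  obtain ⟨N', hN', ⟨e⟩, -⟩ := TensorMod.exists_inverse hN
  have hLN' := TensorMod.isInvertible_tensorMod hL hN'
  let s : Coh.structureModule X ⟶ CohB1.tensorMod L N' := e.inv ≫ twist φ N'
  have hs : s ≠ 0 := fun h => hφ (eq_zero_of_twist_eq_zero hN' ((cancel_epi e.inv).1
    (h.trans comp_zero.symm)))
  have h1 := deg_tensorMod (k := k) hdim hL hN'
  have h2 := deg_tensorMod (k := k) hdim hN hN'
  rw [deg_congr e, deg_structureModule] at h2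
  have h3 := deg_nonneg (k := k) hdim.le hLN' hs
  refine ⟨by omega, fun heq => ?_⟩
  have htop : CohB1.genLocus _ s = ⊤ := by
    by_contra h
    have := deg_pos (k := k) hdim.le hLN' hs h
    omega
  have : IsIso s := isIso_of_support_cokernel_empty hLN' s (Set.eq_empty_of_forall_notMem fun y hy =>
    support_cokernel_subset (TensorMod.isCoh_of_isInvertible hLN')
      (isCoh_structureModule (k := k)) s hy (by rw [htop]; trivial))
  have : IsIso (twist φ N') := IsIso.of_isIso_comp_left e.inv (twist φ N')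
  exact isIso_of_isIso_twist hN' φ

theorem euler_structureModule (hdim : topologicalKrullDim X ≤ 1)
    (h0 : Module.finrank k (Coh.HH X (Coh.structureModule X) 0) = 1) :
    Curv2.euler k X (Coh.structureModule X) = 1 - (Curv2.genus k X : ℤ) := by
  rw [euler_eq_sub (k := k) hdim (isCoh_structureModule (k := k)), h0]
  rfl

omit [IsProper (X ↘ Spec (CommRingCat.of k))] in
theorem euler_eq_deg_add {L : X.Modules} :
    Curv2.euler k X L = Curv2.deg k X L 1 + Curv2.euler k X (Coh.structureModule X) := by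
  simp [Curv2.deg]

theorem trivial_of_genus_zero [IsIntegral X] (hdim : topologicalKrullDim X = 1)
    (h0 : Module.finrank k (Coh.HH X (Coh.structureModule X) 0) = 1) (hg : Curv2.genus k X = 0)
    {L : X.Modules} (hL : PicF.IsInvertible L) (hdeg : Curv2.deg k X L 1 = 0) :
    Nonempty (L ≅ Coh.structureModule X) := by
  have hL' := TensorMod.isCoh_of_isInvertible hL
  obtain ⟨s, hs⟩ := exists_ne_zero_of_finrank_pos (k := k) (finrank_pos_of_euler_pos (k := k) hdim.le hL'
    (by rw [euler_eq_deg_add, euler_structureModule hdim.le h0, hdeg, hg]; norm_num))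
  exact nonempty_iso_of_deg_nonpos (k := k) hdim.le hL hs hdeg.le

theorem h0_h1_of_genus_zero [IsIntegral X] (hdim : topologicalKrullDim X = 1)
    (h0 : Module.finrank k (Coh.HH X (Coh.structureModule X) 0) = 1) (hg : Curv2.genus k X = 0)
    {L : X.Modules} (hL : PicF.IsInvertible L) (d : ℕ) (hdeg : Curv2.deg k X L 1 = d) :
    Module.finrank k (Coh.HH X L 0) = d + 1 ∧ Subsingleton (Coh.HH X L 1) := by
  have hL' := TensorMod.isCoh_of_isInvertible hL
  have hO := isCoh_structureModule (k := k) (X := X)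
  obtain ⟨s, hs⟩ := exists_ne_zero_of_finrank_pos (k := k) (finrank_pos_of_euler_pos (k := k) hdim.le hL'
    (by rw [euler_eq_deg_add, euler_structureModule hdim.le h0, hdeg, hg]; omega))
  have := mono_of_ne_zero hL hs
  have hT : (ShortComplex.mk s (cokernel.π s) (cokernel.condition s)).ShortExact :=
    { exact := ShortComplex.exact_of_g_is_cokernel _ (cokernelIsCokernel s)
      mono_f := inferInstanceAs (Mono s)
      epi_g := inferInstanceAs (Epi (cokernel.π s)) }
  obtain ⟨hfin, hcl⟩ := finite_closed (k := k) hdim.le (CohB1.genLocus L s).2.isClosed_compl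
    (fun h => h (genLocus_nonempty_of_ne_zero hL hs))
  have h3 := subsingleton_HH_of_finite_support (k := k) (isCoh_cokernel s hO.1 hL') hfin hcl
    (support_cokernel_subset hL' hO s) one_pos
  have := finite_HH (k := k) hO 1
  have hO1 : Subsingleton (Coh.HH X (Coh.structureModule X) 1) :=
    Module.finrank_zero_iff.1 hg
  have h1 : Subsingleton (Coh.HH X L 1) := by
    refine subsingleton_of_forall_eq 0 fun y => ?_
    have hy : y ∈ LinearMap.ker (CohFinite.hhMap k (cokernel.π s) 1) :=
      LinearMap.mem_ker.2 (Subsingleton.elim _ _)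
    rw [← CohFinite.hhMap_range_eq_ker (A := k) hT 1] at hy
    obtain ⟨z, rfl⟩ := hy
    rw [Subsingleton.elim z 0, map_zero]
  refine ⟨?_, h1⟩
  have h := euler_eq_sub (k := k) hdim.le hL'
  rw [euler_eq_deg_add, euler_structureModule hdim.le h0, hdeg, hg,
    Module.finrank_zero_of_subsingleton (M := Coh.HH X L 1)] at h
  omega

end Groth.Agent.CurveDeg
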