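import Groth.Agent.CurveDeg.Ample
import Groth.Agent.CurveDeg.Hom
import Groth.Agent.FrameHom.Basic
import Groth.Agent.ProjUPLib.FiniteGen
import Groth.Agent.Devissage.Summand

/-! Vanishing of `H¹` of high twists on integral curves. -/

set_option autoImplicit false
set_option backward.isDefEq.respectTransparency false
set_option backward.isDefEq.respectTransparency.types false

noncomputable section

universe u

open CategoryTheory Limits AlgebraicGeometry Opposite TopologicalSpace
open Groth.Agent.QCohBase Groth.Agent.GenLocus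

namespace Groth.Agent.CurveDeg

variable {X : Scheme.{u}}

theorem twist_hom_ext {M L Q : X.Modules} (hL : PicF.IsInvertible L)
    {a b : CohB1.tensorMod M L ⟶ Q}
    (h : ∀ (V : X.Opens) (m : Γ(M, V)) (e : Γ(L, V)),
      a.app V (SecTwist.tmul M L V m e) = b.app V (SecTwist.tmul M L V m e)) : a = b := by
  refine Scheme.Modules.hom_ext _ _ fun U => ?_
  ext s
  choose V hV hxV hVU using fun y : U => Opens.isBasis_iff_nbhd.1 (exists_frame_basis hL) y.2
  refine eq_of_iSup_le _ V hVU (fun y hy => Opens.mem_iSup.2 ⟨⟨y, hy⟩, hxV ⟨y, hy⟩⟩) _ _ fun y => ?_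
  obtain ⟨e, he⟩ := hV y
  obtain ⟨m, hm⟩ := (TwistVanish.bijective_tmul_frame M he (V y) le_rfl).2 (mres _ (hVU y) s)
  rw [app_nat, app_nat, ← hm]
  exact h _ _ _

theorem homOfSection_app (N : X.Modules) (τ : Γ(N, ⊤)) (V : X.Opens) (a : Γ(Coh.structureModule X, V)) :
    (homOfSection N τ).app V a = (show Γ(X, V) from a) • mres N (le_top : V ≤ ⊤) τ :=
  (app_eq_smul (homOfSection N τ) V a).trans
    (congrArg ((show Γ(X, V) from a) • ·) (sect_homOfSection N τ V))

theorem twist_homOfSection_add {N L : X.Modules} (hL : PicF.IsInvertible L) (σ τ : Γ(N, ⊤)) :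
    twist (homOfSection N (σ + τ)) L = twist (homOfSection N σ) L + twist (homOfSection N τ) L := by
  refine twist_hom_ext hL fun V m e => ?_
  show (twist _ L).app V _ = (twist _ L).app V _ + (twist _ L).app V _
  rw [twist_app_tmul, twist_app_tmul, twist_app_tmul, homOfSection_app, homOfSection_app,
    homOfSection_app, map_add, smul_add]
  exact DFunLike.congr_fun (map_add (tmulBi N L V) _ _) e

theorem twist_homOfSection_smul {N L : X.Modules} (hL : PicF.IsInvertible L) (r : Γ(X, ⊤))
    (σ : Γ(N, ⊤)) :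
    twist (homOfSection N (r • σ)) L =
      twist (homOfSection N σ) L ≫ FrameHom.scal (CohB1.tensorMod N L) r := by
  refine twist_hom_ext hL fun V m e => ?_
  show (twist _ L).app V _ = (FrameHom.scal _ r).app V ((twist _ L).app V _)
  rw [twist_app_tmul, twist_app_tmul, FrameHom.scal_app, homOfSection_app, homOfSection_app,
    mres_smul, smul_comm, GenLocus.tmul_smul_left]

variable {k : Type u} [Field k] [X.Over (Spec (CommRingCat.of k))]

theorem hhMap_add' {M N : X.Modules} (f g : M ⟶ N) (n : ℕ) (x : Coh.HH X M n) :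
    CohFinite.hhMap k (f + g) n x = CohFinite.hhMap k f n x + CohFinite.hhMap k g n x := by
  show CategoryTheory.Sheaf.H.map ((modAb X).map (f + g)) n x = _
  rw [Functor.map_add]
  change ((CategoryTheory.Sheaf.functorH _ n).map _).hom x = _
  rw [Functor.map_add]
  rfl

theorem hhMap_scal (M : X.Modules) (c : k) (n : ℕ) (x : Coh.HH X M n) :
    CohFinite.hhMap k (FrameHom.scal M (cst X c)) n x = c • x := by
  have h : (modAb X).map (FrameHom.scal M (cst X c)) = Coh.smulAb M (cst X c) := by
    refine CategoryTheory.Sheaf.hom_ext (NatTrans.ext (funext fun U => ?_))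
    ext a
    exact (Coh.smulAb_app M (cst X c) U a).symm
  show CategoryTheory.Sheaf.H.map ((modAb X).map (FrameHom.scal M (cst X c))) n x = _
  rw [h]
  rfl

variable [IsProper (X ↘ Spec (CommRingCat.of k))]

theorem surjective_hhMap_twist [IsIntegral X] (hdim : topologicalKrullDim X ≤ 1) {N M : X.Modules}
    (hN : PicF.IsInvertible N) (hM : PicF.IsInvertible M) {s : Coh.structureModule X ⟶ N} (hs : s ≠ 0) :
    Function.Surjective (CohFinite.hhMap k (twist s M) 1) := by
  have := isNoetherian_of_proper (k := k) (X := X)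
  have hO := isCoh_structureModule (k := k) (X := X)
  have hN' := TensorMod.isCoh_of_isInvertible hN
  have := mono_of_ne_zero hN hs
  obtain ⟨w, hw⟩ := shortExact_twist (Devissage.ses s) hM
  obtain ⟨hfin, hcl⟩ := finite_closed (k := k) hdim (CohB1.genLocus N s).2.isClosed_compl
    (fun h => h (genLocus_nonempty_of_ne_zero hN hs))
  have hsub := subsingleton_HH_of_finite_support (k := k)
    (TwistVanish.isCoh_tensorMod (isCoh_cokernel s hO.1 hN') hM) hfin hcl
    ((support_tensorMod_subset _ hM).trans (support_cokernel_subset hN' hO s)) one_pos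
  intro y
  have hy : y ∈ LinearMap.ker (CohFinite.hhMap k (twist (cokernel.π s) M) 1) :=
    LinearMap.mem_ker.2 (@Subsingleton.elim _ hsub _ _)
  exact (CohFinite.hhMap_range_eq_ker (A := k) hw 1).ge hy

theorem eventually_subsingleton_H1_pow [IsIntegral X] (hdim : topologicalKrullDim X = 1)
    {L : X.Modules} (hL : PicF.IsInvertible L) (hdeg : 0 < Curv2.deg k X L 1) :
    ∃ n₀ : ℕ, ∀ n, n₀ ≤ n → Subsingleton (Coh.HH X (CohB1.tensorPow L n) 1) := by
  classical
  have := isNoetherian_of_proper (k := k) (X := X)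
  let P := CohB1.tensorPow L
  have hP : ∀ n, PicF.IsInvertible (P n) := TensorMod.isInvertible_tensorPow hL
  have hC : ∀ n, Coh.IsCoh (P n) := fun n => TensorMod.isCoh_of_isInvertible (hP n)
  have := fun n => finite_HH (k := k) (hC n) 1
  have := fun n => finite_HH (k := k) (hC n) 0
  let h : ℕ → ℕ := fun n => Module.finrank k (Coh.HH X (P n) 1)
  let χ₀ := Curv2.euler k X (Coh.structureModule X)
  have hbig : ∀ C : ℕ, ∃ i₀ : ℕ, ∀ i, i₀ ≤ i → C < Module.finrank k (Coh.HH X (P i) 0) := by
    intro C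
    refine ⟨C + χ₀.natAbs + 1, fun i hi => ?_⟩
    have he := euler_eq_sub (k := k) hdim.le (hC i)
    have hd : Curv2.deg k X (P i) 1 = (i : ℤ) * Curv2.deg k X L 1 := deg_tensorPow (k := k) hdim hL i
    have hd' : Curv2.deg k X (P i) 1 = Curv2.euler k X (P i) - χ₀ := by simp [Curv2.deg, χ₀]
    have hab : -(χ₀.natAbs : ℤ) ≤ χ₀ := by omega
    have hnn : (i : ℤ) ≤ (i : ℤ) * Curv2.deg k X L 1 := le_mul_of_one_le_right (by positivity) hdeg
    have : (C : ℤ) < Module.finrank k (Coh.HH X (P i) 0) := by omega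
    exact_mod_cast this
  obtain ⟨i₁, hi₁⟩ := hbig 0
  let j := Function.argmin h
  have hc : ∀ i, i₁ ≤ i → ∀ t : Coh.structureModule X ⟶ P i, t ≠ 0 →
      Function.Surjective (CohFinite.hhMap k (twist t (P j)) 1) := fun i _ t ht =>
    surjective_hhMap_twist hdim.le (hP i) (hP j) ht
  let V := Coh.HH X (CohB1.tensorMod (Coh.structureModule X) (P j)) 1
  have hVj : Module.finrank k V = h j := finrank_HH_congr (TensorMod.unitLeftIso (P j)) 1
  have hV'j : ∀ i, Module.finrank k (Coh.HH X (CohB1.tensorMod (P i) (P j)) 1) = h (i + j) := fun i =>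
    (finrank_HH_congr (TensorMod.tensorPowAddIso L i j) 1).symm
  have : Module.Finite k V := finite_HH (k := k)
    (TwistVanish.isCoh_tensorMod (isCoh_structureModule (k := k)) (hP j)) 1
  have hmono : ∀ i, i₁ ≤ i → h (i + j) ≤ h j := by
    intro i hi
    obtain ⟨t, ht⟩ := exists_ne_zero_of_finrank_pos (k := k) (L := P i) (hi₁ i hi)
    rw [← hVj, ← hV'j i]
    exact LinearMap.finrank_le_finrank_of_surjective (f := CohFinite.hhMap k (twist t (P j)) 1)
      (hc i hi t ht)
  obtain ⟨i₂, hi₂⟩ := hbig (h j * h j)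
  let i := max i₁ i₂
  let V' := Coh.HH X (CohB1.tensorMod (P i) (P j)) 1
  have : Module.Finite k V' := finite_HH (k := k) (TwistVanish.isCoh_tensorMod (hC i) (hP j)) 1
  let T : Coh.HH X (P i) 0 →ₗ[k] (V →ₗ[k] V') :=
    { toFun := fun x => CohFinite.hhMap k (twist (homOfSection (P i) (secEquiv (P i) x)) (P j)) 1
      map_add' := fun x y => LinearMap.ext fun v => by
        rw [map_add, twist_homOfSection_add (hP j)]
        exact hhMap_add' _ _ 1 v
      map_smul' := fun c x => LinearMap.ext fun v => by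
        rw [secEquiv_smul, twist_homOfSection_smul (hP j), CohFinite.hhMap_comp, hhMap_scal]
        rfl }
  have hlt : Module.finrank k (V →ₗ[k] V') < Module.finrank k (Coh.HH X (P i) 0) := by
    rw [Module.finrank_linearMap, hVj, hV'j]
    exact lt_of_le_of_lt (Nat.mul_le_mul_left _ (hmono i (le_max_left _ _)))
      (hi₂ i (le_max_right _ _))
  have hni : ¬ Function.Injective T := fun hinj =>
    absurd (LinearMap.finrank_le_finrank_of_injective hinj) (not_le.2 hlt)
  rw [injective_iff_map_eq_zero] at hni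
  push Not at hni
  obtain ⟨x, hTx, hx⟩ := hni
  have hs : homOfSection (P i) (secEquiv (P i) x) ≠ 0 := fun h0 => hx ((secEquiv (P i)).injective (by
    have h1 := congrArg (fun φ => sect φ (⊤ : X.Opens)) h0
    simp only [sect_homOfSection, mres_refl] at h1
    exact h1.trans (map_zero (secEquiv (P i))).symm))
  have hzero : h (i + j) = 0 := by
    rw [← hV'j i]
    have hsub : Subsingleton V' := subsingleton_of_forall_eq 0 fun y => by
      obtain ⟨v, rfl⟩ := hc i (le_max_left _ _) _ hs y
      exact DFunLike.congr_fun hTx v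
    exact Module.finrank_zero_of_subsingleton
  refine ⟨i₁ + j, fun n hn => ?_⟩
  have hn0 : h n = 0 := by
    obtain ⟨d, rfl⟩ : ∃ d, n = d + j := ⟨n - j, by omega⟩
    exact Nat.le_zero.1 ((hmono d (by omega)).trans ((Function.argmin_le h (i + j)).trans hzero.le))
  exact Module.finrank_zero_iff.1 hn0

/-- Vanishing of `H¹` of high twists of coherent modules on an integral curve. -/
theorem eventually_subsingleton_H1 [IsIntegral X] (hdim : topologicalKrullDim X = 1)
    {L : X.Modules} (hL : PicF.IsInvertible L) (hdeg : 0 < Curv2.deg k X L 1)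
    {F : X.Modules} (hF : Coh.IsCoh F) :
    ∃ n₀ : ℕ, ∀ n, n₀ ≤ n → Subsingleton (Coh.HH X (CohB1.tensorMod F (CohB1.tensorPow L n)) 1) := by
  have := isNoetherian_of_proper (k := k) (X := X)
  have hamp : CohB1.IsAmple L := (isAmple_iff_deg_pos (k := k) hdim hL).2 hdeg
  obtain ⟨N, hN⟩ := Filter.eventually_atTop.1 (ProjUPLib.eventually_exists_epi_free hamp hF)
  obtain ⟨m₀, hm₀⟩ := eventually_subsingleton_H1_pow hdim hL hdeg
  refine ⟨N + m₀, fun n hn => ?_⟩
  obtain ⟨m, rfl⟩ : ∃ m, n = N + m := ⟨n - N, by omega⟩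
  let P := CohB1.tensorPow L
  have hP : ∀ n, PicF.IsInvertible (P n) := TensorMod.isInvertible_tensorPow hL
  let G := CohB1.tensorMod F (P N)
  have hG : Coh.IsCoh G := TwistVanish.isCoh_tensorMod hF (hP N)
  have hGm : Coh.IsCoh (CohB1.tensorMod G (P m)) := TwistVanish.isCoh_tensorMod hG (hP m)
  obtain ⟨r, p, hp⟩ := ProjUPLib.exists_epi_coproduct_tensor (P m) (hN N le_rfl)
  let q : (⨁ fun _ : Fin r => P m) ⟶ CohB1.tensorMod G (P m) :=
    (biproduct.isoCoproduct fun _ : Fin r => P m).hom ≫ p
  have : Epi q := epi_comp _ _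
  have hB : Coh.IsCoh (⨁ fun _ : Fin r => P m) :=
    Devissage.isCoh_biproduct (TensorMod.isCoh_of_isInvertible (hP m)) r
  let Q : X.Modules → Prop := fun M => Subsingleton (Coh.HH X M 1)
  have hQB : Q (⨁ fun _ : Fin r => P m) :=
    Devissage.biproduct_mem (Q := Q) (fun M hM => Devissage.subsingleton_HH_of_isZero hM 1)
      (fun S hS h₁ h₃ => Devissage.subsingleton_HH_middle hS 1 h₁ h₃) (hm₀ m (by omega)) r
  have hS : (ShortComplex.mk (kernel.ι q) q (kernel.condition q)).ShortExact :=
    { exact := ShortComplex.exact_of_f_is_kernel _ (kernelIsKernel q)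
      mono_f := inferInstanceAs (Mono (kernel.ι q))
      epi_g := inferInstanceAs (Epi q) }
  have hker : Coh.IsCoh (kernel q) :=
    isCoh_of_mono (kernel.ι q) hB (isQuasicoherent_kernel q hB.1 hGm.1)
  have h2 : Subsingleton (Coh.HH X (CohB1.tensorMod G (P m)) 1) :=
    Devissage.subsingleton_HH_right hS 1 hQB
      (subsingleton_HH_dim (k := k) hker (lt_of_le_of_lt hdim.le (by exact_mod_cast Nat.one_lt_two)))
  exact Devissage.subsingleton_HH_of_iso (TensorMod.assocIso F (P N) (P m) ≪≫
    TensorMod.tensorIso (Iso.refl F) (TensorMod.tensorPowAddIso L N m).symm) 1 h2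

end Groth.Agent.CurveDeg
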