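import Groth.Agent.CurveDeg.Ample
import Groth.Agent.CurveDeg.Vanish

/-! `h⁰ ≤ deg + 1` on integral curves, with equality only in genus zero. -/

set_option autoImplicit false
set_option backward.isDefEq.respectTransparency false
set_option backward.isDefEq.respectTransparency.types false
set_option linter.style.haveILetI false

noncomputable section

universe u

open CategoryTheory Limits AlgebraicGeometry Opposite TopologicalSpace
open Groth.Agent.QCohBase Groth.Agent.GenLocus

namespace Groth.Agent.CurveDeg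

variable {X : Scheme.{u}}

theorem mres_tmul (M N : X.Modules) {U V : X.Opens} (h : V ≤ U) (a : Γ(M, U)) (b : Γ(N, U)) :
    mres (CohB1.tensorMod M N) h (SecTwist.tmul M N U a b) =
      SecTwist.tmul M N V (mres M h a) (mres N h b) :=
  SecTwist.map_tmul M N (homOfLE h) a b

/-- If sections surject onto those of a quotient with finite support, they still do after twisting
by a module with a section generating along the support. -/
theorem surjective_twist_of_surjective {B Q P : X.Modules} (π : B ⟶ Q) {S : Set X}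
    (hfin : S.Finite) (hcl : ∀ x ∈ S, IsClosed ({x} : Set X)) (hQ : CohB1.support Q ⊆ S)
    (hP : PicF.IsInvertible P) (v : Coh.structureModule X ⟶ P)
    (hv : ∀ x ∈ S, x ∈ CohB1.genLocus P v) (hsurj : Function.Surjective (π.app ⊤)) :
    Function.Surjective ((twist π P).app ⊤) := by
  intro σ
  have hS : IsClosed S := by
    rw [← Set.biUnion_of_singleton S]; exact hfin.isClosed_biUnion hcl
  obtain ⟨W, hW, hone⟩ := exists_separating hfin hcl
  choose O hxO hO using fun x : S => (mem_genLocus_iff v).1 (hv x.1 x.2)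
  let U : S → X.Opens := fun x => W x ⊓ O x
  have hU : ∀ x : S, x.1 ∈ U x := fun x => ⟨hW x, hxO x⟩
  have hone' : ∀ (x : S) (y : X), y ∈ U x → y ∈ S → y = x.1 := fun x y hy => hone x y hy.1
  have hfr : ∀ x : S, IsFrame P (sect v (U x)) := fun x => by
    have h := (hO x).res (inf_le_right : U x ≤ O x)
    rwa [mres_sect] at h
  choose q hq using fun x : S =>
    (TwistVanish.bijective_tmul_frame Q (hfr x) (U x) le_rfl).2
      (mres (CohB1.tensorMod Q P) (le_top : U x ≤ ⊤) σ)
  obtain ⟨q₀, hq₀⟩ := (bijective_split Q hS hQ U hU hone').2 q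
  obtain ⟨l, hl⟩ := hsurj q₀
  refine ⟨SecTwist.tmul B P ⊤ l (sect v ⊤), ?_⟩
  refine (bijective_split (CohB1.tensorMod Q P) hS ((support_tensorMod_subset _ hP).trans hQ)
    U hU hone').1 (funext fun x => ?_)
  show mres (CohB1.tensorMod Q P) (le_top : U x ≤ ⊤)
      ((twist π P).app ⊤ (SecTwist.tmul B P ⊤ l (sect v ⊤))) =
    mres (CohB1.tensorMod Q P) (le_top : U x ≤ ⊤) σ
  have e1 : mres Q (le_top : U x ≤ ⊤) (π.app ⊤ l) = q x := by
    rw [hl]; exact congrFun hq₀ x
  have e2 : SecTwist.tmul Q P (U x) (q x) (mres P le_rfl (sect v (U x))) =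
      mres (CohB1.tensorMod Q P) (le_top : U x ≤ ⊤) σ := hq x
  rw [twist_app_tmul, mres_tmul, e1, mres_sect, ← e2, QCohBase.mres_refl]

variable {k : Type u} [Field k] [X.Over (Spec (CommRingCat.of k))]
  [IsProper (X ↘ Spec (CommRingCat.of k))]

theorem finrank_H0_le_deg_add_one [IsIntegral X] (hdim : topologicalKrullDim X = 1)
    (h0 : Module.finrank k (Coh.HH X (Coh.structureModule X) 0) = 1)
    (L : X.Modules) (hL : PicF.IsInvertible L) (hs : Nontrivial (Coh.HH X L 0)) :
    (Module.finrank k (Coh.HH X L 0) : ℤ) ≤ Curv2.deg k X L 1 + 1 ∧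
      ((Module.finrank k (Coh.HH X L 0) : ℤ) = Curv2.deg k X L 1 + 1 → 0 < Curv2.deg k X L 1 →
        Curv2.genus k X = 0) := by
  have := isNoetherian_of_proper (k := k) (X := X)
  have hL' := TensorMod.isCoh_of_isInvertible hL
  have hO := isCoh_structureModule (k := k) (X := X)
  have := finite_HH (k := k) hL' 0
  have := finite_HH (k := k) hO 0
  obtain ⟨s, hs0⟩ := exists_ne_zero_of_finrank_pos (k := k) (L := L) Module.finrank_pos
  have := mono_of_ne_zero hL hs0
  let T : ShortComplex X.Modules := ShortComplex.mk s (cokernel.π s) (cokernel.condition s)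
  have hT : T.ShortExact :=
    { exact := ShortComplex.exact_of_g_is_cokernel _ (cokernelIsCokernel s)
      mono_f := inferInstanceAs (Mono s)
      epi_g := inferInstanceAs (Epi (cokernel.π s)) }
  have hQ : Coh.IsCoh (cokernel s) := isCoh_cokernel s hO.1 hL'
  have := finite_HH (k := k) hQ 0
  obtain ⟨hfin, hcl⟩ := finite_closed (k := k) hdim.le (CohB1.genLocus L s).2.isClosed_compl
    (fun h => h (genLocus_nonempty_of_ne_zero hL hs0))
  have hQs := support_cokernel_subset hL' hO s
  have hd := deg_eq_finrank (k := k) hdim.le hL hs0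
  let p := CohFinite.hhMap k T.g 0
  have hrk := LinearMap.finrank_range_add_finrank_ker p
  have hker : Module.finrank k (LinearMap.ker p) ≤ 1 := by
    rw [← CohFinite.hhMap_range_eq_ker (A := k) hT 0, ← h0]
    exact LinearMap.finrank_range_le _
  have hran : Module.finrank k (LinearMap.range p) ≤ Module.finrank k (Coh.HH X (cokernel s) 0) :=
    Submodule.finrank_le _
  refine ⟨by rw [hd]; dsimp only [T] at hrk hran hker ⊢; omega, fun heq hpos => ?_⟩
  have hfull : LinearMap.range p = ⊤ := by
    refine Submodule.eq_top_of_finrank_eq ?_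
    rw [hd] at heq
    dsimp only [T] at hrk hran hker ⊢
    omega
  have hsurj : Function.Surjective ((cokernel.π s).app ⊤) := by
    intro m
    obtain ⟨z, hz⟩ := LinearMap.range_eq_top.1 hfull ((secEquiv T.X₃).symm m)
    refine ⟨secEquiv T.X₂ z, ?_⟩
    show T.g.app ⊤ (secEquiv T.X₂ z) = m
    rw [← secEquiv_map T.g z]
    exact (congrArg (secEquiv T.X₃) hz).trans ((secEquiv T.X₃).apply_symm_apply m)
  -- a section generating along the zeros of `s`
  let S : Set X := (CohB1.genLocus L s : Set X)ᶜ
  have hS : IsClosed S := (CohB1.genLocus L s).2.isClosed_compl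
  obtain ⟨W, hW, hone⟩ := exists_separating hfin hcl
  choose V _ hxV hVW e he using fun x : S => exists_isFrame hL (hW x)
  obtain ⟨q₀, hq₀⟩ := (bijective_split (cokernel s) hS hQs V hxV
    (fun x y hy => hone x y (hVW x hy))).2 (fun x => (cokernel.π s).app (V x) (e x))
  obtain ⟨t, ht⟩ := hsurj q₀
  let θ := homOfSection L t
  have hgen : ∀ x ∈ S, x ∈ CohB1.genLocus L θ := by
    intro x hx
    let x' : S := ⟨x, hx⟩
    have hd0 : (cokernel.π s).app (V x') (mres L (le_top : V x' ≤ ⊤) t - e x') = 0 := by
      rw [map_sub, ← app_nat, ht, show mres (cokernel s) (le_top : V x' ≤ ⊤) q₀ =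
        (cokernel.π s).app (V x') (e x') from congrFun hq₀ x', sub_self]
    have := hT.mono_f
    obtain ⟨z, hz⟩ := sections_exact_left hT.exact _ hd0
    obtain ⟨f, hf, hfD⟩ := genLocus_inf_frame s (he x')
    let ρ : Γ(X, V x') := z
    have hsect : ((ρ * f + 1) : Γ(X, V x')) • e x' = sect θ (V x') := by
      rw [sect_homOfSection, add_smul, one_smul, mul_smul, hf, ← app_eq_smul]
      exact eq_sub_iff_add_eq.1 hz
    have key := genLocus_inf_eq_basicOpen θ (he x') hsect
    suffices h : x ∈ X.basicOpen (ρ * f + 1) from (key.ge h).1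
    rw [Scheme.mem_basicOpen _ _ _ (hxV x')]
    by_contra hu
    have hfx : X.presheaf.germ (V x') x (hxV x') f ∈ IsLocalRing.maximalIdeal (X.presheaf.stalk x) := by
      intro hfu
      exact hx (hfD.ge ((Scheme.mem_basicOpen _ _ _ (hxV x')).2 hfu)).1
    have h1 : X.presheaf.germ (V x') x (hxV x') (ρ * f + 1) ∈
        IsLocalRing.maximalIdeal (X.presheaf.stalk x) := hu
    rw [map_add, map_mul, map_one] at h1
    exact (IsLocalRing.maximalIdeal.isMaximal _).ne_top
      ((Ideal.eq_top_iff_one _).2 ((Ideal.add_mem_iff_right _ (Ideal.mul_mem_left _ _ hfx)).1 h1))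
  -- `s` is injective on `H¹` of all powers
  have hP : ∀ n, PicF.IsInvertible (CohB1.tensorPow L n) := TensorMod.isInvertible_tensorPow hL
  have hstep : ∀ n, Module.finrank k (Coh.HH X (CohB1.tensorPow L n) 1) ≤
      Module.finrank k (Coh.HH X (CohB1.tensorPow L (n + 1)) 1) := by
    intro n
    obtain ⟨w, hw⟩ := shortExact_twist hT (hP n)
    have hgenn : ∀ x ∈ S, x ∈ CohB1.genLocus _ (SecTwist.powHom θ n) := by
      intro x hx
      cases n with
      | zero => rw [genLocus_powHom_zero]; trivial
      | succ m => rw [genLocus_powHom hL]; exact hgen x hx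
    have hsn := surjective_twist_of_surjective (cokernel.π s) hfin hcl hQs (hP n)
      (SecTwist.powHom θ n) hgenn hsurj
    have hinj : Function.Injective (CohFinite.hhMap k (twist T.f (CohB1.tensorPow L n)) 1) := by
      refine (injective_iff_map_eq_zero _).2 fun a ha => ?_
      have ha' : a ∈ LinearMap.range (CohFinite.hhDelta k hw 0) := by
        rw [CohFinite.hhDelta_range_eq_ker (A := k) hw 0]
        exact ha
      obtain ⟨b, rfl⟩ := ha'
      obtain ⟨c, hc⟩ := hsn (secEquiv _ b)
      refine LinearMap.mem_ker.1 ?_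
      rw [← CohFinite.hhDelta_ker_eq_range (A := k) hw 0]
      refine ⟨(secEquiv (CohB1.tensorMod T.X₂ (CohB1.tensorPow L n))).symm c,
        (secEquiv (CohB1.tensorMod T.X₃ (CohB1.tensorPow L n))).injective ?_⟩
      refine (secEquiv_map (twist T.g (CohB1.tensorPow L n)) _).trans ?_
      rw [AddEquiv.apply_symm_apply]
      exact hc
    have := finite_HH (k := k) (TwistVanish.isCoh_tensorMod hL' (hP n)) 1
    have hle : Module.finrank k (Coh.HH X (CohB1.tensorMod (Coh.structureModule X) (CohB1.tensorPow L n)) 1) ≤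
        Module.finrank k (Coh.HH X (CohB1.tensorMod L (CohB1.tensorPow L n)) 1) :=
      LinearMap.finrank_le_finrank_of_injective (f := CohFinite.hhMap k (twist T.f (CohB1.tensorPow L n)) 1) hinj
    rw [finrank_HH_congr (TensorMod.unitLeftIso (CohB1.tensorPow L n)) 1,
      finrank_HH_congr (TensorMod.commIso L (CohB1.tensorPow L n)) 1] at hle
    exact hle
  obtain ⟨n₀, hn₀⟩ := eventually_subsingleton_H1_pow (k := k) hdim hL hpos
  have hmono : Module.finrank k (Coh.HH X (CohB1.tensorPow L 0) 1) ≤
      Module.finrank k (Coh.HH X (CohB1.tensorPow L n₀) 1) :=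
    monotone_nat_of_le_succ (f := fun n => Module.finrank k (Coh.HH X (CohB1.tensorPow L n) 1))
      hstep (Nat.zero_le n₀)
  have := hn₀ n₀ le_rfl
  rw [Module.finrank_zero_of_subsingleton (M := Coh.HH X (CohB1.tensorPow L n₀) 1)] at hmono
  exact Nat.le_zero.1 hmono

end Groth.Agent.CurveDeg
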