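import Groth.Agent.CurveDeg.LocFree
import Groth.Agent.CurveDeg.Curve

/-! Closed subsets of dimension at most zero. -/

set_option autoImplicit false

noncomputable section

universe u

open CategoryTheory Limits AlgebraicGeometry Opposite TopologicalSpace

namespace Groth.Agent.CurveDeg

variable {X : Scheme.{u}}

theorem finite_of_dim_le_zero [NoetherianSpace X] {C : Set X} (hC : IsClosed C)
    (hdim : topologicalKrullDim C ≤ 0) : C.Finite ∧ ∀ x ∈ C, IsClosed ({x} : Set X) := by
  have hcl : ∀ x ∈ C, IsClosed ({x} : Set X) := by
    intro x hx
    rw [← closure_subset_iff_isClosed]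
    intro y hy
    by_contra hne
    have hyC : y ∈ C := closure_minimal (Set.singleton_subset_iff.2 hx) hC hy
    let x' : C := ⟨x, hx⟩
    let y' : C := ⟨y, hyC⟩
    let a : IrreducibleCloseds C := ⟨closure {y'}, isIrreducible_singleton.closure, isClosed_closure⟩
    let b : IrreducibleCloseds C := ⟨closure {x'}, isIrreducible_singleton.closure, isClosed_closure⟩
    have hsp : x' ⤳ y' := (subtype_specializes_iff _ _).2 (specializes_iff_mem_closure.2 hy)
    have hab : a < b := by
      refine lt_of_le_of_ne (closure_minimal (Set.singleton_subset_iff.2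
        (specializes_iff_mem_closure.1 hsp)) isClosed_closure) fun h => hne ?_
      have h' : closure ({y'} : Set C) = closure {x'} :=
        congrArg (fun s : IrreducibleCloseds C => (s : Set C)) h
      have hback : y' ⤳ x' := specializes_iff_mem_closure.2 (h' ▸ subset_closure rfl)
      exact ((((subtype_specializes_iff _ _).1 hback).antisymm ((subtype_specializes_iff _ _).1 hsp)).eq :)
    have h1 : (1 : WithBot ℕ∞) ≤ topologicalKrullDim C :=
      Order.LTSeries.length_le_krullDim ((RelSeries.singleton _ a).snoc b hab)
    exact absurd (h1.trans hdim) (by decide)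
  refine ⟨(VarLib.finite_maximal_points hC).subset fun x hx => ⟨hx, fun y hy h => ?_⟩, hcl⟩
  exact (h.mem_closed (hcl y hy) rfl).symm

end Groth.Agent.CurveDeg
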