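import Groth.Agent.CurveDeg.Euler
import Groth.Agent.CurveDeg.H0
import Groth.Agent.CurveDeg.Devissage
import Groth.Agent.CurveDeg.Supp
import Groth.Agent.Depth.Basic
import Groth.Agent.S7639
import Groth.Prelude.Def_CAlg
import Mathlib.AlgebraicGeometry.Properties

/-! Proper one-dimensional schemes with only constant global functions. -/

set_option autoImplicit false
set_option backward.isDefEq.respectTransparency false
set_option backward.isDefEq.respectTransparency.types false
set_option linter.style.haveILetI false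

noncomputable section

universe u

open CategoryTheory Limits AlgebraicGeometry Opposite TopologicalSpace

namespace Groth.Agent.CurveDeg

variable {X : Scheme.{u}}

theorem glue_zero {A B : X.Opens} (hAB : (⊤ : X.Opens) ≤ A ⊔ B) (a : Γ(X, A))
    (ha : (X.presheaf.map (homOfLE (inf_le_left : A ⊓ B ≤ A)).op).hom a = 0) :
    ∃ g : Γ(X, ⊤), (X.presheaf.map (homOfLE (le_top : A ≤ ⊤)).op).hom g = a ∧
      (X.presheaf.map (homOfLE (le_top : B ≤ ⊤)).op).hom g = 0 := by
  let U : ULift.{u} Bool → X.Opens := fun i => if i.down then B else A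
  let sf : ∀ i, Γ(X, U i) := fun i => match i with
    | ⟨false⟩ => a
    | ⟨true⟩ => 0
  have ha' : (X.presheaf.map (homOfLE (inf_le_right : B ⊓ A ≤ A)).op).hom a = 0 := by
    have := congrArg (X.presheaf.map (homOfLE (le_of_eq (inf_comm B A) : B ⊓ A ≤ A ⊓ B)).op).hom ha
    rw [map_zero, ← CommRingCat.comp_apply, ← Functor.map_comp] at this
    exact this
  obtain ⟨g, hg, -⟩ := X.sheaf.existsUnique_gluing' U ⊤ (fun i => homOfLE le_top)
    (hAB.trans (sup_le (le_iSup U ⟨false⟩) (le_iSup U ⟨true⟩))) sf (fun i j => by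
      rcases i with ⟨_ | _⟩ <;> rcases j with ⟨_ | _⟩
      · rfl
      · exact ha.trans (map_zero _).symm
      · exact (map_zero _).trans ha'.symm
      · rfl)
  exact ⟨g, hg ⟨false⟩, hg ⟨true⟩⟩

variable {k : Type u} [Field k] [X.Over (Spec (CommRingCat.of k))]
  [IsProper (X ↘ Spec (CommRingCat.of k))]

include k in
theorem eq_zero_or_isUnit_of_h0 (h0 : Module.finrank k (Coh.HH X (Coh.structureModule X) 0) = 1)
    (g : Γ(X, ⊤)) : g = 0 ∨ IsUnit g := by
  let e := secEquiv (Coh.structureModule X)
  let one0 : Coh.HH X (Coh.structureModule X) 0 := e.symm (1 : Γ(X, ⊤))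
  by_cases hone : (1 : Γ(X, ⊤)) = 0
  · exact .inl (by rw [← mul_one g, hone, mul_zero])
  have hne : one0 ≠ 0 := fun h => hone (by
    have := congrArg e h
    rw [map_zero] at this
    exact (e.apply_symm_apply _).symm.trans this)
  obtain ⟨c, hc⟩ := exists_smul_eq_of_finrank_eq_one h0 hne (e.symm g)
  have hg : g = (Coh.toGlobal (X ↘ Spec (CommRingCat.of k)) c : Γ(X, ⊤)) := by
    have h1 := congrArg e hc
    rw [AddEquiv.apply_symm_apply] at h1
    refine h1.symm.trans ((S7639.secEquiv_smul (Coh.toGlobal (X ↘ Spec (CommRingCat.of k)) c) one0).trans ?_)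
    rw [show (id (e one0) : Γ(X, ⊤)) = 1 from e.apply_symm_apply _, mul_one]
  by_cases hc0 : c = 0
  · exact .inl (by rw [hg, hc0, map_zero])
  · exact .inr (hg ▸ (isUnit_iff_ne_zero.2 hc0).map (Coh.toGlobal (X ↘ Spec (CommRingCat.of k))))

include k in
theorem connectedSpace_of_h0 (h0 : Module.finrank k (Coh.HH X (Coh.structureModule X) 0) = 1)
    [Nonempty X] : ConnectedSpace X := by
  haveI : PreconnectedSpace X := by
    rw [preconnectedSpace_iff_clopen]
    intro W hW
    by_contra! h
    obtain ⟨hne, hne'⟩ := h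
    obtain ⟨w, hw⟩ := hne
    obtain ⟨v, hv⟩ := (Set.ne_univ_iff_exists_notMem W).1 hne'
    let A : X.Opens := ⟨W, hW.2⟩
    let B : X.Opens := ⟨Wᶜ, hW.1.isOpen_compl⟩
    have hbot : A ⊓ B = ⊥ := Opens.ext (by simp [A, B])
    have hsub : Subsingleton Γ(X, A ⊓ B) := by
      rw [hbot]; exact CommRingCat.subsingleton_of_isTerminal X.sheaf.isTerminalOfEmpty
    obtain ⟨g, hgA, hgB⟩ := glue_zero (A := A) (B := B)
      (fun z _ => by by_cases hz : z ∈ W <;> [exact Or.inl hz; exact Or.inr hz]) 1 (Subsingleton.elim _ _)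
    rcases eq_zero_or_isUnit_of_h0 (k := k) h0 g with rfl | hu
    · rw [map_zero] at hgA
      have := congrArg (X.presheaf.germ A w hw).hom hgA
      rw [map_zero, map_one] at this
      exact zero_ne_one this
    · have := (hu.map (X.presheaf.map (homOfLE (le_top : B ≤ ⊤)).op).hom).map (X.presheaf.germ B v hv).hom
      rw [hgB, map_zero] at this
      exact not_isUnit_zero this
  exact { toNonempty := inferInstance }

omit [X.Over (Spec (CommRingCat.of k))] [IsProper (X ↘ Spec (CommRingCat.of k))] in
theorem coheight_le_one (hdim : topologicalKrullDim X ≤ 1) (x : X) : Order.coheight x ≤ 1 := by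
  have h := Order.coheight_le_krullDim x
  rw [← Order.krullDim_eq_of_orderIso (irreducibleSetEquivPoints (α := X))] at h
  exact WithBot.coe_le_coe.1 (h.trans hdim)

include k in
theorem connected_cm_pure (hdim : topologicalKrullDim X = 1)
    (h0 : Module.finrank k (Coh.HH X (Coh.structureModule X) 0) = 1) :
    ConnectedSpace X ∧ (∀ x : X, LocCoh.IsCohenMacaulayLocalRing (X.presheaf.stalk x)) ∧
      ∀ Z ∈ irreducibleComponents (X : Type u), topologicalKrullDim Z = 1 := by
  have := isNoetherian_of_proper (k := k) (X := X)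
  have : Nonempty X := by
    by_contra h
    rw [not_nonempty_iff] at h
    rw [topologicalKrullDim, Order.krullDim, iSup_eq_bot.2 fun p => ((p.head).isIrreducible.nonempty.ne_empty
      (Set.eq_empty_of_isEmpty _)).elim] at hdim
    exact WithBot.bot_ne_one hdim
  have hconn := connectedSpace_of_h0 (k := k) h0
  have hns : ∀ x : X, ({x} : Set X) ≠ Set.univ := fun x hx => by
    have : Subsingleton X := ⟨fun a b => (Set.eq_univ_iff_forall.1 hx a).trans
      (Set.eq_univ_iff_forall.1 hx b).symm⟩
    have h1 := hdim.symm.le.trans (topologicalKrullDim_zero_of_discreteTopology X)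
    exact absurd h1 (by decide)
  refine ⟨hconn, fun x => ?_, fun Z hZ => ?_⟩
  · let R := X.presheaf.stalk x
    have hR : ringKrullDim R = (Order.coheight x : WithBot ℕ∞) := ringKrullDim_stalk_eq_coheight x
    refine { supportDim_eq_depth := ?_ }
    rw [Module.supportDim_self_eq_ringKrullDim, hR]
    have hle := Depth.depth_le_ringKrullDim (R := R) (M := R)
    rw [hR] at hle
    refine congrArg _ (le_antisymm ?_ (WithBot.coe_le_coe.1 hle))
    rcases eq_or_ne (Order.coheight x) 0 with h | h
    · rw [h]; exact bot_le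
    refine (coheight_le_one hdim.le x).trans (Order.one_le_iff_ne_zero.2 fun hd => ?_)
    obtain ⟨η, hη, hne⟩ : ∃ η : X, η ⤳ x ∧ x ≠ η := by
      obtain ⟨η, hη⟩ := not_isMax_iff.1 (fun hm => h (Order.coheight_eq_zero.2 hm))
      exact ⟨η, hη.le, hη.ne⟩
    have hx := isClosed_singleton_of_specializes hdim.le hη hne
    obtain ⟨-, a, ha⟩ := isAssociatedPrime_iff.1 ((Depth.depth_eq_zero_iff (R := R) (M := R)).1 hd)
    have ham : ∀ r ∈ IsLocalRing.maximalIdeal R, r * a = 0 := fun r hr => by
      rw [ha, Submodule.mem_colon_singleton, Submodule.mem_bot] at hr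
      exact hr
    have ha0 : a ≠ 0 := fun h0' => (IsLocalRing.maximalIdeal.isMaximal R).ne_top (by
      rw [ha, h0', Ideal.eq_top_iff_one, Submodule.mem_colon_singleton]; simp)
    obtain ⟨V, hxV, t, rfl⟩ := TopCat.Presheaf.exists_germ_eq (F := X.presheaf) a
    obtain ⟨_, ⟨V', hV', rfl⟩, hxV', hV'V⟩ :=
      X.isBasis_affineOpens.exists_subset_of_mem_open (show x ∈ (V : Set X) from hxV) V.2
    have hV'le : V' ≤ V := hV'V
    have : IsNoetherianRing Γ(X, V') := IsLocallyNoetherian.component_noetherian ⟨V', hV'⟩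
    let p := hV'.primeIdealOf ⟨x, hxV'⟩
    obtain ⟨S, hS⟩ := IsNoetherian.noetherian p.asIdeal
    have hp : ∀ f, f ∈ p.asIdeal ↔ x ∉ X.basicOpen f := fun f => by
      rw [← not_iff_not, not_not]
      have := congrArg (p ∈ ·) (hV'.fromSpec_preimage_basicOpen f)
      simp only [eq_iff_iff] at this
      refine this.symm.trans ?_
      show hV'.fromSpec p ∈ X.basicOpen f ↔ _
      rw [hV'.fromSpec_primeIdealOf]
    have hkill : ∀ f : S, ∃ W : X.Opens, x ∈ W ∧ ∃ hW : W ≤ V',
        (X.presheaf.map (homOfLE hW).op).hom (f.1 * (X.presheaf.map (homOfLE hV'le).op).hom t) = 0 := by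
      rintro ⟨f, hf⟩
      have hf' : X.presheaf.germ V' x hxV' f ∈ IsLocalRing.maximalIdeal R := by
        intro hu
        exact (hp f).1 (hS ▸ Submodule.subset_span hf) ((X.mem_basicOpen f x hxV').2 hu)
      have h1 := ham _ hf'
      have h2 : X.presheaf.germ V' x hxV' (f * (X.presheaf.map (homOfLE hV'le).op).hom t) =
          X.presheaf.germ V' x hxV' 0 := by
        rw [map_mul, map_zero, TopCat.Presheaf.germ_res_apply]
        exact h1
      obtain ⟨W, hxW, i, j, hW⟩ := X.presheaf.germ_eq x hxV' hxV' _ _ h2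
      exact ⟨W, hxW, i.le, hW.trans (map_zero _)⟩
    choose Wf hxWf hWf hWf0 using hkill
    let W : X.Opens := V' ⊓ Finset.univ.inf Wf
    have hxW : x ∈ W := ⟨hxV', by
      rw [Opens.coe_finset_inf]; simp only [Finset.inf_set_eq_iInter, Set.mem_iInter]
      exact fun f _ => hxWf f⟩
    let B : X.Opens := ⟨({x} : Set X)ᶜ, hx.isOpen_compl⟩
    have hzero : (X.presheaf.map (homOfLE (inf_le_left : W ⊓ B ≤ W)).op).hom
        ((X.presheaf.map (homOfLE (inf_le_left.trans hV'le : W ≤ V)).op).hom t) = 0 := by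
      refine TopCat.Presheaf.section_ext X.sheaf (W ⊓ B) _ _ fun y hy => ?_
      show X.presheaf.germ (W ⊓ B) y hy _ = X.presheaf.germ (W ⊓ B) y hy _
      rw [map_zero, TopCat.Presheaf.germ_res_apply, TopCat.Presheaf.germ_res_apply,
        ← TopCat.Presheaf.germ_res_apply X.presheaf (homOfLE hV'le) y hy.1.1 t]
      obtain ⟨f, hfS, hfu⟩ : ∃ f ∈ S, y ∈ X.basicOpen f := by
        by_contra! hall
        refine hy.2 ?_
        let q := hV'.primeIdealOf ⟨y, hy.1.1⟩
        have hle : p.asIdeal ≤ q.asIdeal := by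
          rw [← hS]
          refine Ideal.span_le.2 fun f hf => ?_
          by_contra hq
          refine hall f hf ?_
          have := congrArg (q ∈ ·) (hV'.fromSpec_preimage_basicOpen f)
          simp only [eq_iff_iff] at this
          have h3 : hV'.fromSpec q ∈ X.basicOpen f := this.2 hq
          rwa [hV'.fromSpec_primeIdealOf] at h3
        have hsp := ((PrimeSpectrum.le_iff_specializes p q).1 hle).map hV'.fromSpec.continuous
        rw [hV'.fromSpec_primeIdealOf, hV'.fromSpec_primeIdealOf] at hsp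
        exact hsp.mem_closed hx rfl
      have hyW : y ∈ Wf ⟨f, hfS⟩ := (Finset.inf_le (Finset.mem_univ _) : Finset.univ.inf Wf ≤ _) hy.1.2
      have h4 := congrArg (X.presheaf.germ (Wf ⟨f, hfS⟩) y hyW).hom (hWf0 ⟨f, hfS⟩)
      rw [map_zero, TopCat.Presheaf.germ_res_apply, map_mul] at h4
      exact ((X.mem_basicOpen f y hy.1.1).1 hfu).mul_right_eq_zero.1 h4
    obtain ⟨g, hgW, hgB⟩ := glue_zero (A := W) (B := B) (fun z _ => by
      by_cases hz : z = x
      · exact Or.inl (hz ▸ hxW)
      · exact Or.inr hz) _ hzero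
    rcases eq_zero_or_isUnit_of_h0 (k := k) h0 g with rfl | hu
    · apply ha0
      rw [map_zero] at hgW
      have h5 := congrArg (X.presheaf.germ W x hxW).hom hgW
      rw [map_zero, TopCat.Presheaf.germ_res_apply] at h5
      exact h5.symm
    · obtain ⟨v, hv⟩ := (Set.ne_univ_iff_exists_notMem _).1 (hns x)
      have := (hu.map (X.presheaf.map (homOfLE (le_top : B ≤ ⊤)).op).hom).map (X.presheaf.germ B v hv).hom
      rw [hgB, map_zero] at this
      exact not_isUnit_zero this
  · have hle : topologicalKrullDim Z ≤ 1 := (topologicalKrullDim_subspace_le X Z).trans hdim.le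
    by_contra hne
    have h0Z : topologicalKrullDim Z ≤ 0 := by
      generalize topologicalKrullDim Z = d at hle hne ⊢
      induction d using WithBot.recBotCoe with
      | bot => exact bot_le
      | coe a =>
        have : a < 1 := lt_of_le_of_ne (by exact_mod_cast hle) (by exact_mod_cast hne)
        simp_all
    have hcZ := isClosed_of_mem_irreducibleComponents Z hZ
    obtain ⟨η, hη⟩ := QuasiSober.sober hZ.1 hcZ
    have hηc := (finite_of_dim_le_zero hcZ h0Z).2 η hη.mem
    have hZη : Z = {η} := by rw [← hη.def, hηc.closure_eq]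
    have hopen : IsOpen ({η} : Set X) := by
      have hR : IsClosed (⋃ C ∈ irreducibleComponents (X : Type u) \ {Z}, C) :=
        ((NoetherianSpace.finite_irreducibleComponents).sdiff).isClosed_biUnion
          fun C hC => isClosed_of_mem_irreducibleComponents C hC.1
      have heq : ({η} : Set X) = (⋃ C ∈ irreducibleComponents (X : Type u) \ {Z}, C)ᶜ := by
        refine Set.Subset.antisymm (Set.singleton_subset_iff.2 fun hmem => ?_) fun w hw => ?_
        · obtain ⟨C, ⟨hC, hneC⟩, hηC⟩ := Set.mem_iUnion₂.1 hmem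
          refine hneC (Set.Subset.antisymm (hZ.2 hC.1 ?_) ?_)
          · rw [hZη]; exact Set.singleton_subset_iff.2 hηC
          · rw [hZη]; exact Set.singleton_subset_iff.2 hηC
        · by_contra hwη
          exact hw (Set.mem_biUnion ⟨irreducibleComponent_mem_irreducibleComponents w,
            fun h => hwη (hZη ▸ h ▸ mem_irreducibleComponent)⟩ mem_irreducibleComponent)
      rw [heq]; exact hR.isOpen_compl
    exact hns η (IsClopen.eq_univ ⟨hηc, hopen⟩ (Set.singleton_nonempty η))

end Groth.Agent.CurveDeg
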