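import Groth.Agent.CurveDeg.DegTensor
import Groth.Agent.CurveDeg.Push
import Groth.Agent.GenLocus.PullTensor
import Groth.Agent.DCohBridge.PushProj
import Groth.Prelude.Def_Curv2
import Mathlib.Algebra.MvPolynomial.Funext

/-! The intersection number with a curve is the degree. -/

set_option autoImplicit false
set_option backward.isDefEq.respectTransparency false
set_option backward.isDefEq.respectTransparency.types false
set_option linter.style.haveILetI false

noncomputable section

universe u

open CategoryTheory Limits AlgebraicGeometry Opposite TopologicalSpace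
open Groth.Agent.QCohBase Groth.Agent.GenLocus

namespace Groth.Agent.CurveDeg

variable {k : Type u} [Field k] {X : Scheme.{u}} [X.Over (Spec (CommRingCat.of k))]
  [IsProper (X ↘ Spec (CommRingCat.of k))]

theorem deg_tensorPow_of_dim_le (hdim : topologicalKrullDim X ≤ 1) {L : X.Modules}
    (hL : PicF.IsInvertible L) :
    ∀ n : ℕ, Curv2.deg k X (CohB1.tensorPow L n) 1 = n * Curv2.deg k X L 1
  | 0 => by simp [CohB1.tensorPow, Curv2.deg]
  | n + 1 => by
    have h := deg_tensor_locFree (k := k) hdim
      (TensorMod.isFinLocFreeOfRank_one (TensorMod.isInvertible_tensorPow hL n))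
      (TensorMod.isFinLocFreeOfRank_one hL)
    rw [CohB1.tensorPow]
    rw [deg_tensorPow_of_dim_le hdim hL n] at h
    refine h.trans ?_
    push_cast; ring

theorem euler_quot_twist (D : X.IdealSheafData)
    (hD : topologicalKrullDim (D.support : Set X) ≤ 1) {L : X.Modules} (hL : PicF.IsInvertible L)
    (m : ℕ) :
    Curv2.euler k X (CohB1.tensorMod (ClSub.quotMod D) (CohB1.tensorPow L m)) =
      @Curv2.euler k _ D.subscheme ⟨D.subschemeι ≫ (X ↘ (Spec (CommRingCat.of k)))⟩
          (Coh.structureModule D.subscheme) +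
        m * @Curv2.deg k _ D.subscheme ⟨D.subschemeι ≫ (X ↘ (Spec (CommRingCat.of k)))⟩
          ((Scheme.Modules.pullback D.subschemeι).obj L) 1 := by
  have := isNoetherian_of_proper (k := k) (X := X)
  let i := D.subschemeι
  letI : D.subscheme.Over (Spec (CommRingCat.of k)) := ⟨i ≫ X ↘ Spec (CommRingCat.of k)⟩
  haveI : IsProper (D.subscheme ↘ Spec (CommRingCat.of k)) :=
    inferInstanceAs (IsProper (i ≫ X ↘ Spec (CommRingCat.of k)))
  have hd : topologicalKrullDim D.subscheme ≤ 1 := by
    refine le_trans (le_of_eq ?_) hD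
    have hr : Set.range i = (D.support : Set X) := D.range_subschemeι
    rw [← hr]
    exact (IsHomeomorph.topologicalKrullDim_eq _
      i.isClosedEmbedding.isEmbedding.toHomeomorph.isHomeomorph)
  have hinv := isInvertible_pullback i hL
  let N := CohB1.tensorMod (Coh.structureModule D.subscheme)
    ((Scheme.Modules.pullback i).obj (CohB1.tensorPow L m))
  let e : N ≅ CohB1.tensorPow ((Scheme.Modules.pullback i).obj L) m :=
    TensorMod.unitLeftIso _ ≪≫ pullPowIso i hL m
  have hN : Coh.IsQCoh N := (TwistVanish.isCoh_tensorMod (Devissage.isCoh_structureModule (X := D.subscheme))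
    (isInvertible_pullback i (TensorMod.isInvertible_tensorPow hL m))).1
  have h1 : Curv2.euler k X (CohB1.tensorMod (ClSub.quotMod D) (CohB1.tensorPow L m)) =
      Curv2.euler k D.subscheme (CohB1.tensorPow ((Scheme.Modules.pullback i).obj L) m) := by
    refine Eq.trans ?_ (euler_congr (k := k) e)
    rw [← euler_push i rfl N hN]
    exact euler_congr (k := k)
      (DCohBridge.projModIso i (Coh.structureModule D.subscheme) (CohB1.tensorPow L m))
  rw [h1]
  have h2 := deg_tensorPow_of_dim_le (k := k) hd hinv m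
  rw [Curv2.deg] at h2
  push_cast at h2 ⊢
  linarith

theorem coeff_intersection_eq_deg (D : X.IdealSheafData)
    (hD : topologicalKrullDim (D.support : Set X) ≤ 1) {L : X.Modules} (hL : PicF.IsInvertible L)
    (P : MvPolynomial (Fin 1) ℚ)
    (hP : ∀ n : Fin 1 → ℕ, (Curv2.euler k X (Curv2.tensorPows (ClSub.quotMod D) 1 (fun _ => L) n) : ℚ) =
      MvPolynomial.eval (fun i => (n i : ℚ)) P) :
    MvPolynomial.coeff (Finsupp.equivFunOnFinite.symm fun _ : Fin 1 => 1) P =
      (@Curv2.deg k _ D.subscheme ⟨D.subschemeι ≫ (X ↘ (Spec (CommRingCat.of k)))⟩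
        ((Scheme.Modules.pullback D.subschemeι).obj L) 1 : ℚ) := by
  set a : ℤ := @Curv2.euler k _ D.subscheme ⟨D.subschemeι ≫ (X ↘ (Spec (CommRingCat.of k)))⟩
    (Coh.structureModule D.subscheme)
  set b : ℤ := @Curv2.deg k _ D.subscheme ⟨D.subschemeι ≫ (X ↘ (Spec (CommRingCat.of k)))⟩
    ((Scheme.Modules.pullback D.subschemeι).obj L) 1
  have hPeq : P = MvPolynomial.C (a : ℚ) + MvPolynomial.C (b : ℚ) * MvPolynomial.X 0 := by
    refine MvPolynomial.funext_set (fun _ => Set.range (fun m : ℕ => (m : ℚ)))
      (fun _ => Set.infinite_range_of_injective Nat.cast_injective) fun x hx => ?_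
    obtain ⟨m, hm⟩ := hx 0 trivial
    have hxm : x = fun i => ((fun _ : Fin 1 => m) i : ℚ) :=
      funext fun i => by rw [Fin.eq_zero i]; exact hm.symm
    have h := hP fun _ => m
    rw [hxm, ← h]
    simp only [Curv2.tensorPows, map_add, map_mul, MvPolynomial.eval_C, MvPolynomial.eval_X]
    rw [euler_quot_twist D hD hL m]
    push_cast
    ring
  have hm : (Finsupp.equivFunOnFinite.symm fun _ : Fin 1 => 1) = Finsupp.single (0 : Fin 1) (1 : ℕ) := by
    refine Finsupp.ext fun j => ?_
    rw [Fin.eq_zero j]; simp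
  rw [hm, hPeq, MvPolynomial.coeff_add, MvPolynomial.coeff_C, MvPolynomial.coeff_C_mul,
    MvPolynomial.coeff_X]
  rw [if_neg (fun h => by simpa using (DFunLike.congr_fun h 0).symm)]
  simp

end Groth.Agent.CurveDeg
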