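import Groth.Agent.CurveDeg.DegTensor
import Groth.Agent.CurveDeg.Vanish
import Groth.Agent.CurveDeg.Push
import Groth.Agent.GenLocus.PullTensor
import Groth.Agent.DCohBridge.PushProj
import Groth.Agent.CurveDeg.Supp

/-! A nef invertible module has nonnegative degree. -/

set_option autoImplicit false
set_option backward.isDefEq.respectTransparency false
set_option backward.isDefEq.respectTransparency.types false
set_option linter.style.haveILetI false

noncomputable section

universe u

open CategoryTheory Limits AlgebraicGeometry Opposite TopologicalSpace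
open Groth.Agent.QCohBase Groth.Agent.GenLocus

namespace Groth.Agent.CurveDeg

variable {k : Type u} [Field k] {X : Scheme.{u}} [X.Over (Spec (CommRingCat.of k))]
  [IsProper (X ↘ Spec (CommRingCat.of k))]

theorem deg_nonneg_of_nef (hdim : topologicalKrullDim X ≤ 1) {L : X.Modules} (hL : PicF.IsInvertible L)
    (hnef : ∀ C : X.IdealSheafData, IsIntegral C.subscheme →
      topologicalKrullDim (C.support : Set X) = 1 →
        0 ≤ Curv2.euler k X (CohB1.tensorMod (ClSub.quotMod C) L) - Curv2.euler k X (ClSub.quotMod C)) :
    0 ≤ Curv2.deg k X L 1 := by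
  have := isNoetherian_of_proper (k := k) (X := X)
  have hO := Devissage.isCoh_structureModule X
  have hgen : ∀ M : X.Modules, Coh.IsCoh M →
      0 ≤ Curv2.euler k X (CohB1.tensorMod M L) - Curv2.euler k X M := by
    intro M hM
    refine Devissage.of_ideals
      (P := fun M => 0 ≤ Curv2.euler k X (CohB1.tensorMod M L) - Curv2.euler k X M) ?_ ?_ ?_ M hM ?_
    · rintro A B ⟨e⟩ h
      rwa [← euler_congr (k := k) e, ← euler_congr (k := k) (TensorMod.tensorIso e (Iso.refl L))]
    · intro A hA
      have h1 : Curv2.euler k X A = 0 := by
        refine finsum_eq_zero_of_forall_eq_zero fun i => ?_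
        have := Devissage.subsingleton_HH_of_isZero hA i
        rw [Module.finrank_zero_of_subsingleton]; simp
      have h2 : Curv2.euler k X (CohB1.tensorMod A L) = 0 := by
        have hz : IsZero (CohB1.tensorMod A L) := by
          rw [IsZero.iff_id_eq_zero]
          have e : twist (𝟙 A) L = 𝟙 _ := by
            refine twist_hom_ext hL fun V m e => ?_
            rw [twist_app_tmul]
            rfl
          rw [← e, (IsZero.iff_id_eq_zero A).1 hA, twist_zero hL]
        refine finsum_eq_zero_of_forall_eq_zero fun i => ?_
        have := Devissage.subsingleton_HH_of_isZero hz i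
        rw [Module.finrank_zero_of_subsingleton]; simp
      omega
    · intro S hS h₁ h₂ h₃ ha hb
      obtain ⟨w, hw⟩ := shortExact_twist hS hL
      have e1 := euler_additive (k := k) S hS h₁ h₂ h₃
      have e2 := euler_additive (k := k) _ hw (TwistVanish.isCoh_tensorMod h₁ hL)
        (TwistVanish.isCoh_tensorMod h₂ hL) (TwistVanish.isCoh_tensorMod h₃ hL)
      dsimp only at e2
      omega
    intro Z i hi hZ _ I ι hι hI
    letI : Z.Over (Spec (CommRingCat.of k)) := ⟨i ≫ X ↘ Spec (CommRingCat.of k)⟩
    haveI : IsProper (Z ↘ Spec (CommRingCat.of k)) :=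
      inferInstanceAs (IsProper (i ≫ X ↘ Spec (CommRingCat.of k)))
    have := isNoetherian_of_proper (k := k) (X := Z)
    obtain ⟨hcI, -⟩ := Devissage.isCoh_push i ι hI
    have hIc : Coh.IsCoh I := isCoh_of_mono ι (Devissage.isCoh_structureModule Z) hI
    have hinv := isInvertible_pullback i hL
    have hd := (i.isClosedEmbedding.isInducing.topologicalKrullDim_le).trans hdim
    have hp : ∀ A : Z.Modules, Coh.IsCoh A →
        Curv2.euler k X (CohB1.tensorMod ((Scheme.Modules.pushforward i).obj A) L) =
          Curv2.euler k Z (CohB1.tensorMod A ((Scheme.Modules.pullback i).obj L)) := fun A hA =>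
      (euler_congr (k := k) (DCohBridge.projModIso i A L)).trans
        (euler_push i rfl _ (TwistVanish.isCoh_tensorMod hA hinv).1)
    show 0 ≤ Curv2.euler k X (CohB1.tensorMod ((Scheme.Modules.pushforward i).obj I) L) -
      Curv2.euler k X ((Scheme.Modules.pushforward i).obj I)
    rw [hp I hIc, euler_push i rfl I hI]
    rcases eq_or_ne (topologicalKrullDim Z) 1 with hd1 | hd1
    · have hrank := TensorMod.isFinLocFreeOfRank_one hinv
      rw [euler_congr (k := k) (TensorMod.commIso I _), euler_tensor_curve (k := k) hd1 hrank hIc]
      suffices h : 0 ≤ Curv2.deg k Z ((Scheme.Modules.pullback i).obj L) 1 by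
        have := mul_nonneg (Int.natCast_nonneg (gRank I)) h
        omega
      haveI : Nonempty i.ker.subscheme := ⟨i.toImage (genericPoint Z)⟩
      haveI hint : IsIntegral i.ker.subscheme := isIntegral_of_isOpenImmersion (inv i.toImage)
      have hD := hnef i.ker hint ?_
      · obtain ⟨e⟩ := Devissage.push_structure_iso i.ker.subschemeι i (by
          rw [Scheme.IdealSheafData.range_subschemeι, Scheme.Hom.support_ker]
          exact i.isClosedEmbedding.isClosed_range.closure_eq)
        rw [euler_congr (k := k) (TensorMod.tensorIso e (Iso.refl L)), euler_congr (k := k) e,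
          hp _ (Devissage.isCoh_structureModule Z),
          euler_push i rfl _ (Devissage.isCoh_structureModule Z).1,
          euler_congr (k := k) (TensorMod.unitLeftIso _)] at hD
        rw [Curv2.deg]
        push_cast
        omega
      · rw [Scheme.Hom.support_ker, i.isClosedEmbedding.isClosed_range.closure_eq]
        exact (IsHomeomorph.topologicalKrullDim_eq _
          i.isClosedEmbedding.isEmbedding.toHomeomorph.isHomeomorph).symm.trans hd1
    · have hd0 : topologicalKrullDim Z ≤ 0 := by
        generalize topologicalKrullDim Z = d at hd hd1 ⊢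
        induction d using WithBot.recBotCoe with
        | bot => exact bot_le
        | coe a =>
          have : a < 1 := lt_of_le_of_ne (by exact_mod_cast hd) (by exact_mod_cast hd1)
          simp_all
      obtain ⟨hfin, hcl⟩ := finite_of_dim_le_zero (X := Z) isClosed_univ
        (((Homeomorph.Set.univ Z).isInducing.topologicalKrullDim_le).trans hd0)
      rw [euler_congr (k := k) (TensorMod.commIso I _),
        euler_tensorLeft_of_finite_support (k := k) hIc (TensorMod.isFinLocFreeOfRank_one hinv) hfin hcl
          (Set.subset_univ _)]
      push_cast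
      omega
  have h := hgen _ hO
  rw [euler_congr (k := k) (TensorMod.unitLeftIso L)] at h
  rw [Curv2.deg]
  push_cast
  omega

end Groth.Agent.CurveDeg
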