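import Groth.Agent.CurveDeg.DegTensor
import Groth.Agent.CurveDeg.Proj
import Groth.Agent.DCohBridge.PushStalk
import Groth.Prelude.Def_ResDeg
import Mathlib.AlgebraicGeometry.ZariskisMainTheorem
import Mathlib.RingTheory.Ideal.GoingUp

/-! Degrees of inverse images along nonconstant morphisms of curves. -/

set_option autoImplicit false
set_option backward.isDefEq.respectTransparency false
set_option backward.isDefEq.respectTransparency.types false

noncomputable section

universe u

open CategoryTheory Limits AlgebraicGeometry Opposite TopologicalSpace Groth.Agent.QCohBase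

namespace Groth.Agent.CurveDeg

variable {X Y : Scheme.{u}} [IsIntegral X] [IsIntegral Y] (f : X ⟶ Y)

theorem finrank_push_stalk [IsFinite f] (hξ : f.base (genericPoint X) = genericPoint Y) :
    gRank ((Scheme.Modules.pushforward f).obj (Coh.structureModule X)) =
      f.residueDegree (genericPoint X) := by
  let ξ := genericPoint X
  suffices h : ∀ y : Y, y = f.base ξ → y = genericPoint Y →
      Module.finrank (Y.presheaf.stalk y)
        (((Scheme.Modules.pushforward f).obj (Coh.structureModule X)).presheaf.stalk y) =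
        f.residueDegree ξ from h _ hξ.symm rfl
  rintro y rfl hy
  let P := (Scheme.Modules.pushforward f).obj (Coh.structureModule X)
  let O := Coh.structureModule X
  let A := Y.presheaf.stalk (f.base ξ)
  let K := X.presheaf.stalk ξ
  let M := O.presheaf.stalk ξ
  have hA : IsField A := by
    show IsField (Y.presheaf.stalk (f.base ξ))
    rw [hy]
    exact Field.toIsField Y.functionField
  letI : Field A := hA.toField
  letI : Field K := inferInstanceAs (Field X.functionField)
  -- the generator of the stalk of the structure module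
  let e : M := O.presheaf.germ ⊤ ξ trivial (show Γ(O, ⊤) from (1 : Γ(X, ⊤)))
  have hgerm : ∀ (W : X.Opens) (h : ξ ∈ W) (s : Γ(X, W)),
      O.presheaf.germ W ξ h (show Γ(O, W) from s) = X.presheaf.germ W ξ h s • e := by
    intro W h s
    have h1 : O.presheaf.germ W ξ h (show Γ(O, W) from (1 : Γ(X, W))) = e := by
      refine Eq.trans (congrArg _ ?_) (AssPts.germ_mres O ξ (le_top : W ≤ ⊤) h (show Γ(O, ⊤) from (1 : Γ(X, ⊤))))
      exact (map_one (X.presheaf.map (homOfLE (le_top : W ≤ ⊤)).op).hom).symm
    rw [← h1, ← AssPts.germ_smul']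
    exact congrArg _ (mul_one s).symm
  have he : e ≠ 0 := fun he0 => by
    have hsub : Subsingleton M := subsingleton_of_forall_eq 0 fun z => by
      obtain ⟨W, hW, s, rfl⟩ := TopCat.Presheaf.exists_germ_eq (F := O.presheaf) z
      exact (hgerm W hW s).trans (by rw [he0, smul_zero])
    have h1 : gRank O = 1 := gRank_structureModule
    rw [gRank, Module.finrank_zero_of_subsingleton] at h1
    exact zero_ne_one h1
  have hspan : ∀ z : M, ∃ c : K, c • e = z := fun z => by
    obtain ⟨W, hW, s, rfl⟩ := TopCat.Presheaf.exists_germ_eq (F := O.presheaf) z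
    exact ⟨_, (hgerm W hW s).symm⟩
  let eK : K ≃ₗ[K] M := LinearEquiv.ofBijective (LinearMap.toSpanSingleton K M e)
    ⟨smul_left_injective K he, hspan⟩
  letI : Algebra A K := (f.stalkMap ξ).hom.toAlgebra
  letI : Module A M := Module.compHom M (f.stalkMap ξ).hom
  haveI : IsScalarTower A K M := .of_algebraMap_smul fun _ _ => rfl
  let θ := DCohBridge.pushStalkHom f ξ O
  let θl : P.presheaf.stalk (f.base ξ) →ₗ[A] M :=
    { toFun := fun z => θ z
      map_add' := fun a b => map_add θ.hom a b
      map_smul' := fun r a => map_smul θ.hom r a }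
  have hθ : ∀ (V : Y.Opens) (h : f.base ξ ∈ V) (s : Γ(X, f ⁻¹ᵁ V)),
      θl (DCohBridge.gmM P V h (show Γ(P, V) from s)) = X.presheaf.germ (f ⁻¹ᵁ V) ξ h s • e :=
    fun V h s => (DCohBridge.pushStalkHom_germ f ξ O V h s).trans (hgerm (f ⁻¹ᵁ V) h s)
  have hinj : Function.Injective θl := by
    refine (injective_iff_map_eq_zero θl).2 fun z hz => ?_
    obtain ⟨V, hV, s, rfl⟩ := TopCat.Presheaf.exists_germ_eq (F := P.presheaf) z
    have h1 := hθ V hV s
    rw [show θl (DCohBridge.gmM P V hV s) = 0 from hz] at h1
    have h2 : X.presheaf.germ (f ⁻¹ᵁ V) ξ hV (show Γ(X, f ⁻¹ᵁ V) from s) = 0 :=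
      (smul_eq_zero.1 h1.symm).resolve_right he
    have h3 : (show Γ(X, f ⁻¹ᵁ V) from s) = 0 :=
      germ_injective_of_isIntegral X ξ hV (h2.trans (map_zero _).symm)
    show DCohBridge.gmM P V hV s = 0
    rw [show s = 0 from h3, map_zero]
  have hsurj : Function.Surjective θl := by
    intro z
    obtain ⟨c, rfl⟩ := hspan z
    obtain ⟨V, hV, hfV, -⟩ :=
      Opens.isBasis_iff_nbhd.1 Y.isBasis_affineOpens (U := ⊤) (Opens.mem_top (f.base ξ))
    let U := f ⁻¹ᵁ V
    have hU : IsAffineOpen U := hV.preimage f
    haveI : Nonempty U := ⟨⟨ξ, hfV⟩⟩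
    haveI : Nonempty V := ⟨⟨f.base ξ, hfV⟩⟩
    haveI := functionField_isFractionRing_of_isAffineOpen X U hU
    letI : Algebra Γ(Y, V) Γ(X, U) := (f.app V).hom.toAlgebra
    haveI : Algebra.IsIntegral Γ(Y, V) Γ(X, U) :=
      ⟨(IsFinite.finite_app (f := f) V hV).to_isIntegral⟩
    obtain ⟨b, t, ht, hbt⟩ := IsFractionRing.div_surjective (A := Γ(X, U)) (K := X.functionField) c
    have ht0 : t ≠ 0 := nonZeroDivisors.ne_zero ht
    obtain ⟨a, ha, ha0⟩ := Submodule.exists_mem_ne_zero_of_ne_bot
      (Ideal.comap_ne_bot_of_integral_mem (R := Γ(Y, V)) ht0 (Ideal.mem_span_singleton_self t)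
        (Algebra.IsIntegral.isIntegral t))
    obtain ⟨d, hd⟩ := Ideal.mem_span_singleton.1 (Ideal.mem_comap.1 ha)
    have hga : Y.presheaf.germ V (f.base ξ) hfV a ≠ 0 := fun h =>
      ha0 (germ_injective_of_isIntegral Y (f.base ξ) hfV (h.trans (map_zero _).symm))
    refine ⟨(Y.presheaf.germ V (f.base ξ) hfV a : A)⁻¹ •
      DCohBridge.gmM P V hfV (show Γ(P, V) from (b * d : Γ(X, U))), ?_⟩
    rw [map_smul, inv_smul_eq_iff₀ hga, hθ]
    refine (congrArg (· • e) ?_).trans ((mul_smul _ _ e).trans
      (algebraMap_smul K (Y.presheaf.germ V (f.base ξ) hfV a : A) (c • e)))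
    let g : Γ(X, U) →+* K := (X.presheaf.germ U ξ hfV).hom
    have hgt : g t ≠ 0 := fun h =>
      ht0 (germ_injective_of_isIntegral X ξ hfV (h.trans (map_zero _).symm))
    have h1 : algebraMap A K (Y.presheaf.germ V (f.base ξ) hfV a) = g (t * d) :=
      (DCohBridge.germ_stφ f ξ V hfV a).trans (congrArg g hd)
    have hc : c * g t = g b := by
      rw [← hbt]
      exact div_mul_cancel₀ (g b) hgt
    show g (b * d) = algebraMap A K (Y.presheaf.germ V (f.base ξ) hfV a) * c
    rw [h1, map_mul, map_mul, ← hc]
    ring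
  have key : Module.finrank A (P.presheaf.stalk (f.base ξ)) = Module.finrank A K := by
    rw [(LinearEquiv.ofBijective θl ⟨hinj, hsurj⟩).finrank_eq]
    exact ((eK.restrictScalars A).finrank_eq).symm
  refine key.trans ?_
  letI : Algebra (Y.residueField (f.base ξ)) (X.residueField ξ) := (f.residueFieldMap ξ).hom.toAlgebra
  show Module.finrank A K = Module.finrank (Y.residueField (f.base ξ)) (X.residueField ξ)
  have bY : Function.Bijective (Y.residue (f.base ξ)) :=
    ⟨(Y.residue (f.base ξ)).hom.injective, Y.residue_surjective _⟩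
  have bX : Function.Bijective (X.residue ξ) :=
    ⟨(X.residue ξ).hom.injective, X.residue_surjective _⟩
  refine Algebra.finrank_eq_of_equiv_equiv (RingEquiv.ofBijective (Y.residue (f.base ξ)).hom bY)
    (RingEquiv.ofBijective (X.residue ξ).hom bX) ?_
  ext r
  exact congr($(Scheme.residue_residueFieldMap f ξ) r)

omit [IsIntegral X] [IsIntegral Y] in
theorem finite_fibres [IsIntegral X] [IsIntegral Y] [NoetherianSpace X] (hX : topologicalKrullDim X = 1)
    (hY : topologicalKrullDim Y = 1) [IsProper f] (hξ : f.base (genericPoint X) = genericPoint Y)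
    (y : Y) : (f.base ⁻¹' {y}).Finite := by
  by_cases hy : y = genericPoint Y
  · refine (Set.finite_singleton (genericPoint X)).subset fun x hx => ?_
    by_contra hne
    have h1 : IsClosed (f.base '' {x}) :=
      f.isClosedMap _ (VarLib.isClosed_singleton_of_dim_le_one hX.le hne)
    rw [Set.image_singleton, show f.base x = y from hx, hy] at h1
    exact genericPoint_not_mem hY (S := {genericPoint Y}) (fun z hz => by
      obtain rfl : z = genericPoint Y := hz
      exact h1) rfl
  · have hcl : IsClosed (f.base ⁻¹' {y}) :=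
      (VarLib.isClosed_singleton_of_dim_le_one hY.le hy).preimage f.continuous
    refine (finite_closed_subset hX.le hcl (ξ := genericPoint X) ?_ ?_).1
    · rw [show closure ({genericPoint X} : Set X) = Set.univ from genericPoint_spec X]
      exact Set.subset_univ _
    · intro h
      exact hy ((show f.base (genericPoint X) = y from h).symm.trans hξ)

variable {k : Type u} [Field k] [X.Over (Spec (CommRingCat.of k))] [Y.Over (Spec (CommRingCat.of k))]
  [IsProper (X ↘ Spec (CommRingCat.of k))] [IsProper (Y ↘ Spec (CommRingCat.of k))]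

/-- Degrees of inverse images. -/
theorem deg_pullback (hX : topologicalKrullDim X = 1) (hY : topologicalKrullDim Y = 1)
    (hf : f ≫ (Y ↘ Spec (CommRingCat.of k)) = X ↘ Spec (CommRingCat.of k))
    (hξ : f.base (genericPoint X) = genericPoint Y) {n : ℕ} {E : Y.Modules}
    (hE : FlatMod.IsFinLocFreeOfRank n E) :
    Curv2.deg k X ((Scheme.Modules.pullback f).obj E) n =
      (f.residueDegree (genericPoint X) : ℤ) * Curv2.deg k Y E n := by
  have := isNoetherian_of_proper (k := k) (X := X)
  have : IsProper (f ≫ (Y ↘ Spec (CommRingCat.of k))) := by rw [hf]; infer_instance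
  have : IsProper f := IsProper.of_comp f (Y ↘ Spec (CommRingCat.of k))
  have : LocallyQuasiFinite f :=
    LocallyQuasiFinite.of_finite_preimage_singleton f fun y => finite_fibres f hX hY hξ y
  have : IsFinite f := IsFinite.of_isProper_of_locallyQuasiFinite f
  have hE' := TensorMod.isFinLocFreeOfRank_pullback f hE
  have hO : Coh.IsCoh (Coh.structureModule X) := isCoh_structureModule (k := k)
  have hP := isCoh_pushforward_of_isFinite f hO
  rw [Curv2.deg, ← euler_push f hf _ (isCoh_of_rank hE').1, ← euler_push f hf _ hO.1,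
    ← euler_congr (k := k) (projIso f E hE), euler_tensor_curve hY hE hP, finrank_push_stalk f hξ]
  ring

end Groth.Agent.CurveDeg
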