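import Groth.Prelude.Def_KoszTw
import Groth.Agent.CurveDeg.ZeroDim
import Groth.Agent.RPushQCoh.MV
import Groth.Agent.Devissage.General

/-! Twisting short exact sequences by invertible modules. -/

set_option autoImplicit false
set_option backward.isDefEq.respectTransparency false

noncomputable section

universe u

open CategoryTheory Limits AlgebraicGeometry Opposite TopologicalSpace Groth.Agent.QCohBase
open Groth.Agent.GenLocus

namespace Groth.Agent.CurveDeg

variable {X : Scheme.{u}}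

/-- `φ ⊗ L`. -/
abbrev twist {M N : X.Modules} (φ : M ⟶ N) (L : X.Modules) :
    CohB1.tensorMod M L ⟶ CohB1.tensorMod N L :=
  KoszTw.tensorMap φ (𝟙 L)

theorem twist_app_tmul {M N : X.Modules} (φ : M ⟶ N) (L : X.Modules) (U : X.Opens) (m : Γ(M, U))
    (n : Γ(L, U)) :
    (twist φ L).app U (SecTwist.tmul M L U m n) = SecTwist.tmul N L U (φ.app U m) n := by
  rw [twist, KoszTw.tensorMap_tmul]
  rfl

theorem exists_frame_basis {L : X.Modules} (hL : PicF.IsInvertible L) :
    Opens.IsBasis {U : X.Opens | ∃ e : Γ(L, U), IsFrame L e} :=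
  Opens.isBasis_iff_nbhd.2 fun {U x} hx => by
    obtain ⟨V, -, hxV, hVU, e, he⟩ := exists_isFrame hL hx
    exact ⟨V, ⟨e, he⟩, hxV, hVU⟩

theorem twist_zero {M N : X.Modules} {L : X.Modules} (hL : PicF.IsInvertible L) :
    twist (0 : M ⟶ N) L = 0 := by
  refine Scheme.Modules.hom_ext _ _ fun U => ?_
  ext s
  choose V hV hxV hVU using fun y : U => Opens.isBasis_iff_nbhd.1 (exists_frame_basis hL) y.2
  refine eq_of_iSup_le _ V hVU (fun y hy => Opens.mem_iSup.2 ⟨⟨y, hy⟩, hxV ⟨y, hy⟩⟩) _ _ fun y => ?_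
  obtain ⟨e, he⟩ := hV y
  obtain ⟨a, ha⟩ := (TwistVanish.bijective_tmul_frame M he (V y) le_rfl).2 (mres _ (hVU y) s)
  rw [app_nat, app_nat, ← ha, twist_app_tmul]
  show SecTwist.tmul N L (V y) (0 : Γ(N, V y)) _ = 0
  show ((SecTwist.toTensor N L).app (op (V y))).hom _ = 0
  rw [TensorProduct.zero_tmul, map_zero]

/-- Twisting by an invertible module preserves short exact sequences. -/
theorem shortExact_twist {T : ShortComplex X.Modules} (hT : T.ShortExact) {L : X.Modules}
    (hL : PicF.IsInvertible L) :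
    ∃ w : twist T.f L ≫ twist T.g L = 0,
      (ShortComplex.mk (twist T.f L) (twist T.g L) w).ShortExact := by
  have := hT.mono_f
  have := hT.epi_g
  have hB := exists_frame_basis (X := X) hL
  have hbij : ∀ (G : X.Modules) {V : X.Opens} {e : Γ(L, V)}, IsFrame L e → ∀ (W : X.Opens) (h : W ≤ V),
      Function.Bijective fun a : Γ(G, W) => SecTwist.tmul G L W a (mres L h e) :=
    fun G V e he W h => TwistVanish.bijective_tmul_frame G he W h
  have hcomp : twist T.f L ≫ twist T.g L = twist (T.f ≫ T.g) L := by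
    refine Scheme.Modules.hom_ext _ _ fun U => ?_
    ext s
    choose V hV hxV hVU using fun y : U => Opens.isBasis_iff_nbhd.1 hB y.2
    refine eq_of_iSup_le _ V hVU (fun y hy => Opens.mem_iSup.2 ⟨⟨y, hy⟩, hxV ⟨y, hy⟩⟩) _ _ fun y => ?_
    obtain ⟨e, he⟩ := hV y
    obtain ⟨a, ha⟩ := (hbij T.X₁ he (V y) le_rfl).2 (mres _ (hVU y) s)
    rw [app_nat, app_nat, ← ha]
    simp only [Scheme.Modules.Hom.comp_app, ConcreteCategory.comp_apply, twist_app_tmul]
  have w : twist T.f L ≫ twist T.g L = 0 := by rw [hcomp, T.zero, twist_zero hL]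
  refine ⟨w, ?_⟩
  have hmono : Mono (twist T.f L) := by
    refine Devissage.mono_of_app_injective _ fun U => (injective_iff_map_eq_zero _).2 fun s hs => ?_
    choose V hV hxV hVU using fun y : U => Opens.isBasis_iff_nbhd.1 hB y.2
    refine eq_of_iSup_le _ V hVU (fun y hy => Opens.mem_iSup.2 ⟨⟨y, hy⟩, hxV ⟨y, hy⟩⟩) _ _ fun y => ?_
    obtain ⟨e, he⟩ := hV y
    obtain ⟨a, ha⟩ := (hbij T.X₁ he (V y) le_rfl).2 (mres _ (hVU y) s)
    rw [map_zero, ← ha]
    have h1 : (twist T.f L).app (V y) (mres _ (hVU y) s) = 0 := by rw [← app_nat, hs, map_zero]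
    rw [← ha, twist_app_tmul] at h1
    have h2 : T.f.app (V y) a = 0 := by
      refine (hbij T.X₂ he (V y) le_rfl).1 (h1.trans ?_)
      show 0 = ((SecTwist.toTensor T.X₂ L).app (op (V y))).hom _
      rw [TensorProduct.zero_tmul, map_zero]
    rw [app_injective_of_mono T.f (V y) (h2.trans (map_zero _).symm)]
    show ((SecTwist.toTensor T.X₁ L).app (op (V y))).hom _ = 0
    rw [TensorProduct.zero_tmul, map_zero]
  have hepi : Epi (twist T.g L) := by
    have : (modAb X).Faithful :=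
      inferInstanceAs (SheafOfModules.toSheaf X.ringCatSheaf).Faithful
    refine (modAb X).epi_of_epi_map ((CategoryTheory.Sheaf.isLocallySurjective_iff_epi'
      (φ := (modAb X).map (twist T.g L))).1
      ((TopCat.Presheaf.isLocallySurjective_iff _).2 fun U t x hx => ?_))
    obtain ⟨V, ⟨e, he⟩, hxV, hVU⟩ := Opens.isBasis_iff_nbhd.1 hB hx
    obtain ⟨b, hb⟩ := (hbij T.X₃ he V le_rfl).2 (mres _ hVU t)
    have : Epi ((modAb X).map T.g) := (toAb_shortExact hT).epi_g
    obtain ⟨W, hWV, ⟨a, ha⟩, hxW⟩ := (TopCat.Presheaf.isLocallySurjective_iff _).1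
      ((CategoryTheory.Sheaf.isLocallySurjective_iff_epi' (φ := (modAb X).map T.g)).2 this) V b x hxV
    refine ⟨W, hWV.trans hVU, ⟨SecTwist.tmul T.X₂ L W a (mres L hWV (mres L le_rfl e)), ?_⟩, hxW⟩
    show (twist T.g L).app W _ = mres _ (hWV.trans hVU) t
    rw [twist_app_tmul, ← mres_mres _ hVU hWV, ← hb]
    show SecTwist.tmul T.X₃ L W (T.g.app W a) _ = _
    rw [show T.g.app W a = mres T.X₃ hWV b from ha]
    exact (SecTwist.map_tmul T.X₃ L (homOfLE hWV) b _).symm
  refine { exact := ?_, mono_f := hmono, epi_g := hepi }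
  refine RPushQCoh.exact_of_sections fun U s hs => ?_
  change (twist T.g L).app U s = 0 at hs
  choose V hV hxV hVU using fun y : U => Opens.isBasis_iff_nbhd.1 hB y.2
  have hloc : ∀ y, ∃ t : Γ(CohB1.tensorMod T.X₁ L, V y), (twist T.f L).app (V y) t = mres _ (hVU y) s := by
    intro y
    obtain ⟨e, he⟩ := hV y
    obtain ⟨b, hb⟩ := (hbij T.X₂ he (V y) le_rfl).2 (mres _ (hVU y) s)
    have h1 : (twist T.g L).app (V y) (mres _ (hVU y) s) = 0 := by rw [← app_nat, hs, map_zero]
    rw [← hb, twist_app_tmul] at h1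
    have h2 : T.g.app (V y) b = 0 := by
      refine (hbij T.X₃ he (V y) le_rfl).1 (h1.trans ?_)
      show 0 = ((SecTwist.toTensor T.X₃ L).app (op (V y))).hom _
      rw [TensorProduct.zero_tmul, map_zero]
    obtain ⟨a, ha⟩ := sections_exact_left hT.exact b h2
    refine ⟨SecTwist.tmul T.X₁ L (V y) a (mres L le_rfl e), ?_⟩
    rw [twist_app_tmul, ha]
    exact hb
  choose t ht using hloc
  obtain ⟨u, hu, -⟩ := TopCat.Sheaf.existsUnique_gluing'
    ⟨(CohB1.tensorMod T.X₁ L).presheaf, (CohB1.tensorMod T.X₁ L).isSheaf⟩ V U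
    (fun y => homOfLE (hVU y)) (fun y hy => Opens.mem_iSup.2 ⟨⟨y, hy⟩, hxV ⟨y, hy⟩⟩) t (by
      intro y y'
      refine app_injective_of_mono (twist T.f L) (V y ⊓ V y') ?_
      show (twist T.f L).app _ (mres _ inf_le_left (t y)) =
        (twist T.f L).app _ (mres _ inf_le_right (t y'))
      rw [← app_nat, ← app_nat, ht, ht, mres_mres, mres_mres])
  refine ⟨u, eq_of_iSup_le _ V hVU (fun y hy => Opens.mem_iSup.2 ⟨⟨y, hy⟩, hxV ⟨y, hy⟩⟩) _ _ fun y => ?_⟩
  show mres _ (hVU y) ((twist T.f L).app U u) = _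
  rw [app_nat, show mres _ (hVU y) u = t y from hu y, ht]

end Groth.Agent.CurveDeg
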