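import Groth.Agent.CurveDeg.Ample
import Groth.Agent.AffineComp.Images
import Groth.Agent.GenLocus.PullTensor
import Groth.Agent.RedSepLib.Reduced
import Mathlib.AlgebraicGeometry.IdealSheaf.IrreducibleComponent

/-! An invertible module of nonpositive degrees with a section is trivial. -/

set_option autoImplicit false
set_option backward.isDefEq.respectTransparency false
set_option backward.isDefEq.respectTransparency.types false
set_option linter.style.haveILetI false

noncomputable section

universe u

open CategoryTheory Limits AlgebraicGeometry Opposite TopologicalSpace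
open Groth.Agent.QCohBase Groth.Agent.GenLocus

namespace Groth.Agent.CurveDeg

variable {X : Scheme.{u}}

theorem eq_zero_of_genLocus_empty [IsReduced X] {L : X.Modules} (hL : PicF.IsInvertible L)
    {s : Coh.structureModule X ⟶ L} (h : ∀ x, x ∉ CohB1.genLocus L s) : s = 0 := by
  refine Scheme.Modules.hom_ext _ _ fun U => ?_
  ext r
  choose V hV hxV hVU using fun y : U => Opens.isBasis_iff_nbhd.1 (exists_frame_basis hL) y.2
  refine eq_of_iSup_le _ V hVU (fun y hy => Opens.mem_iSup.2 ⟨⟨y, hy⟩, hxV ⟨y, hy⟩⟩) _ _ fun y => ?_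
  obtain ⟨e, he⟩ := hV y
  obtain ⟨f, hf, hfD⟩ := genLocus_inf_frame s he
  have hf0 : f = 0 :=
    (basicOpen_eq_bot_iff f).1 (eq_bot_iff.2 fun z hz => (h z (hfD.ge hz).1).elim)
  have h1 : sect s (V y) = 0 := by rw [← hf, hf0, zero_smul]
  show mres L (hVU y) (s.app U r) = mres L (hVU y) ((0 : Coh.structureModule X ⟶ L).app U r)
  have e0 : ((0 : Coh.structureModule X ⟶ L).app U r) = 0 := rfl
  rw [e0, map_zero, app_nat]
  exact (app_eq_smul s (V y) _).trans (by rw [h1, smul_zero])

variable {k : Type u} [Field k] [X.Over (Spec (CommRingCat.of k))]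
  [IsProper (X ↘ Spec (CommRingCat.of k))]

theorem subsingleton_or_trivial [IsReduced X] [ConnectedSpace X] [AlgebraicGeometry.IsNoetherian X]
    (hdim : ∀ (C : Set X), C ∈ irreducibleComponents (X : Type u) → topologicalKrullDim C = 1)
    (L : X.Modules) (hL : PicF.IsInvertible L)
    (hdeg : ∀ (C : Set X) (hC : C ∈ irreducibleComponents (X : Type u)),
      @Curv2.deg k _ (X.irreducibleComponentIdeal C hC).radical.subscheme
        ⟨(X.irreducibleComponentIdeal C hC).radical.subschemeι ≫ (X ↘ (Spec (CommRingCat.of k)))⟩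
        ((Scheme.Modules.pullback (X.irreducibleComponentIdeal C hC).radical.subschemeι).obj L) 1 ≤ 0) :
    Subsingleton (Coh.HH X L 0) ∨ Nonempty (L ≅ Coh.structureModule X) := by
  by_cases hsub : Subsingleton (Coh.HH X L 0)
  · exact .inl hsub
  refine .inr ?_
  have := finite_HH (k := k) (TensorMod.isCoh_of_isInvertible hL) 0
  have : Nontrivial (Coh.HH X L 0) := not_subsingleton_iff_nontrivial.1 hsub
  obtain ⟨s, hs⟩ := exists_ne_zero_of_finrank_pos (k := k) (L := L) Module.finrank_pos
  let G : X.Opens := CohB1.genLocus L s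
  have key : ∀ (C : Set X), C ∈ irreducibleComponents (X : Type u) →
      (C ∩ (G : Set X)).Nonempty → C ⊆ (G : Set X) := by
    intro C hC hne
    have hrad : (X.irreducibleComponentIdeal C hC).radical =
        Scheme.IdealSheafData.vanishingIdeal ⟨C, isClosed_of_mem_irreducibleComponents C hC⟩ := by
      rw [← Scheme.IdealSheafData.vanishingIdeal_support]
      congr 1
    have hd := hdeg C hC
    rw [hrad] at hd
    let D := Scheme.IdealSheafData.vanishingIdeal ⟨C, isClosed_of_mem_irreducibleComponents C hC⟩
    let i := D.subschemeι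
    have hrange : Set.range i = C :=
      RedSepLib.range_vanishingIdeal_subschemeι ⟨C, isClosed_of_mem_irreducibleComponents C hC⟩
    have : IsIntegral D.subscheme := AffineComp.isIntegral_vanishingIdeal _ hC.1
    letI : D.subscheme.Over (Spec (CommRingCat.of k)) := ⟨i ≫ X ↘ Spec (CommRingCat.of k)⟩
    haveI : IsProper (D.subscheme ↘ Spec (CommRingCat.of k)) :=
      inferInstanceAs (IsProper (i ≫ X ↘ Spec (CommRingCat.of k)))
    have hdC : topologicalKrullDim D.subscheme ≤ 1 := by
      refine le_of_eq (Eq.trans ?_ (hdim C hC))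
      rw [← hrange]
      exact IsHomeomorph.topologicalKrullDim_eq _
        i.isClosedEmbedding.isEmbedding.toHomeomorph.isHomeomorph
    obtain ⟨y, hyC, hyG⟩ := hne
    obtain ⟨z, rfl⟩ : y ∈ Set.range i := hrange ▸ hyC
    have hz : z ∈ CohB1.genLocus _ (pullHom i s) := by
      rw [genLocus_pullHom i hL]; exact hyG
    have htop : CohB1.genLocus _ (pullHom i s) = ⊤ := by
      by_contra hne'
      exact absurd hd (not_le.2 (deg_pos (k := k) hdC (isInvertible_pullback i hL)
        (ne_zero_of_mem_genLocus hz) hne'))
    rw [genLocus_pullHom i hL] at htop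
    intro w hw
    obtain ⟨v, rfl⟩ : w ∈ Set.range i := hrange ▸ hw
    exact (htop.ge (Opens.mem_top v) : v ∈ i ⁻¹ᵁ G)
  have hclosed : IsClosed (G : Set X) := by
    have hG : (G : Set X) = ⋃ C ∈ {C ∈ irreducibleComponents (X : Type u) |
        (C ∩ (G : Set X)).Nonempty}, C := by
      refine Set.Subset.antisymm (fun x hx => Set.mem_biUnion
        ⟨irreducibleComponent_mem_irreducibleComponents x, x, mem_irreducibleComponent, hx⟩
        mem_irreducibleComponent) (Set.iUnion₂_subset fun C hC => key C hC.1 hC.2)
    rw [hG]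
    exact (NoetherianSpace.finite_irreducibleComponents.subset (Set.sep_subset _ _)).isClosed_biUnion
      fun C hC => isClosed_of_mem_irreducibleComponents C hC.1
  have hne : (G : Set X).Nonempty := by
    by_contra h
    exact hs (eq_zero_of_genLocus_empty hL fun x hx => h ⟨x, hx⟩)
  have htop : (G : Set X) = Set.univ := (IsClopen.eq_univ ⟨hclosed, G.2⟩) hne
  have : IsIso s := isIso_of_support_cokernel_empty hL s (Set.eq_empty_of_forall_notMem fun y hy =>
    support_cokernel_subset (TensorMod.isCoh_of_isInvertible hL)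
      (isCoh_structureModule (k := k)) s hy (show y ∈ (G : Set X) from htop ▸ trivial))
  exact ⟨(asIso s).symm⟩

end Groth.Agent.CurveDeg
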