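import Groth.Agent.CurveDeg.LocFree
import Groth.Agent.CurveDeg.Euler
import Groth.Agent.CompDerived.CohComp
import Groth.Agent.SheafHomLib.Basic
import Groth.Agent.FinLocFreeSections.Basic

/-! Tensoring with finite locally free modules: exactness, Euler characteristics, generic ranks. -/

set_option autoImplicit false
set_option backward.isDefEq.respectTransparency false
set_option backward.isDefEq.respectTransparency.types false

noncomputable section

universe u

open CategoryTheory Limits AlgebraicGeometry Opposite TopologicalSpace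
open Groth.Agent.QCohBase Groth.Agent.FrameHom

namespace Groth.Agent.CurveDeg

variable {X : Scheme.{u}}

/-- `E ⊗ -` applied to a short complex. -/
abbrev tensorSeq (E : X.Modules) (S : ShortComplex X.Modules) : ShortComplex X.Modules :=
  S.map ((DCoh.tensorBi (X := X)).obj E)

theorem shortExact_tensorLeft {E : X.Modules} (hE : FlatMod.IsFinLocFree E)
    {S : ShortComplex X.Modules} (hS : S.ShortExact) : (tensorSeq E S).ShortExact := by
  have := SheafHomLib.preservesFiniteLimits_tensor hE
  have hflip : PreservesColimitsOfSize.{u, u}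
      ((ModSite.tensorBi X.sheaf).flip.obj E) := inferInstance
  have hc : PreservesColimitsOfSize.{u, u} ((DCoh.tensorBi (X := X)).obj E) :=
    @preservesColimits_of_natIso X.Modules _ X.Modules _ _ _
      (SiteBase.braidIso (O := X.sheaf) E).symm hflip
  have : PreservesFiniteColimits ((DCoh.tensorBi (X := X)).obj E) :=
    PreservesColimitsOfSize.preservesFiniteColimits.{u, u} _
  exact hS.map_of_exact _

theorem isCoh_tensorLeft [IsLocallyNoetherian X] {E F : X.Modules} {n : ℕ} (hE : FlatMod.IsFinLocFreeOfRank n E)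
    (hF : Coh.IsCoh F) : Coh.IsCoh (CohB1.tensorMod E F) :=
  CompDerived.isCoh_of_iso' (TensorMod.commIso F E) (isCoh_tensorMod_locFree hF hE)

theorem isCoh_of_rank {E : X.Modules} {n : ℕ} (hE : FlatMod.IsFinLocFreeOfRank n E) : Coh.IsCoh E :=
  TensorMod.isCoh_of_isFinLocFree (TensorMod.isFinLocFree_of_rank hE)

/-- The stalks of a finite locally free module of rank `n` are free of rank `n`. -/
theorem finrank_stalk {E : X.Modules} {n : ℕ} (hE : FlatMod.IsFinLocFreeOfRank n E) (y : X)
    [Nontrivial (X.presheaf.stalk y)] :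
    Module.finrank (X.presheaf.stalk y) (E.presheaf.stalk y) = n := by
  obtain ⟨U, hU, hy, -, e, he⟩ := exists_basis_nhd hE (x := y) (W := ⊤) trivial
  have : E.IsQuasicoherent := (isCoh_of_rank hE).1
  let eb : (Fin n → Γ(X, U)) ≃ₗ[Γ(X, U)] Γ(E, U) := LinearEquiv.ofBijective
    { toFun := comb E e le_rfl
      map_add' := fun r r' => by simp only [comb, Pi.add_apply, add_smul, Finset.sum_add_distrib]
      map_smul' := fun c r => by
        simp only [comb, RingHom.id_apply, Pi.smul_apply, smul_eq_mul, mul_smul, Finset.smul_sum] }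
    (he U le_rfl)
  let b := Module.Basis.ofEquivFun eb.symm
  letI := FlatOver.germModule E y hy
  letI : Algebra Γ(X, U) (X.presheaf.stalk y) := (X.presheaf.germ U y hy).hom.toAlgebra
  haveI : IsLocalization.AtPrime (X.presheaf.stalk y) (hU.primeIdealOf ⟨y, hy⟩).asIdeal :=
    hU.isLocalization_stalk ⟨y, hy⟩
  haveI : IsScalarTower Γ(X, U) (X.presheaf.stalk y) (E.presheaf.stalk y) :=
    .of_algebraMap_smul fun r z => rfl
  haveI := FlatOver.isLocalizedModule_germₗ E hU y hy
  let b' := b.ofIsLocalizedModule (X.presheaf.stalk y)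
    (hU.primeIdealOf ⟨y, hy⟩).asIdeal.primeCompl (FlatOver.germₗ E y hy)
  rw [Module.finrank_eq_card_basis b', Fintype.card_fin]

variable {k : Type u} [Field k] [X.Over (Spec (CommRingCat.of k))] [IsProper (X ↘ Spec (CommRingCat.of k))]

theorem euler_tensorLeft_additive {E : X.Modules} {n : ℕ} (hE : FlatMod.IsFinLocFreeOfRank n E)
    (S : ShortComplex X.Modules) (hS : S.ShortExact) (h₁ : Coh.IsCoh S.X₁) (h₂ : Coh.IsCoh S.X₂)
    (h₃ : Coh.IsCoh S.X₃) :
    Curv2.euler k X (CohB1.tensorMod E S.X₂) =
      Curv2.euler k X (CohB1.tensorMod E S.X₁) + Curv2.euler k X (CohB1.tensorMod E S.X₃) :=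
  have := isNoetherian_of_proper (k := k) (X := X)
  euler_additive (k := k) (tensorSeq E S)
    (shortExact_tensorLeft (TensorMod.isFinLocFree_of_rank hE) hS)
    (isCoh_tensorLeft hE h₁) (isCoh_tensorLeft hE h₂) (isCoh_tensorLeft hE h₃)

theorem euler_tensorLeft_of_finite_support {M E : X.Modules} {n : ℕ} (hM : Coh.IsCoh M)
    (hE : FlatMod.IsFinLocFreeOfRank n E) {S : Set X} (hfin : S.Finite)
    (hcl : ∀ x ∈ S, IsClosed ({x} : Set X)) (hMS : CohB1.support M ⊆ S) :
    Curv2.euler k X (CohB1.tensorMod E M) = n * Curv2.euler k X M :=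
  (euler_congr (k := k) (TensorMod.commIso E M)).trans
    (euler_tensorMod_locFree_of_finite_support hM hE hfin hcl hMS)

theorem support_tensorLeft_subset (M : X.Modules) {E : X.Modules} {n : ℕ}
    (hE : FlatMod.IsFinLocFreeOfRank n E) :
    CohB1.support (CohB1.tensorMod E M) ⊆ CohB1.support M :=
  (Devissage.support_eq_of_iso (TensorMod.commIso E M)).le.trans (support_tensorMod_locFree_subset M hE)

end Groth.Agent.CurveDeg
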