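import Groth.Agent.CurveDeg.ZeroDim
import Groth.Agent.CurveDeg.Supp
import Groth.Agent.QCohBase.Support
import Groth.Agent.ProjUPLib.GlobGen
import Groth.Prelude.Def_Curv2

/-! Coherent modules with zero-dimensional support. -/

set_option autoImplicit false
set_option backward.isDefEq.respectTransparency false
set_option backward.isDefEq.respectTransparency.types false

noncomputable section

universe u

open CategoryTheory Limits AlgebraicGeometry Opposite TopologicalSpace
open Groth.Agent.QCohBase Groth.Agent.GenLocus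

namespace Groth.Agent.CurveDeg

variable {k : Type u} [Field k] {X : Scheme.{u}} [X.Over (Spec (CommRingCat.of k))]
  [IsProper (X ↘ Spec (CommRingCat.of k))]

include k in
theorem finite_support (F : X.Modules) (hF : Coh.IsCoh F)
    (hsupp : topologicalKrullDim (CohB1.support F) ≤ 0) :
    (CohB1.support F).Finite ∧ ∀ x ∈ CohB1.support F, IsClosed ({x} : Set X) := by
  have := isNoetherian_of_proper (k := k) (X := X)
  exact finite_of_dim_le_zero (QCohBase.isClosed_support F hF.2) hsupp

theorem isGloballyGenerated_of_finite_support (F : X.Modules) {S : Set X} (hfin : S.Finite)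
    (hcl : ∀ x ∈ S, IsClosed ({x} : Set X)) (hFS : CohB1.support F ⊆ S) :
    Curv2.IsGloballyGenerated F := by
  refine ProjUPLib.isGloballyGenerated_of_generatedBy (ι := Γ(F, ⊤)) (fun s => s) fun x => ?_
  rw [eq_top_iff]
  intro z _
  by_cases hx : x ∈ S
  swap
  · rw [@Subsingleton.elim _ (not_not.1 fun h => hx (hFS h)) z 0]
    exact Submodule.zero_mem _
  refine Submodule.subset_span ?_
  obtain ⟨V, hxV, t, rfl⟩ := TopCat.Presheaf.exists_germ_eq (F := F.presheaf) z
  have hS : IsClosed S := by
    rw [← Set.biUnion_of_singleton S]; exact hfin.isClosed_biUnion hcl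
  let C : S → X.Opens := fun y => ⟨(S \ {y.1})ᶜ, IsClosed.isOpen_compl (self := by
    rw [← Set.biUnion_of_singleton (S \ {y.1})]
    exact (hfin.sdiff).isClosed_biUnion fun w hw => hcl w hw.1)⟩
  classical
  let x₀ : S := ⟨x, hx⟩
  let U : S → X.Opens := fun y => if y = x₀ then C y ⊓ V else C y
  have hUC : ∀ y, U y ≤ C y := fun y => by dsimp only [U]; split_ifs <;> simp
  have hU : ∀ y : S, y.1 ∈ U y := fun y => by
    dsimp only [U]; split_ifs with h
    · exact ⟨fun hy => hy.2 rfl, h ▸ hxV⟩
    · exact fun hy => hy.2 rfl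
  have hUV : U x₀ ≤ V := le_of_eq (if_pos rfl) |>.trans inf_le_right
  have hone : ∀ (y : S) (w : X), w ∈ U y → w ∈ S → w = y.1 := fun y w hw hwS => by
    by_contra hne
    exact (hUC y hw : w ∈ (S \ {y.1})ᶜ) ⟨hwS, hne⟩
  obtain ⟨m, hm⟩ := (bijective_split F hS hFS U hU hone).2
    (Function.update 0 x₀ (mres F hUV t))
  refine ⟨m, ?_⟩
  have h1 : mres F (le_top : U x₀ ≤ ⊤) m = mres F hUV t :=
    (congrFun hm x₀).trans (Function.update_self ..)
  show F.presheaf.germ ⊤ x trivial m = F.presheaf.germ V x hxV t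
  rw [← AssPts.germ_mres F x (le_top : U x₀ ≤ ⊤) (hU x₀) m,
    ← AssPts.germ_mres F x hUV (hU x₀) t, h1]

end Groth.Agent.CurveDeg
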